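import Groth.Prelude.Def_FibCat2

/-!
# Categories over a base: two-morphisms, equivalences over the base, lifts in groupoid fibrations
-/

set_option autoImplicit false
set_option backward.isDefEq.respectTransparency false
set_option backward.isDefEq.respectTransparency.types false

universe v₅ u₅ v₄ u₄ v₃ u₃ v₂ u₂ v u

open CategoryTheory CategoryTheory.Functor

namespace Groth.Agent.Lib.AlgStack.BasedBasic

variable {C : Type u} [Category.{v} C]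

section TwoCells

variable {𝒳 : BasedCategory.{v₂, u₂} C} {𝒴 : BasedCategory.{v₃, u₃} C}
  {𝒵 : BasedCategory.{v₄, u₄} C}

/-- The component of a 2-isomorphism over the base. -/
abbrev appIso {F G : 𝒳 ⥤ᵇ 𝒴} (e : F ≅ G) (a : 𝒳.obj) : F.obj a ≅ G.obj a :=
  ((BasedNatTrans.forgetful _ _).mapIso e).app a

theorem appIso_isHomLift {F G : 𝒳 ⥤ᵇ 𝒴} (e : F ≅ G) (a : 𝒳.obj) :
    𝒴.p.IsHomLift (𝟙 (𝒳.p.obj a)) (appIso e a).hom :=
  BasedNatTrans.isHomLift e.hom rfl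

/-- Left whiskering of a 2-isomorphism. -/
def isoWhiskerLeft (F : 𝒳 ⥤ᵇ 𝒴) {G H : 𝒴 ⥤ᵇ 𝒵} (e : G ≅ H) :
    BasedFunctor.comp F G ≅ BasedFunctor.comp F H :=
  BasedNatIso.mkNatIso
    (Functor.isoWhiskerLeft F.toFunctor ((BasedNatTrans.forgetful _ _).mapIso e))
    (fun a => BasedNatTrans.isHomLift e.hom (F.w_obj a))

/-- Right whiskering of a 2-isomorphism. -/
def isoWhiskerRight {F G : 𝒳 ⥤ᵇ 𝒴} (e : F ≅ G) (H : 𝒴 ⥤ᵇ 𝒵) :
    BasedFunctor.comp F H ≅ BasedFunctor.comp G H :=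
  BasedNatIso.mkNatIso
    (Functor.isoWhiskerRight ((BasedNatTrans.forgetful _ _).mapIso e) H.toFunctor)
    (fun a => by
      have := appIso_isHomLift e a
      exact BasedFunctor.preserves_isHomLift H _ (appIso e a).hom)

@[simp] theorem appIso_isoWhiskerLeft (F : 𝒳 ⥤ᵇ 𝒴) {G H : 𝒴 ⥤ᵇ 𝒵} (e : G ≅ H) (a : 𝒳.obj) :
    appIso (isoWhiskerLeft F e) a = appIso e (F.obj a) := rfl

theorem appIso_trans {F G H : 𝒳 ⥤ᵇ 𝒴} (e : F ≅ G) (e' : G ≅ H) (a : 𝒳.obj) :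
    appIso (e ≪≫ e') a = appIso e a ≪≫ appIso e' a := rfl

end TwoCells

section Equiv

variable {𝒳 : BasedCategory.{v₂, u₂} C} {𝒴 : BasedCategory.{v₃, u₃} C}
  {𝒵 : BasedCategory.{v₄, u₄} C}

/-- Criterion for an equivalence over the base. -/
theorem isEquivOver_of (F : 𝒳 ⥤ᵇ 𝒴) [F.toFunctor.Full] [F.toFunctor.Faithful]
    (h : ∀ η : 𝒴.obj, ∃ (ξ : 𝒳.obj) (e : F.obj ξ ≅ η),
      𝒴.p.IsHomLift (𝟙 (𝒴.p.obj η)) e.hom) : FibCat.IsEquivOver F := by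
  choose ξ e he using h
  let pre {a b : 𝒳.obj} (g : F.obj a ⟶ F.obj b) : a ⟶ b := F.toFunctor.preimage g
  have hpre {a b : 𝒳.obj} (g : F.obj a ⟶ F.obj b) : F.map (pre g) = g :=
    F.toFunctor.map_preimage g
  have hξ (η : 𝒴.obj) : 𝒳.p.obj (ξ η) = 𝒴.p.obj η := by
    have := he η
    exact (F.w_obj (ξ η)).symm.trans (IsHomLift.domain_eq 𝒴.p (𝟙 (𝒴.p.obj η)) (e η).hom)
  let G : 𝒴 ⥤ᵇ 𝒳 :=
    { toFunctor :=
        { obj := ξ
          map := fun {η η'} f => pre ((e η).hom ≫ f ≫ (e η').inv)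
          map_id := fun η => F.toFunctor.map_injective (by simp [hpre])
          map_comp := fun f g => F.toFunctor.map_injective (by simp [hpre]) }
      w := Functor.ext hξ (fun η η' f => by
        have := he η
        have := he η'
        have h2 : 𝒴.p.IsHomLift (𝟙 (𝒴.p.obj η')) (e η').inv :=
          IsHomLift.lift_id_inv 𝒴.p (𝒴.p.obj η') (e η')
        have h3 : 𝒴.p.IsHomLift (𝒴.p.map f) ((e η).hom ≫ f ≫ (e η').inv) := inferInstance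
        have h4 : 𝒳.p.IsHomLift (𝒴.p.map f) (pre ((e η).hom ≫ f ≫ (e η').inv)) :=
          (BasedFunctor.isHomLift_iff F _ _).1 (by rw [hpre]; exact h3)
        simpa using IsHomLift.fac' 𝒳.p (𝒴.p.map f) (pre ((e η).hom ≫ f ≫ (e η').inv))) }
  refine ⟨G, ⟨BasedNatIso.mkNatIso
      (NatIso.ofComponents (fun x => F.toFunctor.preimageIso (e (F.obj x))) ?_) ?_⟩,
    ⟨BasedNatIso.mkNatIso (NatIso.ofComponents (fun η => e η) ?_) (fun η => he η)⟩⟩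
  · intro x y f
    apply F.toFunctor.map_injective
    simp only [Functor.map_comp, Functor.preimageIso_hom, Functor.map_preimage]
    change F.map (pre ((e (F.obj x)).hom ≫ F.map f ≫ (e (F.obj y)).inv)) ≫ (e (F.obj y)).hom =
      (e (F.obj x)).hom ≫ F.map f
    simp [hpre]
  · intro x
    have h5 : 𝒴.p.IsHomLift (𝟙 (𝒳.p.obj x)) (e (F.obj x)).hom := F.w_obj x ▸ he (F.obj x)
    exact (BasedFunctor.isHomLift_iff F _ _).1 (by simpa using h5)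
  · intro η η' f
    change F.map (pre ((e η).hom ≫ f ≫ (e η').inv)) ≫ (e η').hom = (e η).hom ≫ f
    simp [hpre]

/-- An equivalence over the base has an equivalence as underlying functor. -/
theorem isEquivalence_toFunctor {F : 𝒳 ⥤ᵇ 𝒴} (hF : FibCat.IsEquivOver F) :
    F.toFunctor.IsEquivalence := by
  obtain ⟨G, ⟨η⟩, ⟨ε⟩⟩ := hF
  exact (CategoryTheory.Equivalence.mk F.toFunctor G.toFunctor
    ((BasedNatTrans.forgetful _ _).mapIso η).symm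
    ((BasedNatTrans.forgetful _ _).mapIso ε)).isEquivalence_functor

theorem IsEquivOver.full {F : 𝒳 ⥤ᵇ 𝒴} (hF : FibCat.IsEquivOver F) : F.toFunctor.Full :=
  have := isEquivalence_toFunctor hF; inferInstance

theorem IsEquivOver.faithful {F : 𝒳 ⥤ᵇ 𝒴} (hF : FibCat.IsEquivOver F) : F.toFunctor.Faithful :=
  have := isEquivalence_toFunctor hF; inferInstance

theorem IsEquivOver.exists_iso {F : 𝒳 ⥤ᵇ 𝒴} (hF : FibCat.IsEquivOver F) (η : 𝒴.obj) :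
    ∃ (ξ : 𝒳.obj) (e : F.obj ξ ≅ η), 𝒴.p.IsHomLift (𝟙 (𝒴.p.obj η)) e.hom := by
  obtain ⟨G, -, ⟨ε⟩⟩ := hF
  exact ⟨G.obj η, appIso ε η, appIso_isHomLift ε η⟩

theorem isEquivOver_id : FibCat.IsEquivOver (BasedFunctor.id 𝒳) :=
  ⟨BasedFunctor.id 𝒳, ⟨Iso.refl _⟩, ⟨Iso.refl _⟩⟩

theorem IsEquivOver.of_iso {F F' : 𝒳 ⥤ᵇ 𝒴} (hF : FibCat.IsEquivOver F) (e : F ≅ F') :
    FibCat.IsEquivOver F' := by
  obtain ⟨G, ⟨η⟩, ⟨ε⟩⟩ := hF
  exact ⟨G, ⟨isoWhiskerRight e.symm G ≪≫ η⟩, ⟨isoWhiskerLeft G e.symm ≪≫ ε⟩⟩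

theorem IsEquivOver.comp {F : 𝒳 ⥤ᵇ 𝒴} {F' : 𝒴 ⥤ᵇ 𝒵} (hF : FibCat.IsEquivOver F)
    (hF' : FibCat.IsEquivOver F') : FibCat.IsEquivOver (BasedFunctor.comp F F') := by
  obtain ⟨G, ⟨η⟩, ⟨ε⟩⟩ := hF
  obtain ⟨G', ⟨η'⟩, ⟨ε'⟩⟩ := hF'
  exact ⟨BasedFunctor.comp G' G,
    ⟨isoWhiskerLeft F (isoWhiskerRight η' G) ≪≫ η⟩,
    ⟨isoWhiskerLeft G' (isoWhiskerRight ε F') ≪≫ ε'⟩⟩

theorem IsEquivOver.exists_inverse {F : 𝒳 ⥤ᵇ 𝒴} (hF : FibCat.IsEquivOver F) :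
    ∃ G : 𝒴 ⥤ᵇ 𝒳, FibCat.IsEquivOver G ∧ Nonempty (BasedFunctor.comp F G ≅ BasedFunctor.id 𝒳) ∧
      Nonempty (BasedFunctor.comp G F ≅ BasedFunctor.id 𝒴) := by
  obtain ⟨G, η, ε⟩ := hF
  exact ⟨G, ⟨F, ε, η⟩, η, ε⟩

theorem IsEquivOver.of_comp_right {F : 𝒳 ⥤ᵇ 𝒴} {F' : 𝒴 ⥤ᵇ 𝒵}
    (hF' : FibCat.IsEquivOver F') (h : FibCat.IsEquivOver (BasedFunctor.comp F F')) :
    FibCat.IsEquivOver F := by
  obtain ⟨G', hG', ⟨η'⟩, ⟨ε'⟩⟩ := IsEquivOver.exists_inverse hF'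
  exact IsEquivOver.of_iso (IsEquivOver.comp h hG') (isoWhiskerLeft F η')

theorem IsEquivOver.of_comp_left {F : 𝒳 ⥤ᵇ 𝒴} {F' : 𝒴 ⥤ᵇ 𝒵}
    (hF : FibCat.IsEquivOver F) (h : FibCat.IsEquivOver (BasedFunctor.comp F F')) :
    FibCat.IsEquivOver F' := by
  obtain ⟨G, hG, ⟨η⟩, ⟨ε⟩⟩ := IsEquivOver.exists_inverse hF
  exact IsEquivOver.of_iso (IsEquivOver.comp hG h) (isoWhiskerRight ε F')

end Equiv

section FibGrpd

variable {𝒳 : Type u₂} [Category.{v₂} 𝒳] {p : 𝒳 ⥤ C} (hp : FibCat.IsFibGrpd p)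

include hp

/-- Factorisation through any morphism of a category fibred in groupoids. -/
theorem exists_lift_through {R : C} {a b z : 𝒳} (φ : b ⟶ a) (χ : z ⟶ a) (g : R ⟶ p.obj b)
    [p.IsHomLift (g ≫ p.map φ) χ] : ∃ ψ : z ⟶ b, p.IsHomLift g ψ ∧ ψ ≫ φ = χ := by
  have := hp.isStronglyCartesian φ
  exact ⟨IsStronglyCartesian.map p (p.map φ) φ (g := g) rfl χ, inferInstance, IsStronglyCartesian.fac _ _ _ _ _⟩

/-- Morphisms to the source of `φ` with equal composites and equal images are equal. -/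
theorem hom_eq_of_comp_eq {a b z : 𝒳} (φ : b ⟶ a) {ψ ψ' : z ⟶ b}
    (hbase : p.map ψ = p.map ψ') (h : ψ ≫ φ = ψ' ≫ φ) : ψ = ψ' := by
  have := hp.isStronglyCartesian φ
  have : p.IsHomLift (p.map ψ) ψ' := hbase ▸ IsHomLift.map p ψ'
  exact IsStronglyCartesian.ext p (p.map φ) φ (p.map ψ) h

/-- A morphism over an isomorphism is an isomorphism. -/
theorem isIso_of_base_isIso {a b : 𝒳} (φ : b ⟶ a) [IsIso (p.map φ)] : IsIso φ := by
  have := hp.isStronglyCartesian φ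
  exact IsStronglyCartesian.isIso_of_base_isIso p (p.map φ) φ

theorem isIso_of_isHomLift_iso {R R' : C} {a b : 𝒳} (f : R ⟶ R') [IsIso f] (φ : b ⟶ a)
    [p.IsHomLift f φ] : IsIso φ := by
  have : IsIso (p.map φ) := by rw [IsHomLift.fac' p f φ]; infer_instance
  exact isIso_of_base_isIso hp φ

theorem isIso_of_isHomLift_id {R : C} {a b : 𝒳} (φ : b ⟶ a) [p.IsHomLift (𝟙 R) φ] : IsIso φ :=
  isIso_of_isHomLift_iso hp (𝟙 R) φ

/-- Lifts of morphisms with prescribed target. -/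
theorem exists_lift' {x : 𝒳} {V U : C} (f : V ⟶ U) (hx : p.obj x = U) :
    ∃ (y : 𝒳) (φ : y ⟶ x), p.IsHomLift f φ := by
  subst hx
  exact hp.exists_lift f

end FibGrpd

end Groth.Agent.Lib.AlgStack.BasedBasic
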