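import Groth.Agent.Lib.AlgStack.Source

/-!
# Calculus of diagonals: base change, composition, cancellation
-/

set_option autoImplicit false
set_option backward.isDefEq.respectTransparency false
set_option backward.isDefEq.respectTransparency.types false

universe u

open CategoryTheory CategoryTheory.Limits AlgebraicGeometry Opposite

namespace Groth.Agent.Lib.AlgStack.DiagCalc

open BasedBasic OfPsh FibProd Rep Space CompRep
open FibCat (IsEquivOver IsFibGrpd fp fpFst fpSnd fpLift fpIso overCat toSelf)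
open AlgSt (ofSp ofSpMap spMapOfOver ofOverCat toOverCat RepByAlgSp1 RepByAlgSpWith)
open AlgSp (Sp yon IsAlgSpace RepWith)

section Generic

universe v₂ u₂ v₄ u₄ v u₀

variable {C : Type u₀} [Category.{v} C] {𝒲 : BasedCategory.{v₂, u₂} C}
  {ℰ ℱ ℬ : BasedCategory.{v₄, u₄} C} (f : ℱ ⥤ᵇ ℰ) (g : ℬ ⥤ᵇ ℰ)

/-- The 2-cell filling the square of the base change of the diagonal. -/
abbrev bcCell : BasedFunctor.comp (BasedFunctor.comp (fpFst (fpFst g f) (fpFst g f)) (fpSnd g f)) f ≅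
    BasedFunctor.comp (BasedFunctor.comp (fpSnd (fpFst g f) (fpFst g f)) (fpSnd g f)) f :=
  (BasedBasic.isoWhiskerLeft (fpFst (fpFst g f) (fpFst g f)) (fpIso g f)).symm ≪≫
    BasedBasic.isoWhiskerRight (fpIso (fpFst g f) (fpFst g f)) g ≪≫
      BasedBasic.isoWhiskerLeft (fpSnd (fpFst g f) (fpFst g f)) (fpIso g f)

/-- The map on diagonal targets of a base change. -/
abbrev bcProj : fp (fpFst g f) (fpFst g f) ⥤ᵇ fp f f :=
  fpLift (BasedFunctor.comp (fpFst (fpFst g f) (fpFst g f)) (fpSnd g f))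
    (BasedFunctor.comp (fpSnd (fpFst g f) (fpFst g f)) (fpSnd g f)) (bcCell f g)

/-- The square of diagonals commutes. -/
def bcSquare : BasedFunctor.comp (FibCat.diag (fpFst g f)) (bcProj f g) ≅
    BasedFunctor.comp (fpSnd g f) (FibCat.diag f) where
  hom := StkFp.fpHom (𝟙 (fpSnd g f)) (𝟙 (fpSnd g f)) (fun η => by
    change f.map (𝟙 η.obj.snd) ≫ 𝟙 _ =
      (η.obj.iso.inv ≫ g.map (𝟙 η.obj.fst) ≫ η.obj.iso.hom) ≫ f.map (𝟙 η.obj.snd)
    simp)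
  inv := StkFp.fpHom (𝟙 (fpSnd g f)) (𝟙 (fpSnd g f)) (fun η => by
    change f.map (𝟙 η.obj.snd) ≫ (η.obj.iso.inv ≫ g.map (𝟙 η.obj.fst) ≫ η.obj.iso.hom) =
      𝟙 _ ≫ f.map (𝟙 η.obj.snd)
    simp)
  hom_inv_id := StkBasic.hom_ext fun η => FibProd.hom_ext (Category.comp_id _) (Category.comp_id _)
  inv_hom_id := StkBasic.hom_ext fun η => FibProd.hom_ext (Category.comp_id _) (Category.comp_id _)

variable (z : 𝒲 ⥤ᵇ fp (fpFst g f) (fpFst g f))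

/-- Base changes of the diagonal of a base change are base changes of the diagonal. -/
def bcDiag : fp z (FibCat.diag (fpFst g f)) ⥤ᵇ fp (BasedFunctor.comp z (bcProj f g)) (FibCat.diag f) :=
  fpLift (fpFst z _) (BasedFunctor.comp (fpSnd z _) (fpSnd g f))
    (BasedBasic.isoWhiskerRight (fpIso z (FibCat.diag (fpFst g f))) (bcProj f g) ≪≫
      BasedBasic.isoWhiskerLeft (fpSnd z (FibCat.diag (fpFst g f))) (bcSquare f g))

theorem bcDiag_iso_fst (a : (fp z (FibCat.diag (fpFst g f))).obj) :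
    ((bcDiag f g z).obj a).obj.iso.hom.hom.fst = a.obj.iso.hom.hom.fst.hom.snd := Category.comp_id _

theorem bcDiag_iso_snd (a : (fp z (FibCat.diag (fpFst g f))).obj) :
    ((bcDiag f g z).obj a).obj.iso.hom.hom.snd = a.obj.iso.hom.hom.snd.hom.snd := Category.comp_id _

theorem isEquivOver_bcDiag : IsEquivOver (bcDiag f g z) := by
  have : (bcDiag f g z).toFunctor.Faithful := ⟨fun {a b φ ψ} h => by
    have h1 : φ.hom.fst = ψ.hom.fst := congrArg (fun m => m.hom.fst) h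
    refine FibProd.hom_ext h1 ?_
    have w1 : (z.map φ.hom.fst).hom.fst ≫ b.obj.iso.hom.hom.fst = a.obj.iso.hom.hom.fst ≫ φ.hom.snd :=
      congrArg (fun m => m.hom.fst) φ.hom.w
    have w2 : (z.map ψ.hom.fst).hom.fst ≫ b.obj.iso.hom.hom.fst = a.obj.iso.hom.hom.fst ≫ ψ.hom.snd :=
      congrArg (fun m => m.hom.fst) ψ.hom.w
    rw [h1, w2] at w1
    have hff : a.obj.iso.inv.hom.fst ≫ a.obj.iso.hom.hom.fst = 𝟙 _ :=
      congrArg (fun m => m.hom.fst) a.obj.iso.inv_hom_id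
    have := congrArg (fun m => a.obj.iso.inv.hom.fst ≫ m) w1
    simp only [← Category.assoc, hff] at this
    simpa using this.symm⟩
  have : (bcDiag f g z).toFunctor.Full := ⟨fun {a b} m => by
    let u := m.hom.fst
    let v : a.obj.snd ⟶ b.obj.snd :=
      a.obj.iso.inv.hom.fst ≫ (z.map u).hom.fst ≫ b.obj.iso.hom.hom.fst
    have hfs : a.obj.iso.hom.hom.fst ≫ a.obj.iso.inv.hom.fst = 𝟙 _ :=
      congrArg (fun t => t.hom.fst) a.obj.iso.hom_inv_id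
    have hfs' : a.obj.iso.inv.hom.fst ≫ a.obj.iso.hom.hom.fst = 𝟙 _ :=
      congrArg (fun t => t.hom.fst) a.obj.iso.inv_hom_id
    have w1 : (z.map u).hom.fst.hom.snd ≫ ((bcDiag f g z).obj b).obj.iso.hom.hom.fst =
        ((bcDiag f g z).obj a).obj.iso.hom.hom.fst ≫ m.hom.snd :=
      congrArg (fun t => t.hom.fst) m.hom.w
    have w2 : (z.map u).hom.snd.hom.snd ≫ ((bcDiag f g z).obj b).obj.iso.hom.hom.snd =
        ((bcDiag f g z).obj a).obj.iso.hom.hom.snd ≫ m.hom.snd :=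
      congrArg (fun t => t.hom.snd) m.hom.w
    rw [bcDiag_iso_fst, bcDiag_iso_fst] at w1
    rw [bcDiag_iso_snd, bcDiag_iso_snd] at w2
    have hv1 : a.obj.iso.hom.hom.fst ≫ v = (z.map u).hom.fst ≫ b.obj.iso.hom.hom.fst := by
      simp only [v, reassoc_of% hfs]
    have hv : v.hom.snd = m.hom.snd := by
      change a.obj.iso.inv.hom.fst.hom.snd ≫ (z.map u).hom.fst.hom.snd ≫ b.obj.iso.hom.hom.fst.hom.snd = _
      rw [w1, ← Category.assoc]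
      have : a.obj.iso.inv.hom.fst.hom.snd ≫ a.obj.iso.hom.hom.fst.hom.snd = 𝟙 _ :=
        congrArg (fun t => t.hom.snd) hfs'
      rw [this]
      exact Category.id_comp _
    refine ⟨FibProd.homMk u v (FibProd.hom_ext hv1.symm (FibProd.hom_ext ?_ ?_)),
      FibProd.hom_ext rfl hv⟩
    · change (z.map u).hom.snd.hom.fst ≫ b.obj.iso.hom.hom.snd.hom.fst =
        a.obj.iso.hom.hom.snd.hom.fst ≫ v.hom.fst
      have ka : a.obj.iso.hom.hom.fst.hom.fst ≫ 𝟙 _ =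
          (z.obj a.obj.fst).obj.iso.hom ≫ a.obj.iso.hom.hom.snd.hom.fst := a.obj.iso.hom.hom.w
      have kb : b.obj.iso.hom.hom.fst.hom.fst ≫ 𝟙 _ =
          (z.obj b.obj.fst).obj.iso.hom ≫ b.obj.iso.hom.hom.snd.hom.fst := b.obj.iso.hom.hom.w
      have kz : (z.map u).hom.fst.hom.fst ≫ (z.obj b.obj.fst).obj.iso.hom =
          (z.obj a.obj.fst).obj.iso.hom ≫ (z.map u).hom.snd.hom.fst := (z.map u).hom.w
      have hv1' : a.obj.iso.hom.hom.fst.hom.fst ≫ v.hom.fst =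
          (z.map u).hom.fst.hom.fst ≫ b.obj.iso.hom.hom.fst.hom.fst :=
        congrArg (fun t => t.hom.fst) hv1
      rw [Category.comp_id] at ka kb
      rw [← cancel_epi (z.obj a.obj.fst).obj.iso.hom]
      erw [← reassoc_of% kz, ← kb, ← hv1', ka, Category.assoc]
    · change (z.map u).hom.snd.hom.snd ≫ b.obj.iso.hom.hom.snd.hom.snd =
        a.obj.iso.hom.hom.snd.hom.snd ≫ v.hom.snd
      rw [hv]; exact w2⟩
  refine isEquivOver_of _ fun η => ?_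
  let t := η.obj.fst
  let p₁ := (z.obj t).obj.fst
  let p₂ := (z.obj t).obj.snd
  let ψ₁ : p₁.obj.snd ≅ η.obj.snd := (fpFst f f).toFunctor.mapIso η.obj.iso
  let ψ₂ : p₂.obj.snd ≅ η.obj.snd := (fpSnd f f).toFunctor.mapIso η.obj.iso
  let k : p₁.obj.fst ≅ p₂.obj.fst := (z.obj t).obj.iso
  let T := 𝒲.p.obj t
  have hη : (fp f f).p.IsHomLift (𝟙 T) η.obj.iso.hom := η.property
  have h₁ : ℱ.p.IsHomLift (𝟙 T) ψ₁.hom := BasedFunctor.preserves_isHomLift (fpFst f f) _ _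
  have hp₁ : ℬ.p.obj p₁.obj.fst = T := z.w_obj t
  have hξ : ℰ.p.IsHomLift (𝟙 T) p₁.obj.iso.hom := by
    have h : ℰ.p.IsHomLift (𝟙 (ℬ.p.obj p₁.obj.fst)) p₁.obj.iso.hom := p₁.property
    rwa [hp₁] at h
  have hl : ℰ.p.IsHomLift (𝟙 T) (p₁.obj.iso ≪≫ f.toFunctor.mapIso ψ₁).hom := by
    change ℰ.p.IsHomLift (𝟙 T) (p₁.obj.iso.hom ≫ f.map ψ₁.hom); infer_instance
  let x : (fp g f).obj :=
    ⟨{ fst := p₁.obj.fst, snd := η.obj.snd, iso := p₁.obj.iso ≪≫ f.toFunctor.mapIso ψ₁ }, by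
      change ℰ.p.IsHomLift (𝟙 (ℬ.p.obj p₁.obj.fst)) _
      rw [hp₁]; exact hl⟩
  let E₁ : p₁ ≅ x :=
    { hom := FibProd.homMk (𝟙 p₁.obj.fst) ψ₁.hom (by
        change g.map (𝟙 p₁.obj.fst) ≫ (p₁.obj.iso.hom ≫ f.map ψ₁.hom) = p₁.obj.iso.hom ≫ f.map ψ₁.hom
        simp)
      inv := FibProd.homMk (𝟙 p₁.obj.fst) ψ₁.inv (by
        change g.map (𝟙 p₁.obj.fst) ≫ p₁.obj.iso.hom = (p₁.obj.iso.hom ≫ f.map ψ₁.hom) ≫ f.map ψ₁.inv
        simp [← CategoryTheory.Functor.map_comp])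
      hom_inv_id := FibProd.hom_ext (Category.comp_id _) ψ₁.hom_inv_id
      inv_hom_id := FibProd.hom_ext (Category.comp_id _) ψ₁.inv_hom_id }
  have hw : f.map ψ₁.hom ≫ 𝟙 _ =
      (p₁.obj.iso.inv ≫ g.map k.hom ≫ p₂.obj.iso.hom) ≫ f.map ψ₂.hom := η.obj.iso.hom.hom.w
  rw [Category.comp_id] at hw
  have hw' : p₁.obj.iso.hom ≫ f.map ψ₁.hom = g.map k.hom ≫ p₂.obj.iso.hom ≫ f.map ψ₂.hom := by
    rw [hw]; simp
  have hw'' : g.map k.inv ≫ (p₁.obj.iso.hom ≫ f.map ψ₁.hom) = p₂.obj.iso.hom ≫ f.map ψ₂.hom := by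
    rw [hw']; simp [← CategoryTheory.Functor.map_comp_assoc]
  let E₂ : p₂ ≅ x :=
    { hom := FibProd.homMk k.inv ψ₂.hom hw''
      inv := FibProd.homMk k.hom ψ₂.inv (by
        change g.map k.hom ≫ p₂.obj.iso.hom = (p₁.obj.iso.hom ≫ f.map ψ₁.hom) ≫ f.map ψ₂.inv
        rw [hw']
        simp [← CategoryTheory.Functor.map_comp])
      hom_inv_id := FibProd.hom_ext k.inv_hom_id ψ₂.hom_inv_id
      inv_hom_id := FibProd.hom_ext k.hom_inv_id ψ₂.inv_hom_id }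
  let θ : z.obj t ≅ (FibCat.diag (fpFst g f)).obj x :=
    { hom := FibProd.homMk E₁.hom E₂.hom (by
        change (𝟙 p₁.obj.fst) ≫ 𝟙 _ = k.hom ≫ k.inv
        simp)
      inv := FibProd.homMk E₁.inv E₂.inv (by
        change (𝟙 p₁.obj.fst) ≫ k.hom = 𝟙 _ ≫ k.hom
        rfl)
      hom_inv_id := FibProd.hom_ext E₁.hom_inv_id E₂.hom_inv_id
      inv_hom_id := FibProd.hom_ext E₁.inv_hom_id E₂.inv_hom_id }
  have hθ : (fp (fpFst g f) (fpFst g f)).p.IsHomLift (𝟙 T) θ.hom :=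
    IsHomLift.of_fac' _ _ _ hp₁ hp₁ (by
      change ℬ.p.map (𝟙 p₁.obj.fst) = _
      simp; rfl)
  refine ⟨FibProd.objMk t x θ hθ, exists_iso_over (Iso.refl t) (Iso.refl η.obj.snd)
    (FibProd.hom_ext ?_ ?_) (IsHomLift.id rfl)⟩
  · change (z.map (𝟙 t)).hom.fst.hom.snd ≫ η.obj.iso.hom.hom.fst = (ψ₁.hom ≫ 𝟙 _) ≫ 𝟙 _
    simp
    rfl
  · change (z.map (𝟙 t)).hom.snd.hom.snd ≫ η.obj.iso.hom.hom.snd = (ψ₂.hom ≫ 𝟙 _) ≫ 𝟙 _
    simp
    rfl

end Generic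

variable {S : Scheme.{u}} {𝒳 𝒴 𝒵 : AlgSt.Cat S} {P : MorphismProperty (Sp S)}

theorem bcDiag_fst {𝒲 : AlgSt.Cat S} (f : 𝒳 ⥤ᵇ 𝒴) (g : 𝒵 ⥤ᵇ 𝒴)
    (z : 𝒲 ⥤ᵇ fp (fpFst g f) (fpFst g f)) :
    BasedFunctor.comp (bcDiag f g z) (fpFst (BasedFunctor.comp z (bcProj f g)) (FibCat.diag f)) =
      fpFst z (FibCat.diag (fpFst g f)) := rfl

/-- The diagonal of a base change has the properties of the diagonal. -/
theorem diag_fpFst {f : 𝒳 ⥤ᵇ 𝒴} (g : 𝒵 ⥤ᵇ 𝒴) (h : RepByAlgSpWith P (FibCat.diag f)) :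
    RepByAlgSpWith P (FibCat.diag (fpFst g f)) := by
  refine repByAlgSpWith_of_forall h fun U z => ?_
  obtain ⟨q, hq, -, ⟨ε⟩⟩ := BasedBasic.IsEquivOver.exists_inverse (isEquivOver_bcDiag f g z)
  exact ⟨BasedFunctor.comp z (bcProj f g), q, hq,
    ⟨BasedBasic.isoWhiskerRight ε (fpFst (BasedFunctor.comp z (bcProj f g)) (FibCat.diag f))⟩⟩

/-- The diagonal has a property iff the diagonals of all base changes to schemes have it. -/
theorem diag_iff_baseChange {f : 𝒳 ⥤ᵇ 𝒴} :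
    RepByAlgSpWith P (FibCat.diag f) ↔
      ∀ (T : Over S) (y : overCat T ⥤ᵇ 𝒴), RepByAlgSpWith P (FibCat.diag (fpFst y f)) := by
  refine ⟨fun h T y => diag_fpFst y h, fun h U z => ?_⟩
  let y := BasedFunctor.comp (BasedFunctor.comp z (fpFst f f)) f
  let z' : overCat U ⥤ᵇ fp (fpFst y f) (fpFst y f) :=
    fpLift (fpLift (BasedFunctor.id _) (BasedFunctor.comp z (fpFst f f)) (Iso.refl y))
      (fpLift (BasedFunctor.id _) (BasedFunctor.comp z (fpSnd f f))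
        (BasedBasic.isoWhiskerLeft z (fpIso f f))) (Iso.refl _)
  let i : BasedFunctor.comp z' (bcProj f y) ≅ z :=
    { hom := StkFp.fpHom (𝟙 (BasedFunctor.comp z (fpFst f f))) (𝟙 (BasedFunctor.comp z (fpSnd f f)))
        (fun a => by
          change f.map (𝟙 (z.obj a).obj.fst) ≫ (z.obj a).obj.iso.hom = (𝟙 _ ≫ y.map (𝟙 a) ≫ (z.obj a).obj.iso.hom) ≫ f.map (𝟙 (z.obj a).obj.snd)
          simp)
      inv := StkFp.fpHom (𝟙 (BasedFunctor.comp z (fpFst f f))) (𝟙 (BasedFunctor.comp z (fpSnd f f)))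
        (fun a => by
          change f.map (𝟙 (z.obj a).obj.fst) ≫ (𝟙 _ ≫ y.map (𝟙 a) ≫ (z.obj a).obj.iso.hom) = (z.obj a).obj.iso.hom ≫ f.map (𝟙 (z.obj a).obj.snd)
          simp
          exact Category.id_comp (z.obj a).obj.iso.hom)
      hom_inv_id := StkBasic.hom_ext fun a => FibProd.hom_ext (Category.comp_id _) (Category.comp_id _)
      inv_hom_id := StkBasic.hom_ext fun a => FibProd.hom_ext (Category.comp_id _) (Category.comp_id _) }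
  obtain ⟨F, e, he, hP⟩ := h U y U z'
  refine ⟨F, _, BasedBasic.IsEquivOver.comp (BasedBasic.IsEquivOver.comp he (isEquivOver_bcDiag f y z'))
    (isEquivOver_congrLeft i (FibCat.diag f)), ?_⟩
  exact hP

/-- Properties local on the base for etale coverings are detected on schemes. -/
theorem detected_of_etLocal (hl : AlgSp.IsLocalOnBase AlgSp.IsEtCover P) : Detected P := by
  intro G F b hG hF h
  obtain ⟨U, p, he, hs⟩ := hF.atlas
  have sq := IsPullback.of_hasPullback b p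
  exact (hl _ (fun _ : PUnit.{u + 1} => p) hF (fun _ => IsAlgSpace.yon_obj U)
    ⟨fun _ => IsAlg.isEtaleMor he, fun x => ⟨⟨⟩, AlgSpace.surjective_map hs x⟩⟩ b hG _
    (fun _ => pullback.snd b p) (fun _ => pullback.fst b p)
    (fun _ => AlgSpace.isAlgSpace_of_isPullback sq hF.diag hG (IsAlgSpace.yon_obj U))
    (fun _ => sq)).2 fun _ => h p _ _ sq

/-- Cancellation for representable functors. -/
theorem repByAlgSpWith_of_comp
    (hPb : ∀ ⦃X₁ Y₁ X₂ Y₂ : Sp S⦄, IsAlgSpace X₁ → IsAlgSpace Y₁ → IsAlgSpace X₂ →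
      IsAlgSpace Y₂ → ∀ (a : X₁ ⟶ Y₁) (b : Y₂ ⟶ Y₁) (a' : X₂ ⟶ Y₂) (b' : X₂ ⟶ X₁),
      IsPullback b' a' a b → P a → P a')
    (hcancel : ∀ ⦃X Y Z : Sp S⦄, IsAlgSpace X → IsAlgSpace Y → IsAlgSpace Z →
      ∀ (a : X ⟶ Y) (b : Y ⟶ Z), P b → P (a ≫ b) → P a)
    (h𝒳 : IsFibGrpd 𝒳.p) (h𝒴 : IsFibGrpd 𝒴.p) {x : 𝒳 ⥤ᵇ 𝒴} {y : 𝒴 ⥤ᵇ 𝒵} (hx : RepByAlgSp1 x)
    (hy : RepByAlgSpWith P y) (hxy : RepByAlgSpWith P (BasedFunctor.comp x y)) :
    RepByAlgSpWith P x := by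
  intro U z
  have hP := respectsIsoSp_of_baseChange hPb
  let zy := BasedFunctor.comp z y
  obtain ⟨B, eB, hB, hpB⟩ := hy U zy
  let g := BasedFunctor.comp eB (fpSnd zy y)
  obtain ⟨A, a, t, ht, ⟨β⟩, -⟩ := exists_rep_toSpace h𝒳 h𝒴 hx g
  have : (BasedFunctor.id 𝒴).toFunctor.Full := inferInstanceAs (𝟭 𝒴.obj).Full
  have : (BasedFunctor.id 𝒴).toFunctor.Faithful := inferInstanceAs (𝟭 𝒴.obj).Faithful
  have h1 := isEquivOver_fpMap eB (BasedFunctor.id 𝒳) (BasedFunctor.id 𝒴)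
    (F := fpSnd zy y) (G := x) (F' := g) (G' := x) (Iso.refl _) (Iso.refl _) hB
    BasedBasic.isEquivOver_id
  have key := prop_of_rep hP hxy A.property
    (BasedBasic.IsEquivOver.comp ht (BasedBasic.IsEquivOver.comp h1 (isEquivOver_pasteComp zy y x)))
  change P (spMapOfOver (BasedFunctor.comp (BasedFunctor.comp t (fpFst g x))
    (BasedFunctor.comp eB (fpFst zy y)))) at key
  rw [spMapOfOver_eq_of_iso (BasedBasic.isoWhiskerRight β (BasedFunctor.comp eB (fpFst zy y))),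
    spMapOfOver_precomp] at key
  have ha : P a := hcancel A.property B.property (IsAlgSpace.yon_obj U) a _ hpB key
  let sU : overCat U ⥤ᵇ fp zy y := fpLift (BasedFunctor.id _) z (Iso.refl zy)
  obtain ⟨inv, -, -, ⟨ε⟩⟩ := BasedBasic.IsEquivOver.exists_inverse hB
  let Φ := BasedFunctor.comp (BasedFunctor.comp (toOverCat U) sU) inv
  let ξ : (yon S).obj U ⟶ B.obj := spHom Φ
  have sq := IsPullback.of_hasPullback a ξ
  obtain ⟨E, hE, ⟨ζ⟩⟩ := exists_equiv_baseChange (g := g) ht β.symm (ξ := ξ)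
    (sq.map (sheafToPresheaf _ _))
  let i : BasedFunctor.comp (ofOverCat U) (BasedFunctor.comp (ofSpMap ξ) g) ≅ z :=
    BasedBasic.isoWhiskerLeft (ofOverCat U) (BasedBasic.isoWhiskerRight (isoOfPshMap Φ).symm g) ≪≫
      BasedBasic.isoWhiskerLeft sU (BasedBasic.isoWhiskerRight ε (fpSnd zy y))
  have hQ : IsAlgSpace (pullback a ξ) :=
    AlgSpace.isAlgSpace_of_isPullback sq B.property.diag A.property (IsAlgSpace.yon_obj U)
  refine ⟨⟨_, hQ⟩, _, BasedBasic.IsEquivOver.comp hE (isEquivOver_congrLeft i x), ?_⟩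
  change P (spMapOfOver (BasedFunctor.comp E (fpFst _ x)))
  rw [spMapOfOver_eq_of_iso (show _ ≅ BasedFunctor.comp (ofSpMap (pullback.snd a ξ)) (toOverCat U) from ζ)]
  exact (spMapOfOver_ofSpMap_toOverCat _).symm ▸
    hPb A.property B.property hQ (IsAlgSpace.yon_obj U) a ξ _ _ sq ha

/-- The map between the targets of the diagonals of `f` and of a composite. -/
abbrev compProj (f : 𝒳 ⥤ᵇ 𝒴) (g : 𝒴 ⥤ᵇ 𝒵) :
    fp f f ⥤ᵇ fp (BasedFunctor.comp f g) (BasedFunctor.comp f g) :=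
  fpLift (fpFst f f) (fpSnd f f) (BasedBasic.isoWhiskerRight (fpIso f f) g)

theorem compProj_with (f : 𝒳 ⥤ᵇ 𝒴) {g : 𝒴 ⥤ᵇ 𝒵} (h : RepByAlgSpWith P (FibCat.diag g)) :
    RepByAlgSpWith P (compProj f g) :=
  (repByAlgSpWith_iff_of_isEquivOver (f' := compProj f g) (isEquivOver_toRelDiag g f f)
    BasedBasic.isEquivOver_id (eqToIso rfl)).1
    (repByAlgSpWith_fpFst (fpLift
      (BasedFunctor.comp (fpFst (BasedFunctor.comp f g) (BasedFunctor.comp f g)) f)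
      (BasedFunctor.comp (fpSnd (BasedFunctor.comp f g) (BasedFunctor.comp f g)) f)
      (fpIso (BasedFunctor.comp f g) (BasedFunctor.comp f g))) h)

/-- The diagonal of a composite factors through the diagonal of the first map. -/
def diagCompIso (f : 𝒳 ⥤ᵇ 𝒴) (g : 𝒴 ⥤ᵇ 𝒵) :
    BasedFunctor.comp (FibCat.diag f) (compProj f g) ≅ FibCat.diag (BasedFunctor.comp f g) where
  hom := StkFp.fpHom (𝟙 (BasedFunctor.id 𝒳)) (𝟙 (BasedFunctor.id 𝒳)) (fun a => by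
    change g.map (f.map (𝟙 a)) ≫ 𝟙 _ = g.map (𝟙 _) ≫ g.map (f.map (𝟙 a))
    simp)
  inv := StkFp.fpHom (𝟙 (BasedFunctor.id 𝒳)) (𝟙 (BasedFunctor.id 𝒳)) (fun a => by
    change g.map (f.map (𝟙 a)) ≫ g.map (𝟙 _) = 𝟙 _ ≫ g.map (f.map (𝟙 a))
    simp)
  hom_inv_id := StkBasic.hom_ext fun a => FibProd.hom_ext (Category.comp_id _) (Category.comp_id _)
  inv_hom_id := StkBasic.hom_ext fun a => FibProd.hom_ext (Category.comp_id _) (Category.comp_id _)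

/-- Composition of diagonals. -/
theorem diag_comp (hP : RespectsIsoSp P)
    (hPc : ∀ ⦃X Y Z : Sp S⦄, IsAlgSpace X → IsAlgSpace Y → IsAlgSpace Z →
      ∀ (a : X ⟶ Y) (b : Y ⟶ Z), P a → P b → P (a ≫ b))
    (hd : Detected P) (h𝒳 : IsFibGrpd 𝒳.p) (h𝒴 : IsFibGrpd 𝒴.p) {f : 𝒳 ⥤ᵇ 𝒴} {g : 𝒴 ⥤ᵇ 𝒵}
    (hf : RepByAlgSpWith P (FibCat.diag f)) (hg : RepByAlgSpWith P (FibCat.diag g)) :
    RepByAlgSpWith P (FibCat.diag (BasedFunctor.comp f g)) :=
  repByAlgSpWith_of_iso (diagCompIso f g)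
    (repByAlgSpWith_comp_of_detected hP hPc hd h𝒳 (isFibGrpd_fp h𝒳 h𝒳 h𝒴) hf (compProj_with f hg))

/-- Cancellation of diagonals. -/
theorem diag_of_comp
    (hPb : ∀ ⦃X₁ Y₁ X₂ Y₂ : Sp S⦄, IsAlgSpace X₁ → IsAlgSpace Y₁ → IsAlgSpace X₂ →
      IsAlgSpace Y₂ → ∀ (a : X₁ ⟶ Y₁) (b : Y₂ ⟶ Y₁) (a' : X₂ ⟶ Y₂) (b' : X₂ ⟶ X₁),
      IsPullback b' a' a b → P a → P a')
    (hcancel : ∀ ⦃X Y Z : Sp S⦄, IsAlgSpace X → IsAlgSpace Y → IsAlgSpace Z →
      ∀ (a : X ⟶ Y) (b : Y ⟶ Z), P b → P (a ≫ b) → P a)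
    (h𝒳 : IsFibGrpd 𝒳.p) (h𝒴 : IsFibGrpd 𝒴.p) (h𝒵 : IsFibGrpd 𝒵.p) {f : 𝒳 ⥤ᵇ 𝒴} {g : 𝒴 ⥤ᵇ 𝒵}
    (hg : RepByAlgSpWith P (FibCat.diag g))
    (hgf : RepByAlgSpWith P (FibCat.diag (BasedFunctor.comp f g))) :
    RepByAlgSpWith P (FibCat.diag f) := by
  have hj := compProj_with f hg
  have h1 := repByAlgSpWith_of_iso (diagCompIso f g).symm hgf
  exact repByAlgSpWith_of_comp hPb hcancel h𝒳 (isFibGrpd_fp h𝒳 h𝒳 h𝒴)
    (repByAlgSp1_of_comp (isFibGrpd_fp h𝒳 h𝒳 h𝒴) (isFibGrpd_fp h𝒳 h𝒳 h𝒵)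
      (repByAlgSp1_of_repByAlgSpWith h1) (DiagRel.repByAlgSp1_diag_of_rep (repByAlgSp1_of_repByAlgSpWith hj)))
    hj h1

end Groth.Agent.Lib.AlgStack.DiagCalc
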