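import Groth.Agent.Lib.AlgStack.IsAlgFp

/-!
# Categories representable over an algebraic stack; base change to algebraic spaces
-/

set_option autoImplicit false
set_option backward.isDefEq.respectTransparency false
set_option backward.isDefEq.respectTransparency.types false

universe u

open CategoryTheory CategoryTheory.Limits AlgebraicGeometry Opposite

namespace Groth.Agent.Lib.AlgStack.RepOver

open BasedBasic Yoneda FibProd Rep Space IsAlgFp
open FibCat (IsEquivOver IsFibGrpd fp fpFst fpSnd fpLift overCat toSelf)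
open AlgSt (ofSp ofSpMap ofOverCat toOverCat RepByAlgSp RepByAlgSp1 RepByAlgSpWith IsAlgStack)
open AlgSp (Sp yon IsAlgSpace RepWith)

variable {S : Scheme.{u}} {𝒳 𝒴 : AlgSt.Cat S}

/-- The second projection of a base change has every property stable under base change. -/
theorem repByAlgSpWith_fpSnd {𝒲 : AlgSt.Cat S} {P : MorphismProperty (Sp S)} {x : 𝒲 ⥤ᵇ 𝒴}
    (f : 𝒳 ⥤ᵇ 𝒴) (hx : RepByAlgSpWith P x) : RepByAlgSpWith P (fpSnd x f) :=
  (repByAlgSpWith_iff_of_isEquivOver (f := fpFst f x) (f' := fpSnd x f) (isEquivOver_swap x f)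
    BasedBasic.isEquivOver_id (eqToIso rfl)).1 (repByAlgSpWith_fpFst f hx)

/-- A category representable by algebraic spaces over an algebraic stack is an algebraic stack. -/
theorem isAlgStack_of_repByAlgSp1 (h𝒳 : IsFibGrpd 𝒳.p) (h𝒴 : IsAlgStack Scheme.fppfPrecoverage 𝒴)
    {j : 𝒳 ⥤ᵇ 𝒴} (hj : RepByAlgSp1 j) : IsAlgStack Scheme.fppfPrecoverage 𝒳 := by
  refine ⟨StkRep.isStack_of_repByAlgSp1 h𝒳 h𝒴.isStack hj,
    DiagRel.diag_of_repByAlgSp1 h𝒳 h𝒴.isStack.1 hj h𝒴.diag, ?_⟩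
  obtain ⟨U, y, hy1, hy2⟩ := h𝒴.atlas
  obtain ⟨W, e, he⟩ := hj U y
  obtain ⟨W', p, hpe, hps⟩ := W.property.atlas
  let a := BasedFunctor.comp (ofOverCat W') (BasedFunctor.comp (ofSpMap p) e)
  have atl : ∀ {P : MorphismProperty (Sp S)}, (∀ ⦃G : Sp S⦄ ⦃T : Over S⦄ (q : G ⟶ (yon S).obj T),
      RepWith @Etale q → RepWith @Surjective q → P q) → RepByAlgSpWith P a := fun hP =>
    (repByAlgSpWith_iff_of_isEquivOver (f' := BasedFunctor.comp (ofOverCat W') (ofSpMap p)) (f := a)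
      BasedBasic.isEquivOver_id he (Iso.refl _)).2 (IsAlg.repByAlgSpWith_atlas hpe hps hP)
  have hW : IsFibGrpd (fp y j).p := isFibGrpd_fp (isFibGrpd_overCat U) h𝒳 h𝒴.isStack.1
  exact ⟨W', _,
    comp_locP SourceDescent.Scheme.smooth (isFibGrpd_overCat W') hW
      (atl fun _ _ q hq _ => IsAlg.locP_smooth hq) (repByAlgSpWith_fpSnd j hy1),
    comp_surjective (isFibGrpd_overCat W') hW
      (atl fun _ _ q _ hq => AlgSpace.surjective_map hq) (repByAlgSpWith_fpSnd j hy2)⟩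

/-- A property fppf local on the base holds iff it holds after base change to all algebraic spaces. -/
theorem repByAlgSpWith_iff_toSpace {P : MorphismProperty (Sp S)} (hP : RespectsIsoSp P)
    (hl : AlgSp.IsLocalOnBase AlgSp.IsFppfCover P) (h𝒳 : IsFibGrpd 𝒳.p) (h𝒴 : IsFibGrpd 𝒴.p)
    (f : 𝒳 ⥤ᵇ 𝒴) :
    RepByAlgSpWith P f ↔ ∀ (Z : AlgSp.Space S) (z : ofSp Z.obj ⥤ᵇ 𝒴),
      ∃ (V : AlgSp.Space S) (a : V ⟶ Z) (e : ofSp V.obj ⥤ᵇ fp z f),
        IsEquivOver e ∧ Nonempty (BasedFunctor.comp e (fpFst z f) ≅ ofSpMap a.hom) ∧ P a.hom := by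
  refine ⟨fun hf Z z => ?_, fun h U y => ?_⟩
  · obtain ⟨G, b, t, ht, hβ, hb⟩ := Comp.exists_rep_toSpace_prop hP hl h𝒳 h𝒴 hf Z z
    exact ⟨G, ObjectProperty.homMk b, t, ht, hβ, hb⟩
  · obtain ⟨V, a, e, he, ⟨β⟩, ha⟩ := h ((AlgSp.ofScheme S).obj U) (BasedFunctor.comp (toOverCat U) y)
    have : (BasedFunctor.id 𝒴).toFunctor.Full := inferInstanceAs (𝟭 𝒴.obj).Full
    have : (BasedFunctor.id 𝒴).toFunctor.Faithful := inferInstanceAs (𝟭 𝒴.obj).Faithful
    have hq := isEquivOver_fpMap (toOverCat U) (BasedFunctor.id 𝒳) (BasedFunctor.id 𝒴)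
      (F := y) (G := f) (F' := BasedFunctor.comp (toOverCat U) y) (G' := f)
      (Iso.refl _) (Iso.refl _) (isEquivOver_toOverCat U) BasedBasic.isEquivOver_id
    refine ⟨V, _, BasedBasic.IsEquivOver.comp he hq, ?_⟩
    change P (AlgSt.spMapOfOver (BasedFunctor.comp
      (BasedFunctor.comp e (fpFst (BasedFunctor.comp (toOverCat U) y) f)) (toOverCat U)))
    rw [spMapOfOver_eq_of_iso
      (show _ ≅ BasedFunctor.comp (ofSpMap a.hom) (toOverCat U) from
        BasedBasic.isoWhiskerRight β (toOverCat U))]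
    exact (spMapOfOver_ofSpMap_toOverCat a.hom).symm ▸ ha

end Groth.Agent.Lib.AlgStack.RepOver
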