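import Groth.Agent.Lib.AlgStack.FpDM
import Groth.Agent.Lib.AlgStack.RepOver
import Groth.Agent.Lib.AlgStack.DiagCalc

/-!
# Stacks over algebraic stacks with algebraic base changes, for any topology
-/

set_option autoImplicit false
set_option backward.isDefEq.respectTransparency false
set_option backward.isDefEq.respectTransparency.types false

universe u

open CategoryTheory CategoryTheory.Limits AlgebraicGeometry Opposite

namespace Groth.Agent.Lib.AlgStack.OfCharts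

open BasedBasic Yoneda FibProd Rep Space CompRep IsAlgFp
open FibCat (IsEquivOver IsFibGrpd fp fpFst fpSnd overCat toSelf selfOver)
open AlgSt (RepByAlgSp1 RepByAlgSpWith)
open AlgSp (Sp IsAlgSpace)

variable {S : Scheme.{u}} {𝒳 𝒴 : AlgSt.Cat S}

/-- The diagonal is representable if this holds for the base and for all base changes to schemes. -/
theorem diag_of_baseChange (h𝒳 : IsFibGrpd 𝒳.p) (h𝒴 : IsFibGrpd 𝒴.p) (f : 𝒳 ⥤ᵇ 𝒴)
    (hY : RepByAlgSp1 (FibCat.diag (toSelf 𝒴)))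
    (hf : ∀ (T : Over S) (y : overCat T ⥤ᵇ 𝒴), RepByAlgSp1 (FibCat.diag (toSelf (fp y f)))) :
    RepByAlgSp1 (FibCat.diag (toSelf 𝒳)) := by
  let topP : MorphismProperty (Sp S) := ⊤
  have hPb : ∀ ⦃X₁ Y₁ X₂ Y₂ : Sp S⦄, IsAlgSpace X₁ → IsAlgSpace Y₁ → IsAlgSpace X₂ →
      IsAlgSpace Y₂ → ∀ (a : X₁ ⟶ Y₁) (b : Y₂ ⟶ Y₁) (a' : X₂ ⟶ Y₂) (b' : X₂ ⟶ X₁),
      IsPullback b' a' a b → topP a → topP a' := fun _ _ _ _ _ _ _ _ _ _ _ _ _ _ => trivial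
  have hdf : RepByAlgSpWith topP (FibCat.diag f) := DiagCalc.diag_iff_baseChange.2 fun T y => by
    have hK : IsFibGrpd (fp y f).p := isFibGrpd_fp (isFibGrpd_overCat T) h𝒳 h𝒴
    have h1 : RepByAlgSpWith topP (FibCat.diag (BasedFunctor.comp (fpFst y f) (toSelf (overCat T)))) := by
      rw [Diag.toSelf_unique (BasedFunctor.comp (fpFst y f) (toSelf (overCat T))) (toSelf (fp y f))]
      exact repByAlgSpWith_top_iff.2 (hf T y)
    exact DiagCalc.diag_of_comp hPb (fun _ _ _ _ _ _ _ _ _ _ => trivial) hK (isFibGrpd_overCat T)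
      (StkRep.isStack_of_repByAlgSp repByAlgSp_selfOver).1
      (repByAlgSpWith_top_iff.2 (IsAlg.diag_of_repByAlgSp (Diag.repByAlgSp_overCat T))) h1
  have h := DiagCalc.diag_comp (P := topP) respectsIsoSp_top (fun _ _ _ _ _ _ _ _ _ _ => trivial)
    (fun _ _ _ _ _ _ => trivial) h𝒳 h𝒴 hdf
    (repByAlgSpWith_top_iff.2 hY)
  rw [Diag.toSelf_unique (BasedFunctor.comp f (toSelf 𝒴)) (toSelf 𝒳)] at h
  exact repByAlgSpWith_top_iff.1 h

/-- An atlas of the base and one of the base change to it give an atlas. -/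
theorem hasAtlas_of_chart {P : MorphismProperty (Sp S)} (hP : RespectsIsoSp P)
    (hPc : ∀ ⦃X Y Z : Sp S⦄, IsAlgSpace X → IsAlgSpace Y → IsAlgSpace Z →
      ∀ (a : X ⟶ Y) (b : Y ⟶ Z), P a → P b → P (a ≫ b))
    (hd : Detected P) (h𝒳 : IsFibGrpd 𝒳.p) (h𝒴 : IsFibGrpd 𝒴.p) (f : 𝒳 ⥤ᵇ 𝒴)
    {V : Over S} {y : overCat V ⥤ᵇ 𝒴} (hy : RepByAlgSpWith P y)
    (hy' : RepByAlgSpWith AlgSp.IsSurjectiveMor y) (h : AlgSt.HasAtlas P (fp y f)) :
    AlgSt.HasAtlas P 𝒳 := by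
  obtain ⟨W, w, h1, h2⟩ := h
  have hK : IsFibGrpd (fp y f).p := isFibGrpd_fp (isFibGrpd_overCat V) h𝒳 h𝒴
  exact ⟨W, BasedFunctor.comp w (fpSnd y f),
    repByAlgSpWith_comp_of_detected hP hPc hd (isFibGrpd_overCat W) hK h1
      (RepOver.repByAlgSpWith_fpSnd f hy),
    comp_surjective (isFibGrpd_overCat W) hK h2 (RepOver.repByAlgSpWith_fpSnd f hy')⟩

/-- Algebraicity, for any topology, from algebraic base changes to schemes. -/
theorem isAlgStack_of_baseChange {K : Precoverage Scheme.{u}} (h𝒳 : Stk.IsStack (QuotSh.J K S) 𝒳)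
    (h𝒴 : AlgSt.IsAlgStack K 𝒴) (f : 𝒳 ⥤ᵇ 𝒴)
    (hf : ∀ (U : Over S) (g : overCat U ⥤ᵇ 𝒴), AlgSt.IsAlgStack K (fp g f)) :
    AlgSt.IsAlgStack K 𝒳 := by
  obtain ⟨V, y, hy, hy'⟩ := h𝒴.atlas
  have hS := SourceDescent.Scheme.smooth.{u}
  exact ⟨h𝒳, diag_of_baseChange h𝒳.1 h𝒴.isStack.1 f h𝒴.diag fun T t => (hf T t).diag,
    hasAtlas_of_chart (respectsIsoSp_locP hS)
      (fun _ _ _ hA hB hC _ _ ha hb => AlgSpMor.LocP.locP_comp hS hA hB hC ha hb) (detected_locP hS)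
      h𝒳.1 h𝒴.isStack.1 f hy hy' (hf V y).atlas⟩

/-- The Deligne–Mumford property from base changes to schemes. -/
theorem isDM_of_baseChange {K : Precoverage Scheme.{u}} (h𝒳 : Stk.IsStack (QuotSh.J K S) 𝒳)
    (h𝒴 : AlgSt.IsDM K 𝒴) (f : 𝒳 ⥤ᵇ 𝒴)
    (hf : ∀ (U : Over S) (g : overCat U ⥤ᵇ 𝒴), AlgSt.IsDM K (fp g f)) : AlgSt.IsDM K 𝒳 := by
  obtain ⟨V, y, hy, hy'⟩ := h𝒴.2
  exact ⟨isAlgStack_of_baseChange h𝒳 h𝒴.1 f fun U g => (hf U g).1,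
    hasAtlas_of_chart Source.respectsIsoSp_isEtaleMor FpDM.comp_isEtaleMor Source.detected_isEtaleMor
      h𝒳.1 h𝒴.1.isStack.1 f hy hy' (hf V y).2⟩

/-- Fibre products of algebraic stacks, for any topology. -/
theorem isAlgStack_fp {K : Precoverage Scheme.{u}} {𝒵 : AlgSt.Cat S} (h𝒳 : AlgSt.IsAlgStack K 𝒳)
    (h𝒴 : AlgSt.IsAlgStack K 𝒴) (h𝒵 : AlgSt.IsAlgStack K 𝒵) (f : 𝒳 ⥤ᵇ 𝒵) (g : 𝒴 ⥤ᵇ 𝒵) :
    AlgSt.IsAlgStack K (fp f g) := by
  have hX := h𝒳.isStack.1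
  have hY := h𝒴.isStack.1
  have hZ := h𝒵.isStack.1
  have hS := SourceDescent.Scheme.smooth.{u}
  exact ⟨StkFp.isStack_fp h𝒳.isStack h𝒴.isStack ⟨hZ, fun _ R hR => by
      have : (Stk.resSieve R 𝒵).IsEquivalence := h𝒵.isStack.2 R hR
      exact ⟨inferInstance, inferInstance⟩⟩,
    DiagRel.diag_fp hX hY hZ h𝒳.diag h𝒴.diag h𝒵.diag f g,
    FpDM.hasAtlas_fp (respectsIsoSp_locP hS)
      (fun _ _ _ hA hB hC _ _ ha hb => AlgSpMor.LocP.locP_comp hS hA hB hC ha hb) (detected_locP hS)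
      (fun _ _ q hq => IsAlg.locP_smooth hq) hX hY hZ h𝒳.atlas h𝒴.atlas h𝒵.diag f g⟩

end Groth.Agent.Lib.AlgStack.OfCharts
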