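import Groth.Prelude.Def_AlgSt
import Groth.Agent.Lib.AlgStack.BasedBasic

/-!
# 2-Yoneda for categories fibred in groupoids, presheaf of isomorphism classes
-/

set_option autoImplicit false
set_option backward.isDefEq.respectTransparency false
set_option backward.isDefEq.respectTransparency.types false

universe v₂ u₂ v u

open CategoryTheory Opposite CategoryTheory.Functor

namespace Groth.Agent.Lib.AlgStack.Yoneda

open BasedBasic

variable {C : Type u} [Category.{v} C] {𝒵 : BasedCategory.{v₂, u₂} C}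

section
variable (hp : FibCat.IsFibGrpd 𝒵.p)

include hp in
theorem stronglyCartesian {a b : 𝒵.obj} {R S : C} (f : R ⟶ S) (φ : a ⟶ b) [𝒵.p.IsHomLift f φ] :
    𝒵.p.IsStronglyCartesian f φ := by
  subst_hom_lift 𝒵.p f φ
  exact hp.isStronglyCartesian φ

/-- The source of a chosen lift. -/
noncomputable def pb {z : 𝒵.obj} {U V : C} (hz : 𝒵.p.obj z = U) (f : V ⟶ U) : 𝒵.obj :=
  (exists_lift' hp f hz).choose

/-- A chosen lift with prescribed target. -/
noncomputable def pbMap {z : 𝒵.obj} {U V : C} (hz : 𝒵.p.obj z = U) (f : V ⟶ U) : pb hp hz f ⟶ z :=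
  (exists_lift' hp f hz).choose_spec.choose

instance pbMap_isHomLift {z : 𝒵.obj} {U V : C} (hz : 𝒵.p.obj z = U) (f : V ⟶ U) :
    𝒵.p.IsHomLift f (pbMap hp hz f) :=
  (exists_lift' hp f hz).choose_spec.choose_spec

theorem pb_obj {z : 𝒵.obj} {U V : C} (hz : 𝒵.p.obj z = U) (f : V ⟶ U) :
    𝒵.p.obj (pb hp hz f) = V :=
  IsHomLift.domain_eq 𝒵.p f (pbMap hp hz f)

instance pbMap_cartesian {z : 𝒵.obj} {U V : C} (hz : 𝒵.p.obj z = U) (f : V ⟶ U) :
    𝒵.p.IsStronglyCartesian f (pbMap hp hz f) :=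
  stronglyCartesian hp f _

/-- The map between pullbacks of one object. -/
noncomputable def pbHom {z : 𝒵.obj} {U : C} (hz : 𝒵.p.obj z = U) {g g' : Over U} (h : g ⟶ g') :
    pb hp hz g.hom ⟶ pb hp hz g'.hom :=
  IsStronglyCartesian.map 𝒵.p g'.hom (pbMap hp hz g'.hom) (g := h.left) (Over.w h).symm
    (pbMap hp hz g.hom)

instance pbHom_isHomLift {z : 𝒵.obj} {U : C} (hz : 𝒵.p.obj z = U) {g g' : Over U} (h : g ⟶ g') :
    𝒵.p.IsHomLift h.left (pbHom hp hz h) :=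
  IsStronglyCartesian.map_isHomLift _ _ _ _ _

@[simp] theorem pbHom_fac {z : 𝒵.obj} {U : C} (hz : 𝒵.p.obj z = U) {g g' : Over U} (h : g ⟶ g') :
    pbHom hp hz h ≫ pbMap hp hz g'.hom = pbMap hp hz g.hom :=
  IsStronglyCartesian.fac _ _ _ _ _

/-- The functor from the slice determined by an object. -/
noncomputable def fromObj {z : 𝒵.obj} {U : C} (hz : 𝒵.p.obj z = U) : FibCat.overCat U ⥤ᵇ 𝒵 where
  toFunctor :=
    { obj := fun (g : Over U) => pb hp hz g.hom
      map := fun {g g' : Over U} h => pbHom hp hz h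
      map_id := fun (g : Over U) => by
        have h1 : 𝒵.p.IsHomLift (𝟙 g.left) (𝟙 (pb hp hz g.hom)) :=
          IsHomLift.id (pb_obj hp hz g.hom)
        have h2 : 𝒵.p.IsHomLift (𝟙 g.left) (pbHom hp hz (𝟙 g)) := pbHom_isHomLift hp hz (𝟙 g)
        apply IsStronglyCartesian.ext 𝒵.p g.hom (pbMap hp hz g.hom) (𝟙 g.left)
        exact (pbHom_fac hp hz (𝟙 g)).trans (Category.id_comp _).symm
      map_comp := fun {g g' g'' : Over U} h h' => by
        have h2 : 𝒵.p.IsHomLift (h.left ≫ h'.left) (pbHom hp hz (h ≫ h')) :=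
          pbHom_isHomLift hp hz (h ≫ h')
        apply IsStronglyCartesian.ext 𝒵.p g''.hom (pbMap hp hz g''.hom) (h.left ≫ h'.left)
        simp }
  w := CategoryTheory.Functor.ext (fun g => pb_obj hp hz (show Over U from g).hom)
    (fun g g' h => IsHomLift.fac' 𝒵.p h.left (pbHom hp hz (U := U) h))

/-- The value of `fromObj` at the identity. -/
theorem exists_fromObj_iso {z : 𝒵.obj} {U : C} (hz : 𝒵.p.obj z = U) :
    ∃ e : (fromObj hp hz).obj (Over.mk (𝟙 U)) ≅ z, 𝒵.p.IsHomLift (𝟙 U) e.hom := by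
  have h : 𝒵.p.IsHomLift (𝟙 U) (pbMap hp hz (𝟙 U)) := inferInstance
  have := isIso_of_isHomLift_id hp (R := U) (pbMap hp hz (𝟙 U))
  exact ⟨asIso (pbMap hp hz (𝟙 U)), h⟩

/-- The morphism to the identity object of a slice. -/
abbrev toId {U : C} (g : Over U) : g ⟶ Over.mk (𝟙 U) := Over.homMk g.hom (Category.comp_id _)

theorem map_toId_isHomLift {U : C} (y : FibCat.overCat U ⥤ᵇ 𝒵) (g : Over U) :
    𝒵.p.IsHomLift g.hom (y.map (toId g)) := by
  have h1 : (FibCat.overCat U).p.IsHomLift g.hom (toId g) :=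
    IsHomLift.map (FibCat.overCat U).p (toId g)
  exact BasedFunctor.preserves_isHomLift y g.hom _

theorem map_isHomLift {U : C} (y : FibCat.overCat U ⥤ᵇ 𝒵) {g g' : Over U} (h : g ⟶ g') :
    𝒵.p.IsHomLift h.left (y.map h) := by
  have h1 : (FibCat.overCat U).p.IsHomLift h.left h := IsHomLift.map (FibCat.overCat U).p h
  exact BasedFunctor.preserves_isHomLift y h.left _

include hp in
/-- Two functors from a slice with isomorphic values at the identity are 2-isomorphic. -/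
theorem exists_iso_of_id {U : C} (y y' : FibCat.overCat U ⥤ᵇ 𝒵)
    (θ : y.obj (Over.mk (𝟙 U)) ⟶ y'.obj (Over.mk (𝟙 U))) [𝒵.p.IsHomLift (𝟙 U) θ] :
    ∃ e : y ≅ y', (appIso e (Over.mk (𝟙 U))).hom = θ := by
  have hy (g : Over U) : 𝒵.p.IsHomLift g.hom (y.map (toId g)) := map_toId_isHomLift y g
  have hy' (g : Over U) : 𝒵.p.IsHomLift g.hom (y'.map (toId g)) := map_toId_isHomLift y' g
  have hc (g : Over U) : 𝒵.p.IsStronglyCartesian g.hom (y'.map (toId g)) :=
    stronglyCartesian hp g.hom _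
  let c (g : Over U) : y.obj g ⟶ y'.obj g :=
    IsStronglyCartesian.map 𝒵.p g.hom (y'.map (toId g)) (g := 𝟙 g.left)
      (Category.id_comp g.hom).symm (y.map (toId g) ≫ θ)
  have cl (g : Over U) : 𝒵.p.IsHomLift (𝟙 g.left) (c g) :=
    IsStronglyCartesian.map_isHomLift _ _ _ _ _
  have cf (g : Over U) : c g ≫ y'.map (toId g) = y.map (toId g) ≫ θ :=
    IsStronglyCartesian.fac _ _ _ _ _
  have ci (g : Over U) : IsIso (c g) := isIso_of_isHomLift_id hp (R := g.left) (c g)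
  refine ⟨BasedNatIso.mkNatIso (NatIso.ofComponents (fun (g : Over U) => asIso (c g)) ?_)
    (fun g => cl g), ?_⟩
  · intro g g' h
    change Over U at g g'
    change y.map h ≫ c g' = c g ≫ y'.map h
    have := map_isHomLift y h
    have := map_isHomLift y' h
    apply IsStronglyCartesian.ext 𝒵.p g'.hom (y'.map (toId g')) h.left
    simp only [Category.assoc, cf]
    rw [← Functor.map_comp, ← Functor.map_comp_assoc]
    have hh : h ≫ toId g' = toId g := Over.OverMorphism.ext (Over.w h)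
    rw [hh, cf]
  · change c (Over.mk (𝟙 U)) = θ
    have h1 := cf (Over.mk (𝟙 U))
    have h0 : toId (Over.mk (𝟙 U)) = 𝟙 (Over.mk (𝟙 U)) := Over.OverMorphism.ext rfl
    rw [h0] at h1
    simpa using h1

/-- Objects over `T`. -/
abbrev ObjOver (𝒵 : BasedCategory.{v₂, u₂} C) (T : C) : Type u₂ := {z : 𝒵.obj // 𝒵.p.obj z = T}

include hp in
theorem rel_equivalence (T : C) : Equivalence
    (fun z z' : ObjOver 𝒵 T => ∃ φ : z.1 ⟶ z'.1, 𝒵.p.IsHomLift (𝟙 T) φ) where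
  refl z := ⟨𝟙 _, IsHomLift.id z.2⟩
  symm := by
    rintro z z' ⟨φ, hφ⟩
    have := isIso_of_isHomLift_id hp (R := T) φ
    exact ⟨inv φ, inferInstance⟩
  trans := by
    rintro z z' z'' ⟨φ, hφ⟩ ⟨ψ, hψ⟩
    exact ⟨φ ≫ ψ, inferInstance⟩

/-- Isomorphism over the identity as a setoid on the objects over `T`. -/
def isoSetoid (T : C) : Setoid (ObjOver 𝒵 T) := ⟨_, rel_equivalence hp T⟩

include hp in
theorem rel_of_lifts {T U : C} {f : T ⟶ U} {y y' z z' : 𝒵.obj} (φ : y ⟶ z) (φ' : y' ⟶ z')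
    [𝒵.p.IsHomLift f φ] [𝒵.p.IsHomLift f φ'] (θ : z ⟶ z') [𝒵.p.IsHomLift (𝟙 U) θ] :
    ∃ ψ : y ⟶ y', 𝒵.p.IsHomLift (𝟙 T) ψ := by
  have := stronglyCartesian hp f φ'
  exact ⟨IsStronglyCartesian.map 𝒵.p f φ' (g := 𝟙 T) (Category.id_comp f).symm (φ ≫ θ),
    inferInstance⟩

/-- The restriction map on isomorphism classes. -/
noncomputable def restrict {T T' : C} (g : T' ⟶ T) :
    Quotient (isoSetoid hp T) → Quotient (isoSetoid hp T') :=
  Quotient.map' (fun z => ⟨pb hp z.2 g, pb_obj hp z.2 g⟩) (by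
    rintro z z' ⟨θ, hθ⟩
    exact rel_of_lifts hp (f := g) (pbMap hp z.2 g) (pbMap hp z'.2 g) θ)

theorem restrict_mk {T T' : C} (g : T' ⟶ T) {y z : 𝒵.obj} (hy : 𝒵.p.obj y = T')
    (hz : 𝒵.p.obj z = T) (φ : y ⟶ z) [𝒵.p.IsHomLift g φ] :
    restrict hp g (Quotient.mk _ ⟨z, hz⟩) = Quotient.mk (isoSetoid hp T') ⟨y, hy⟩ := by
  apply Quotient.sound
  have := IsHomLift.id (p := 𝒵.p) hz
  exact rel_of_lifts hp (f := g) (pbMap hp hz g) φ (𝟙 z)

/-- The presheaf of isomorphism classes of objects. -/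
noncomputable def isoPsh : Cᵒᵖ ⥤ Type u₂ where
  obj T := Quotient (isoSetoid hp T.unop)
  map g := ↾(restrict hp g.unop)
  map_id T := by
    ext x
    induction x using Quotient.inductionOn with
    | h z =>
      have := IsHomLift.id (p := 𝒵.p) z.2
      exact restrict_mk hp (𝟙 T.unop) z.2 z.2 (𝟙 z.1)
  map_comp {T₁ T₂ T₃} g h := by
    ext x
    induction x using Quotient.inductionOn with
    | h z =>
      have h1 := restrict_mk hp (h.unop ≫ g.unop) (pb_obj hp (pb_obj hp z.2 g.unop) h.unop) z.2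
        (pbMap hp (pb_obj hp z.2 g.unop) h.unop ≫ pbMap hp z.2 g.unop)
      exact h1

/-- The functor to the presheaf of isomorphism classes. -/
noncomputable def toIsoPsh : 𝒵 ⥤ᵇ Stk.ofPsh (isoPsh hp) where
  toFunctor :=
    { obj := fun z => ⟨𝒵.p.obj z, Quotient.mk (isoSetoid hp (𝒵.p.obj z)) ⟨z, rfl⟩⟩
      map := fun {a b} φ => ⟨𝒵.p.map φ, restrict_mk hp (𝒵.p.map φ) rfl rfl φ⟩
      map_id := fun a => Stk.EltObj.hom_ext (𝒵.p.map_id a)
      map_comp := fun φ ψ => Stk.EltObj.hom_ext (𝒵.p.map_comp φ ψ) }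
  w := rfl

end

/-- No non-trivial automorphisms over identities. -/
def Setoidal (𝒵 : BasedCategory.{v₂, u₂} C) : Prop :=
  ∀ (a : 𝒵.obj) (φ : a ⟶ a), 𝒵.p.map φ = 𝟙 (𝒵.p.obj a) → φ = 𝟙 a

theorem setoidal_iff (hp : FibCat.IsFibGrpd 𝒵.p) :
    Setoidal 𝒵 ↔ FibCat.IsFibSetoid 𝒵.p := by
  constructor
  · intro h
    refine ⟨hp, fun U a b => ⟨fun f g => ?_⟩⟩
    have hf : 𝒵.p.IsHomLift (𝟙 U) f.1 := f.2
    have hg : 𝒵.p.IsHomLift (𝟙 U) g.1 := g.2
    have := isIso_of_isHomLift_id hp (R := U) g.1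
    apply Subtype.ext
    have h1 := h a.1 (f.1 ≫ inv g.1) (by
      have : 𝒵.p.IsHomLift (𝟙 U) (f.1 ≫ inv g.1) := inferInstance
      simp [IsHomLift.fac' 𝒵.p (𝟙 U) (f.1 ≫ inv g.1)])
    rwa [IsIso.comp_inv_eq, Category.id_comp] at h1
  · intro h a φ hφ
    have : Quiver.IsThin (𝒵.p.Fiber (𝒵.p.obj a)) := h.2 _
    have h1 : 𝒵.p.IsHomLift (𝟙 (𝒵.p.obj a)) φ := hφ ▸ IsHomLift.map 𝒵.p φ
    have := (this (Functor.Fiber.mk (p := 𝒵.p) (a := a) rfl)
      (Functor.Fiber.mk (p := 𝒵.p) (a := a) rfl)).allEq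
      (⟨φ, h1⟩ : Functor.Fiber.mk (p := 𝒵.p) (a := a) rfl ⟶ Functor.Fiber.mk rfl)
      (𝟙 _)
    exact congrArg Subtype.val this

theorem toIsoPsh_faithful (hp : FibCat.IsFibGrpd 𝒵.p) (hs : Setoidal 𝒵) :
    (toIsoPsh hp).toFunctor.Faithful where
  map_injective {a b φ φ'} h := by
    have hb : 𝒵.p.map φ = 𝒵.p.map φ' := congrArg Stk.EltObj.Hom.hom h
    have : 𝒵.p.IsHomLift (𝟙 (𝒵.p.obj a) ≫ 𝒵.p.map φ') φ := by
      rw [Category.id_comp, ← hb]; infer_instance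
    obtain ⟨ψ, hψ, e⟩ := exists_lift_through hp φ' φ (𝟙 (𝒵.p.obj a))
    rw [hs a ψ (IsHomLift.eq_of_isHomLift 𝒵.p (𝟙 _) ψ).symm, Category.id_comp] at e
    exact e.symm

theorem toIsoPsh_full (hp : FibCat.IsFibGrpd 𝒵.p) : (toIsoPsh hp).toFunctor.Full where
  map_surjective {a b} f := by
    obtain ⟨θ, hθ⟩ := Quotient.exact (s := isoSetoid hp _) f.map_sec
    change 𝒵.p.IsHomLift (𝟙 (𝒵.p.obj a)) θ at hθ
    have : IsIso θ := isIso_of_isHomLift_id hp (R := 𝒵.p.obj a) θ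
    refine ⟨inv θ ≫ pbMap hp rfl f.hom, Stk.EltObj.hom_ext ?_⟩
    have h1 : 𝒵.p.IsHomLift (𝟙 (𝒵.p.obj a)) (inv θ) := inferInstance
    have h2 : 𝒵.p.IsHomLift f.hom (pbMap hp (z := b) rfl f.hom) := pbMap_isHomLift hp rfl f.hom
    have h3 : 𝒵.p.IsHomLift f.hom (inv θ ≫ pbMap hp (z := b) rfl f.hom) :=
      IsHomLift.comp_lift_id_left' 𝒵.p (𝒵.p.obj a) _ _ _
    exact (@IsHomLift.eq_of_isHomLift _ _ _ _ 𝒵.p _ _ f.hom _ h3).symm

theorem isEquivOver_toIsoPsh (hp : FibCat.IsFibGrpd 𝒵.p) (hs : Setoidal 𝒵) :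
    FibCat.IsEquivOver (toIsoPsh hp) := by
  have := toIsoPsh_faithful hp hs
  have := toIsoPsh_full hp
  refine isEquivOver_of _ fun η => ?_
  obtain ⟨T, x⟩ := η
  induction x using Quotient.inductionOn with
  | h z =>
    obtain ⟨z, hz⟩ := z
    change 𝒵.p.obj z = T at hz
    subst hz
    exact ⟨z, Iso.refl _, IsHomLift.id rfl⟩

theorem setoidal_ofPsh (P : Cᵒᵖ ⥤ Type u₂) : Setoidal (Stk.ofPsh P) :=
  fun _ _ h => Stk.EltObj.hom_ext h

theorem isFibGrpd_overCat (U : C) : FibCat.IsFibGrpd (FibCat.overCat U).p where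
  exists_lift := fun {x} {V} f =>
    ⟨Over.mk (f ≫ (show Over U from x).hom), Over.homMk f,
      IsHomLift.map (FibCat.overCat U).p (Over.homMk f : Over.mk (f ≫ (show Over U from x).hom) ⟶ x)⟩
  isStronglyCartesian := fun {y x} φ =>
    { universal_property' := fun {a'} g φ' hφ' => by
        change Over U at a'
        have hg : g ≫ (Over.forget U).map φ = (Over.forget U).map φ' :=
          @IsHomLift.eq_of_isHomLift _ _ _ _ (Over.forget U) _ _ _ _ hφ'
        let χ : a' ⟶ y := Over.homMk g (by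
          have h1 := Over.w φ
          have h2 := Over.w φ'
          simp only [Over.forget_map] at hg
          rw [← h1, ← Category.assoc, hg, h2])
        refine ⟨χ, ⟨IsHomLift.map (Over.forget U) χ, Over.OverMorphism.ext hg⟩, ?_⟩
        rintro χ' ⟨hχ, -⟩
        exact Over.OverMorphism.ext (@IsHomLift.eq_of_isHomLift _ _ _ _ (Over.forget U) _ _ g _ hχ).symm }

end Groth.Agent.Lib.AlgStack.Yoneda
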