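import Groth.Agent.Lib.AlgStack.Setoidal
import Groth.Agent.Lib.AlgStack.Yoneda
import Groth.Agent.Lib.Fibred.StackLocal
import Groth.Agent.Lib.AlgStack.OfCharts
import Groth.Agent.Lib.AlgSpace.Local

/-!
# Faithful morphisms of algebraic stacks are representable by algebraic spaces
-/

set_option autoImplicit false
set_option backward.isDefEq.respectTransparency false
set_option backward.isDefEq.respectTransparency.types false

universe u

open CategoryTheory CategoryTheory.Limits AlgebraicGeometry Opposite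

namespace Groth.Agent.Lib.AlgStack.SetoidalApps

open BasedBasic Yoneda FibProd
open FibCat (IsEquivOver IsFibGrpd fp fpFst fpSnd overCat toSelf)
open AlgSt (ofSp RepByAlgSp RepByAlgSp1 RepByAlgSpWith IsAlgStack)
open AlgSp (Sp yon LocP)

variable {S : Scheme.{u}} {𝒳 𝒴 𝒵 : AlgSt.Cat S}

/-- A faithful morphism of algebraic stacks is representable by algebraic spaces. -/
theorem repByAlgSp1_of_faithful (h𝒳 : IsAlgStack Scheme.fppfPrecoverage 𝒳)
    (h𝒴 : IsAlgStack Scheme.fppfPrecoverage 𝒴) (f : 𝒳 ⥤ᵇ 𝒴) [f.toFunctor.Faithful] : RepByAlgSp1 f :=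
  fun U y => Setoidal.repByAlgSp_of_setoidal
    (IsAlgFp.isAlgStack_fp h𝒴.isStack h𝒴.diag (H14.Chart.Basic.isAlgStack_overCat U) h𝒳 y f)
    (setoidal_fp_of_faithful (Space.setoidal_of_repByAlgSp (Diag.repByAlgSp_overCat U)))

theorem faithful_iff_repByAlgSp1 (h𝒳 : IsAlgStack Scheme.fppfPrecoverage 𝒳)
    (h𝒴 : IsAlgStack Scheme.fppfPrecoverage 𝒴) (f : 𝒳 ⥤ᵇ 𝒴) :
    f.toFunctor.Faithful ↔ RepByAlgSp1 f :=
  ⟨fun _ => repByAlgSp1_of_faithful h𝒳 h𝒴 f,
    Space.faithful_of_repByAlgSp1 h𝒳.isStack.1 h𝒴.isStack.1⟩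

/-- A fully faithful morphism of algebraic stacks is a monomorphism. -/
theorem isMono_of_fullyFaithful (h𝒳 : IsAlgStack Scheme.fppfPrecoverage 𝒳)
    (h𝒴 : IsAlgStack Scheme.fppfPrecoverage 𝒴) (f : 𝒳 ⥤ᵇ 𝒴) [f.toFunctor.Full] [f.toFunctor.Faithful] :
    AlgSt.IsMono f := fun U y => by
  obtain ⟨F, e, he⟩ := repByAlgSp1_of_faithful h𝒳 h𝒴 f U y
  exact ⟨F, e, he, Setoidal.mono_of_full he⟩

/-- Faithfulness is checked after base change along an fppf cover. -/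
theorem faithful_of_cover (h𝒳 : Stk.IsStack (AlgSp.J S) 𝒳) (h𝒴 : IsFibGrpd 𝒴.p) (f : 𝒳 ⥤ᵇ 𝒴)
    {w : 𝒵 ⥤ᵇ 𝒴} (hw₁ : RepByAlgSpWith (LocP @Flat) w)
    (hw₂ : RepByAlgSpWith (LocP @LocallyOfFinitePresentation) w)
    (hw₃ : RepByAlgSpWith AlgSp.IsSurjectiveMor w) (hs : Setoidal (fp w f)) : f.toFunctor.Faithful := by
  refine Fibred.StackLocal.faithful_of_vertical f h𝒳.1 h𝒴 fun a θ hθ hfθ => ?_
  let y := fromObj h𝒴 (f.w_obj a)
  obtain ⟨T', s, hsf, u, ⟨α⟩⟩ := H14.Sep.Cover.exists_lift hw₁ hw₂ hw₃ y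
  refine Fibred.StackLocal.eq_id_of_locally h𝒳.1
    ((Fibred.Descent.faithful_iff_sep h𝒳.1).1 (h𝒳.2 _ (AlgSpace.singleton_mem_J s hsf.fppfCover)).faithful)
    θ hθ fun V g hg => ?_
  obtain ⟨_, h, _, ⟨i⟩, rfl⟩ := hg
  obtain ⟨z, ψ, hψ⟩ := Fibred.Descent.exists_lift h𝒳.1 (x := a) rfl (h ≫ s)
  refine ⟨z, ψ, hψ, fun θ' hθ' e => ?_⟩
  have hz : 𝒳.p.obj z = V := IsHomLift.domain_eq 𝒳.p (h ≫ s) ψ
  have hfθ' : f.map θ' = 𝟙 (f.obj z) := by
    refine Fibred.Descent.ext_lift h𝒴 (f.map ψ) (f := h ≫ s) inferInstance (g := 𝟙 V) inferInstance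
      (IsHomLift.id ((f.w_obj z).trans hz)) ?_
    rw [← f.toFunctor.map_comp, e, f.toFunctor.map_comp, hfθ, Category.id_comp, Category.comp_id]
  let gT : Over T' := Over.mk h
  let P := appIso α gT
  have hP : 𝒴.p.IsHomLift (𝟙 V) P.inv :=
    haveI : 𝒴.p.IsHomLift (𝟙 V) P.hom := appIso_isHomLift α gT
    IsHomLift.lift_id_inv 𝒴.p _ _
  let χ := pbMap h𝒴 (f.w_obj a) (h ≫ s)
  have hχ : 𝒴.p.IsHomLift (h ≫ s) (P.inv ≫ χ) := IsHomLift.comp_lift_id_left' 𝒴.p V P.inv (h ≫ s) χ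
  obtain ⟨ν, hν, -⟩ := Fibred.Descent.exists_factor h𝒴 (f := h ≫ s) (f.map ψ) inferInstance _ hχ
  have := Fibred.StackLemmas.isIso_of_vertical h𝒴 ν hν
  have ho : 𝒵.p.obj (u.obj gT) = V := u.w_obj gT
  let o : (fp w f).obj := FibProd.objMk (u.obj gT) z (asIso ν) (ho.symm ▸ hν)
  have hm : w.map (𝟙 o.obj.fst) ≫ o.obj.iso.hom = o.obj.iso.hom ≫ f.map θ' := by
    rw [hfθ', CategoryTheory.Functor.map_id, Category.id_comp]
    exact (Category.comp_id _).symm
  exact congrArg (fun m => m.hom.snd)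
    (hs o (FibProd.homMk (x := o) (y := o) (𝟙 _) θ' hm) ((fp w f).p.map_id o))

/-- Representability by algebraic spaces is checked after base change along an fppf cover. -/
theorem repByAlgSp1_of_cover (h𝒳 : IsAlgStack Scheme.fppfPrecoverage 𝒳)
    (h𝒴 : IsAlgStack Scheme.fppfPrecoverage 𝒴) (f : 𝒳 ⥤ᵇ 𝒴) {w : 𝒵 ⥤ᵇ 𝒴}
    (hw₁ : RepByAlgSpWith (LocP @Flat) w) (hw₂ : RepByAlgSpWith (LocP @LocallyOfFinitePresentation) w)
    (hw₃ : RepByAlgSpWith AlgSp.IsSurjectiveMor w) (h : RepByAlgSp (fp w f)) : RepByAlgSp1 f :=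
  haveI := faithful_of_cover h𝒳.isStack h𝒴.isStack.1 f hw₁ hw₂ hw₃ (Space.setoidal_of_repByAlgSp h)
  repByAlgSp1_of_faithful h𝒳 h𝒴 f

/-- Monomorphisms descend along fppf covers of schemes. -/
theorem descends_mono : H14.Sep.Cover.Descends (MorphismProperty.monomorphisms (Sp S)) :=
  fun G T' T γ s _ hs (h : Mono (pullback.snd γ ((yon S).map s))) => by
    refine AlgSpace.mono_of_yon γ fun W a b e => ?_
    obtain ⟨m, hm⟩ := (yon S).map_surjective (a ≫ γ)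
    have sq := (IsPullback.of_hasPullback m s).map (Over.forget S)
    have : Flat (pullback.fst m s).left := MorphismProperty.of_isPullback (P := @Flat) sq.flip hs.1
    have : LocallyOfFinitePresentation (pullback.fst m s).left :=
      MorphismProperty.of_isPullback (P := @LocallyOfFinitePresentation) sq.flip hs.2.1
    have : Surjective (pullback.fst m s).left :=
      MorphismProperty.of_isPullback (P := @Surjective) sq.flip hs.2.2
    have := AlgSpace.epi_yon_map _ (AlgSpace.fppfCover_mk (pullback.fst m s).left)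
    refine (cancel_epi ((yon S).map (pullback.fst m s))).1 ?_
    have w : ∀ k : (yon S).obj W ⟶ G, k ≫ γ = (yon S).map m →
        ((yon S).map (pullback.fst m s) ≫ k) ≫ γ = (yon S).map (pullback.snd m s) ≫ (yon S).map s :=
      fun k hk => by
        rw [Category.assoc, hk, ← Functor.map_comp, ← Functor.map_comp, pullback.condition]
    have h1 : pullback.lift _ _ (w a hm.symm) = pullback.lift _ _ (w b (e.symm.trans hm.symm)) := by
      rw [← cancel_mono (pullback.snd γ ((yon S).map s))]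
      simp
    simpa using congrArg (· ≫ pullback.fst γ ((yon S).map s)) h1

/-- Being a monomorphism is checked on one fppf chart by an algebraic space. -/
theorem isMono_iff_of_spaceCover (h𝒳 : IsAlgStack Scheme.fppfPrecoverage 𝒳)
    (h𝒴 : IsAlgStack Scheme.fppfPrecoverage 𝒴) (f : 𝒳 ⥤ᵇ 𝒴) (W : AlgSp.Space S)
    (w : ofSp W.obj ⥤ᵇ 𝒴) (hw₁ : RepByAlgSpWith (LocP @Flat) w)
    (hw₂ : RepByAlgSpWith (LocP @LocallyOfFinitePresentation) w)
    (hw₃ : RepByAlgSpWith AlgSp.IsSurjectiveMor w) :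
    AlgSt.IsMono f ↔ ∃ (V : AlgSp.Space S) (a : V ⟶ W) (e : ofSp V.obj ⥤ᵇ fp w f),
      IsEquivOver e ∧ Nonempty (BasedFunctor.comp e (fpFst w f) ≅ AlgSt.ofSpMap a.hom) ∧ Mono a.hom := by
  have hb := H14.Sep.SpProps.stableBC_mono (S := S)
  constructor
  · intro h
    obtain ⟨G, b, t, ht, hβ, hp⟩ := Source.exists_rep_detected h𝒳.isStack.1 h𝒴.isStack.1
      (Rep.repByAlgSp1_of_repByAlgSpWith h) W w
    exact ⟨G, ObjectProperty.homMk b, t, ht, hβ,
      hp (Space.respectsIsoSp_of_baseChange hb) CompRep.detected_monomorphisms h⟩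
  · rintro ⟨V, a, e, he, ⟨β⟩, ha⟩
    have hr := repByAlgSp1_of_cover h𝒳 h𝒴 f hw₁ hw₂ hw₃ ⟨V, e, he⟩
    have hf : RepByAlgSpWith (MorphismProperty.monomorphisms (Sp S)) (fpFst w f) :=
      (Rep.repByAlgSpWith_iff_of_isEquivOver (f := fpFst w f) (f' := AlgSt.ofSpMap a.hom) he
        BasedBasic.isEquivOver_id β.symm).2
        (Descend.repByAlgSpWith_ofSpMap hb V.property W.property ha)
    refine H14.Sep.Cover.rep_descend hb H14.Sep.SpProps.fromSchemes_mono descends_mono hr fun T z => ?_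
    obtain ⟨T', s, hs, u, ⟨α⟩⟩ := H14.Sep.Cover.exists_lift hw₁ hw₂ hw₃ z
    exact ⟨T', s, hs, (Rep.repByAlgSpWith_iff_of_isEquivOver
      (f := fpFst (BasedFunctor.comp (H14.Sep.Lft.vOf s) z) f) (f' := fpFst u (fpFst w f))
      (BasedBasic.IsEquivOver.comp (Rep.isEquivOver_pasteBase u w f) (isEquivOver_congrLeft α.symm f))
      BasedBasic.isEquivOver_id (eqToIso rfl)).2 (Rep.repByAlgSpWith_fpFst u hf)⟩

/-- The inertia is trivial iff the category is fibred in setoids. -/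
theorem isEquivOver_inertia_iff (h : IsFibGrpd 𝒳.p) :
    IsEquivOver (FibCat.inertiaToBase (toSelf 𝒳)) ↔ Setoidal 𝒳 := by
  constructor
  · intro he a φ hφ
    have : 𝒳.p.IsHomLift (𝟙 (𝒳.p.obj a)) φ := hφ ▸ IsHomLift.map 𝒳.p φ
    have := isIso_of_isHomLift_id h (R := 𝒳.p.obj a) φ
    let o₁ : (FibCat.inertia (toSelf 𝒳)).obj := ⟨a, asIso φ, hφ⟩
    let o₂ : (FibCat.inertia (toSelf 𝒳)).obj := ⟨a, Iso.refl a, 𝒳.p.map_id a⟩
    have := BasedBasic.IsEquivOver.full he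
    obtain ⟨m, hm⟩ := (FibCat.inertiaToBase (toSelf 𝒳)).toFunctor.map_surjective
      (X := o₁) (Y := o₂) (𝟙 a)
    have hm' : m.hom = 𝟙 a := hm
    have := m.comm
    rw [hm'] at this
    simpa [o₁, o₂] using this
  · intro hs
    have key : ∀ o : (FibCat.inertia (toSelf 𝒳)).obj, o.aut.hom = 𝟙 o.pt := fun o => hs _ _ o.map_aut
    have : (FibCat.inertiaToBase (toSelf 𝒳)).toFunctor.Faithful :=
      ⟨fun h' => FibCat.InertiaObj.hom_ext h'⟩
    have : (FibCat.inertiaToBase (toSelf 𝒳)).toFunctor.Full := ⟨fun {a b} g =>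
      ⟨⟨g, by rw [key a, key b]; exact (Category.id_comp g).trans (Category.comp_id g).symm⟩, rfl⟩⟩
    refine BasedBasic.isEquivOver_of _ fun η =>
      ⟨⟨η, Iso.refl η, 𝒳.p.map_id η⟩, Iso.refl η, IsHomLift.id rfl⟩

end Groth.Agent.Lib.AlgStack.SetoidalApps
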