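import Groth.Agent.Lib.AlgStack.Yoneda

/-!
# 2-fibre products over a base: fibredness, functoriality, pasting
-/

set_option autoImplicit false
set_option backward.isDefEq.respectTransparency false
set_option backward.isDefEq.respectTransparency.types false

universe v₇ u₇ v₆ u₆ v₅ u₅ v₄ u₄ v₃ u₃ v₂ u₂ v u

open CategoryTheory CategoryTheory.Functor CategoryTheory.Limits

namespace Groth.Agent.Lib.AlgStack.FibProd

open BasedBasic Yoneda FibCat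

variable {C : Type u} [Category.{v} C]

section Basic

variable {𝒳 : BasedCategory.{v₂, u₂} C} {𝒴 : BasedCategory.{v₃, u₃} C} {𝒮 : BasedCategory.{v₄, u₄} C}
  {F : 𝒳 ⥤ᵇ 𝒮} {G : 𝒴 ⥤ᵇ 𝒮}

theorem snd_obj (x : (fp F G).obj) : 𝒴.p.obj x.obj.snd = 𝒳.p.obj x.obj.fst :=
  (fpSnd F G).w_obj x

theorem hom_ext {x y : (fp F G).obj} {f g : x ⟶ y} (h1 : f.hom.fst = g.hom.fst)
    (h2 : f.hom.snd = g.hom.snd) : f = g := by
  apply ObjectProperty.hom_ext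
  exact CategoricalPullback.hom_ext h1 h2

/-- Constructor for morphisms of a 2-fibre product. -/
abbrev homMk {x y : (fp F G).obj} (f : x.obj.fst ⟶ y.obj.fst) (g : x.obj.snd ⟶ y.obj.snd)
    (h : F.map f ≫ y.obj.iso.hom = x.obj.iso.hom ≫ G.map g) : x ⟶ y :=
  ObjectProperty.homMk { fst := f, snd := g, w := h }

/-- Constructor for objects of a 2-fibre product. -/
abbrev objMk (a : 𝒳.obj) (b : 𝒴.obj) (e : F.obj a ≅ G.obj b)
    (h : 𝒮.p.IsHomLift (𝟙 (𝒳.p.obj a)) e.hom) : (fp F G).obj :=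
  ⟨{ fst := a, snd := b, iso := e }, h⟩

/-- An isomorphism of objects of a 2-fibre product over the identity. -/
theorem exists_iso_over {x y : (fp F G).obj} (e₁ : x.obj.fst ≅ y.obj.fst)
    (e₂ : x.obj.snd ≅ y.obj.snd)
    (h : F.map e₁.hom ≫ y.obj.iso.hom = x.obj.iso.hom ≫ G.map e₂.hom)
    (h₁ : 𝒳.p.IsHomLift (𝟙 (𝒳.p.obj y.obj.fst)) e₁.hom) :
    ∃ e : x ≅ y, (fp F G).p.IsHomLift (𝟙 ((fp F G).p.obj y)) e.hom := by
  refine ⟨⟨homMk e₁.hom e₂.hom h, homMk e₁.inv e₂.inv ?_, hom_ext (by simp) (by simp),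
    hom_ext (by simp) (by simp)⟩, ?_⟩
  · rw [← cancel_mono (G.map e₂.hom), Category.assoc, ← h]
    simp [← Functor.map_comp, ← Functor.map_comp_assoc]
  · have hd : 𝒳.p.obj x.obj.fst = 𝒳.p.obj y.obj.fst :=
      IsHomLift.domain_eq 𝒳.p (𝟙 (𝒳.p.obj y.obj.fst)) e₁.hom
    exact IsHomLift.of_fac' _ _ _ hd rfl (IsHomLift.fac' 𝒳.p (𝟙 (𝒳.p.obj y.obj.fst)) e₁.hom)

theorem isFibGrpd_fp (hX : IsFibGrpd 𝒳.p) (hY : IsFibGrpd 𝒴.p) (hS : IsFibGrpd 𝒮.p) :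
    IsFibGrpd (fp F G).p where
  exists_lift {x V} f := by
    obtain ⟨a, χ, hχ⟩ := hX.exists_lift (x := x.obj.fst) f
    obtain ⟨b, ψ, hψ⟩ := exists_lift' hY f (snd_obj x)
    have hx : 𝒮.p.IsHomLift (𝟙 (𝒳.p.obj x.obj.fst)) x.obj.iso.hom := x.property
    have hψ' : 𝒴.p.IsHomLift f ψ := hψ
    have := stronglyCartesian hS f (G.map ψ)
    have hlift : 𝒮.p.IsHomLift f (F.map χ ≫ x.obj.iso.hom) :=
      IsHomLift.comp_lift_id_right' 𝒮.p f (F.map χ) (𝒳.p.obj x.obj.fst) x.obj.iso.hom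
    let θ : F.obj a ⟶ G.obj b :=
      IsStronglyCartesian.map 𝒮.p f (G.map ψ) (g := 𝟙 V) (f' := f) (Category.id_comp f).symm
        (F.map χ ≫ x.obj.iso.hom)
    have hθ : 𝒮.p.IsHomLift (𝟙 V) θ := IsStronglyCartesian.map_isHomLift _ _ _ _ _
    have := isIso_of_isHomLift_id hS (R := V) θ
    have ha : 𝒳.p.obj a = V := IsHomLift.domain_eq 𝒳.p f χ
    refine ⟨objMk a b (asIso θ) (ha ▸ hθ),
      homMk χ ψ (IsStronglyCartesian.fac 𝒮.p f (G.map ψ) (g := 𝟙 V) (f' := f)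
        (Category.id_comp f).symm (F.map χ ≫ x.obj.iso.hom)).symm, ?_⟩
    exact IsHomLift.of_fac' _ _ _ ha rfl (IsHomLift.fac' 𝒳.p f χ)
  isStronglyCartesian {y x} φ :=
    { universal_property' := fun {z} g φ' hφ' => by
        have c1 := hX.isStronglyCartesian φ.hom.fst
        have c2 : 𝒴.p.IsStronglyCartesian ((fp F G).p.map φ) φ.hom.snd :=
          stronglyCartesian hY _ _
        have hb : g ≫ (fp F G).p.map φ = (fp F G).p.map φ' :=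
          @IsHomLift.eq_of_isHomLift _ _ _ _ (fp F G).p _ _ _ _ hφ'
        have l1 : 𝒳.p.IsHomLift (g ≫ 𝒳.p.map φ.hom.fst) φ'.hom.fst := by
          change 𝒳.p.IsHomLift (g ≫ (fp F G).p.map φ) φ'.hom.fst
          rw [hb]; exact IsHomLift.map 𝒳.p φ'.hom.fst
        have l2 : 𝒴.p.IsHomLift (g ≫ (fp F G).p.map φ) φ'.hom.snd := by
          rw [hb]; infer_instance
        let ψ₁ : z.obj.fst ⟶ y.obj.fst :=
          IsStronglyCartesian.map 𝒳.p (𝒳.p.map φ.hom.fst) φ.hom.fst (g := g) rfl φ'.hom.fst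
        let ψ₂ : z.obj.snd ⟶ y.obj.snd :=
          IsStronglyCartesian.map 𝒴.p ((fp F G).p.map φ) φ.hom.snd (g := g) rfl φ'.hom.snd
        have m1 : 𝒳.p.IsHomLift g ψ₁ := IsStronglyCartesian.map_isHomLift _ _ _ _ _
        have m2 : 𝒴.p.IsHomLift g ψ₂ := IsStronglyCartesian.map_isHomLift _ _ _ _ _
        have hz : 𝒮.p.IsHomLift (𝟙 ((fp F G).p.obj z)) z.obj.iso.hom := z.property
        have hy : 𝒮.p.IsHomLift (𝟙 ((fp F G).p.obj y)) y.obj.iso.hom := y.property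
        have : 𝒮.p.IsStronglyCartesian ((fp F G).p.map φ) (G.map φ.hom.snd) :=
          stronglyCartesian hS _ _
        have n1 : 𝒮.p.IsHomLift g (F.map ψ₁ ≫ y.obj.iso.hom) :=
          IsHomLift.comp_lift_id_right' 𝒮.p g (F.map ψ₁) ((fp F G).p.obj y) y.obj.iso.hom
        have n2 : 𝒮.p.IsHomLift g (z.obj.iso.hom ≫ G.map ψ₂) :=
          IsHomLift.comp_lift_id_left' 𝒮.p ((fp F G).p.obj z) z.obj.iso.hom g (G.map ψ₂)
        have w : F.map ψ₁ ≫ y.obj.iso.hom = z.obj.iso.hom ≫ G.map ψ₂ := by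
          apply IsStronglyCartesian.ext 𝒮.p ((fp F G).p.map φ) (G.map φ.hom.snd) g
          rw [Category.assoc, Category.assoc, ← φ.hom.w, ← Functor.map_comp_assoc,
            ← Functor.map_comp, IsStronglyCartesian.fac, IsStronglyCartesian.fac]
          exact φ'.hom.w
        have f₁ : ψ₁ ≫ φ.hom.fst = φ'.hom.fst :=
          IsStronglyCartesian.fac 𝒳.p (𝒳.p.map φ.hom.fst) φ.hom.fst (g := g) rfl φ'.hom.fst
        have f₂ : ψ₂ ≫ φ.hom.snd = φ'.hom.snd :=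
          IsStronglyCartesian.fac 𝒴.p ((fp F G).p.map φ) φ.hom.snd (g := g) rfl φ'.hom.snd
        refine ⟨homMk ψ₁ ψ₂ w, ⟨IsHomLift.of_fac' _ _ _ rfl rfl (IsHomLift.fac' 𝒳.p g ψ₁),
          hom_ext f₁ f₂⟩, ?_⟩
        rintro χ ⟨hχ, e⟩
        have hg : g = (fp F G).p.map χ := @IsHomLift.eq_of_isHomLift _ _ _ _ (fp F G).p _ _ g _ hχ
        apply hom_ext
        · have : 𝒳.p.IsHomLift g χ.hom.fst := hg ▸ IsHomLift.map 𝒳.p χ.hom.fst
          exact IsStronglyCartesian.map_uniq 𝒳.p (𝒳.p.map φ.hom.fst) φ.hom.fst (g := g) rfl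
            φ'.hom.fst χ.hom.fst (congrArg (fun m => m.hom.fst) e)
        · have : 𝒴.p.IsHomLift g χ.hom.snd := hg ▸ inferInstance
          exact IsStronglyCartesian.map_uniq 𝒴.p ((fp F G).p.map φ) φ.hom.snd (g := g) rfl
            φ'.hom.snd χ.hom.snd (congrArg (fun m => m.hom.snd) e) }

theorem setoidal_fp (hX : Setoidal 𝒳) (hY : Setoidal 𝒴) : Setoidal (fp F G) := by
  intro a φ h
  apply hom_ext
  · exact hX _ _ h
  · refine hY _ _ ?_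
    have h' : 𝒴.p.IsHomLift (𝟙 ((fp F G).p.obj a)) φ.hom.snd := h ▸ FibCat.fp_isHomLift_snd F G φ
    simpa using IsHomLift.fac' 𝒴.p (𝟙 ((fp F G).p.obj a)) φ.hom.snd

theorem setoidal_fp_of_faithful (hX : Setoidal 𝒳) [G.toFunctor.Faithful] : Setoidal (fp F G) := by
  intro a φ h
  have h1 : φ.hom.fst = 𝟙 a.obj.fst := hX _ _ h
  apply hom_ext h1
  apply G.toFunctor.map_injective
  rw [← cancel_epi a.obj.iso.hom, ← φ.hom.w, h1]
  simp

end Basic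

section Map

variable {𝒳 : BasedCategory.{v₂, u₂} C} {𝒴 : BasedCategory.{v₃, u₃} C} {𝒮 : BasedCategory.{v₄, u₄} C}
  {𝒳' : BasedCategory.{v₅, u₅} C} {𝒴' : BasedCategory.{v₆, u₆} C} {𝒮' : BasedCategory.{v₇, u₇} C}
  {F : 𝒳 ⥤ᵇ 𝒮} {G : 𝒴 ⥤ᵇ 𝒮} {F' : 𝒳' ⥤ᵇ 𝒮'} {G' : 𝒴' ⥤ᵇ 𝒮'}
  (a : 𝒳' ⥤ᵇ 𝒳) (b : 𝒴' ⥤ᵇ 𝒴) (c : 𝒮' ⥤ᵇ 𝒮)
  (α : BasedFunctor.comp a F ≅ BasedFunctor.comp F' c)
  (β : BasedFunctor.comp b G ≅ BasedFunctor.comp G' c)

/-- The 2-isomorphism of the square defining `fpMap`. -/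
def fpMapIso : BasedFunctor.comp (BasedFunctor.comp (fpFst F' G') a) F ≅
    BasedFunctor.comp (BasedFunctor.comp (fpSnd F' G') b) G :=
  BasedBasic.isoWhiskerLeft (fpFst F' G') α ≪≫ BasedBasic.isoWhiskerRight (fpIso F' G') c ≪≫
    BasedBasic.isoWhiskerLeft (fpSnd F' G') β.symm

/-- Functoriality of the 2-fibre product. -/
def fpMap : fp F' G' ⥤ᵇ fp F G :=
  fpLift (BasedFunctor.comp (fpFst F' G') a) (BasedFunctor.comp (fpSnd F' G') b)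
    (fpMapIso a b c α β)

theorem fpMap_fst : BasedFunctor.comp (fpMap a b c α β) (fpFst F G) =
    BasedFunctor.comp (fpFst F' G') a := rfl

theorem fpMap_snd : BasedFunctor.comp (fpMap a b c α β) (fpSnd F G) =
    BasedFunctor.comp (fpSnd F' G') b := rfl

theorem fpMap_iso (x : (fp F' G').obj) : ((fpMap a b c α β).obj x).obj.iso.hom =
    (appIso α x.obj.fst).hom ≫ c.map x.obj.iso.hom ≫ (appIso β x.obj.snd).inv := rfl

theorem isEquivOver_fpMap (ha : IsEquivOver a) (hb : IsEquivOver b) [c.toFunctor.Full]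
    [c.toFunctor.Faithful] : IsEquivOver (fpMap a b c α β) := by
  have := BasedBasic.IsEquivOver.full ha
  have := BasedBasic.IsEquivOver.faithful ha
  have := BasedBasic.IsEquivOver.full hb
  have := BasedBasic.IsEquivOver.faithful hb
  have : (fpMap a b c α β).toFunctor.Faithful := ⟨fun {x y f g} h =>
    hom_ext (a.toFunctor.map_injective (congrArg (fun m => m.hom.fst) h))
      (b.toFunctor.map_injective (congrArg (fun m => m.hom.snd) h))⟩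
  have : (fpMap a b c α β).toFunctor.Full := ⟨fun {x y} g => by
    obtain ⟨g₁, h₁⟩ := a.toFunctor.map_surjective g.hom.fst
    obtain ⟨g₂, h₂⟩ := b.toFunctor.map_surjective g.hom.snd
    refine ⟨homMk g₁ g₂ (c.toFunctor.map_injective ?_), hom_ext h₁ h₂⟩
    have w := g.hom.w
    rw [fpMap_iso, fpMap_iso, ← h₁, ← h₂] at w
    have n1 : F.map (a.map g₁) ≫ (appIso α y.obj.fst).hom =
        (appIso α x.obj.fst).hom ≫ c.map (F'.map g₁) := α.hom.toNatTrans.naturality g₁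
    have n2 : (appIso β x.obj.snd).inv ≫ G.map (b.map g₂) =
        c.map (G'.map g₂) ≫ (appIso β y.obj.snd).inv := (β.inv.toNatTrans.naturality g₂).symm
    simp only [Category.assoc] at w
    rw [reassoc_of% n1, n2, cancel_epi] at w
    rw [← cancel_mono (appIso β y.obj.snd).inv]
    simpa using w⟩
  refine isEquivOver_of _ fun η => ?_
  obtain ⟨x, e₁, he₁⟩ := BasedBasic.IsEquivOver.exists_iso ha η.obj.fst
  obtain ⟨y, e₂, he₂⟩ := BasedBasic.IsEquivOver.exists_iso hb η.obj.snd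
  have hη : 𝒮.p.IsHomLift (𝟙 (𝒳.p.obj η.obj.fst)) η.obj.iso.hom := η.property
  let T := 𝒳.p.obj η.obj.fst
  have he₂' : 𝒴.p.IsHomLift (𝟙 T) e₂.hom := by
    have hT : 𝒴.p.obj η.obj.snd = T := snd_obj η
    exact hT ▸ he₂
  have hx : 𝒳'.p.obj x = T :=
    (a.w_obj x).symm.trans (IsHomLift.domain_eq 𝒳.p (𝟙 T) e₁.hom)
  have hy : 𝒴'.p.obj y = T :=
    (b.w_obj y).symm.trans (IsHomLift.domain_eq 𝒴.p (𝟙 T) e₂.hom)
  have a1 : 𝒮.p.IsHomLift (𝟙 T) (appIso α x).inv := BasedNatTrans.isHomLift α.inv hx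
  have a2 : 𝒮.p.IsHomLift (𝟙 T) (appIso β y).hom := BasedNatTrans.isHomLift β.hom hy
  have b2 : 𝒴.p.IsHomLift (𝟙 T) e₂.inv := IsHomLift.lift_id_inv 𝒴.p T e₂
  let m : c.obj (F'.obj x) ≅ c.obj (G'.obj y) :=
    (appIso α x).symm ≪≫ F.toFunctor.mapIso e₁ ≪≫ η.obj.iso ≪≫
      (G.toFunctor.mapIso e₂).symm ≪≫ appIso β y
  have hm : 𝒮.p.IsHomLift (𝟙 T) m.hom := by
    change 𝒮.p.IsHomLift (𝟙 T) ((appIso α x).inv ≫ F.map e₁.hom ≫ η.obj.iso.hom ≫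
      G.map e₂.inv ≫ (appIso β y).hom)
    infer_instance
  have hm' : 𝒮'.p.IsHomLift (𝟙 (𝒳'.p.obj x)) (c.toFunctor.preimageIso m).hom := by
    rw [hx, ← BasedFunctor.isHomLift_iff c]
    simpa using hm
  refine ⟨objMk x y (c.toFunctor.preimageIso m) hm', exists_iso_over e₁ e₂ ?_ he₁⟩
  rw [fpMap_iso]
  simp only [m, Functor.preimageIso_hom, Functor.map_preimage, Iso.trans_hom, Iso.symm_hom,
    Functor.mapIso_hom, Functor.mapIso_inv, Category.assoc, Iso.hom_inv_id_assoc]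
  simp [← Functor.map_comp]

end Map

section CongrLeft

variable {𝒳 : BasedCategory.{v₂, u₂} C} {𝒴 : BasedCategory.{v₃, u₃} C} {𝒮 : BasedCategory.{v₄, u₄} C}

/-- A 2-isomorphism of the first functor induces an equivalence of fibre products. -/
def congrLeft {y y' : 𝒳 ⥤ᵇ 𝒮} (e : y ≅ y') (f : 𝒴 ⥤ᵇ 𝒮) : fp y f ⥤ᵇ fp y' f :=
  fpMap (BasedFunctor.id 𝒳) (BasedFunctor.id 𝒴) (BasedFunctor.id 𝒮) e.symm (Iso.refl f)

theorem congrLeft_fst {y y' : 𝒳 ⥤ᵇ 𝒮} (e : y ≅ y') (f : 𝒴 ⥤ᵇ 𝒮) :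
    BasedFunctor.comp (congrLeft e f) (fpFst y' f) = fpFst y f := rfl

theorem isEquivOver_congrLeft {y y' : 𝒳 ⥤ᵇ 𝒮} (e : y ≅ y') (f : 𝒴 ⥤ᵇ 𝒮) :
    IsEquivOver (congrLeft e f) :=
  haveI : (BasedFunctor.id 𝒮).toFunctor.Full := inferInstanceAs (𝟭 𝒮.obj).Full
  haveI : (BasedFunctor.id 𝒮).toFunctor.Faithful := inferInstanceAs (𝟭 𝒮.obj).Faithful
  isEquivOver_fpMap _ _ _ _ _ isEquivOver_id isEquivOver_id

/-- A 2-isomorphism of the second functor induces an equivalence of fibre products. -/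
def congrRight (y : 𝒳 ⥤ᵇ 𝒮) {f f' : 𝒴 ⥤ᵇ 𝒮} (e : f ≅ f') : fp y f ⥤ᵇ fp y f' :=
  fpMap (BasedFunctor.id 𝒳) (BasedFunctor.id 𝒴) (BasedFunctor.id 𝒮) (Iso.refl y) e.symm

theorem congrRight_fst (y : 𝒳 ⥤ᵇ 𝒮) {f f' : 𝒴 ⥤ᵇ 𝒮} (e : f ≅ f') :
    BasedFunctor.comp (congrRight y e) (fpFst y f') = fpFst y f := rfl

theorem isEquivOver_congrRight (y : 𝒳 ⥤ᵇ 𝒮) {f f' : 𝒴 ⥤ᵇ 𝒮} (e : f ≅ f') :
    IsEquivOver (congrRight y e) :=
  haveI : (BasedFunctor.id 𝒮).toFunctor.Full := inferInstanceAs (𝟭 𝒮.obj).Full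
  haveI : (BasedFunctor.id 𝒮).toFunctor.Faithful := inferInstanceAs (𝟭 𝒮.obj).Faithful
  isEquivOver_fpMap _ _ _ _ _ isEquivOver_id isEquivOver_id

/-- Exchange of the factors. -/
def swap (F : 𝒳 ⥤ᵇ 𝒮) (G : 𝒴 ⥤ᵇ 𝒮) : fp F G ⥤ᵇ fp G F :=
  fpLift (fpSnd F G) (fpFst F G) (fpIso F G).symm

theorem swap_iso (F : 𝒳 ⥤ᵇ 𝒮) (G : 𝒴 ⥤ᵇ 𝒮) (x : (fp F G).obj) :
    ((swap F G).obj x).obj.iso.hom = x.obj.iso.inv := rfl

theorem isEquivOver_swap (F : 𝒳 ⥤ᵇ 𝒮) (G : 𝒴 ⥤ᵇ 𝒮) : IsEquivOver (swap F G) := by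
  have : (swap F G).toFunctor.Faithful := ⟨fun {x y f g} h =>
    hom_ext (congrArg (fun m => m.hom.snd) h) (congrArg (fun m => m.hom.fst) h)⟩
  have : (swap F G).toFunctor.Full := ⟨fun {x y} g => by
    refine ⟨homMk g.hom.snd g.hom.fst ?_, rfl⟩
    have w := g.hom.w
    rw [swap_iso, swap_iso] at w
    rw [← cancel_epi x.obj.iso.inv, ← reassoc_of% w]
    simp⟩
  refine isEquivOver_of _ fun η => ?_
  refine ⟨objMk η.obj.snd η.obj.fst η.obj.iso.symm ?_,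
    exists_iso_over (Iso.refl _) (Iso.refl _) ?_ (IsHomLift.id rfl)⟩
  · have hη : 𝒮.p.IsHomLift (𝟙 (𝒳.p.obj η.obj.snd)) η.obj.iso.hom := (snd_obj η).symm ▸ η.property
    exact IsHomLift.lift_id_inv 𝒮.p _ η.obj.iso
  · rw [swap_iso]; simp [swap, fpLift, fpFst, fpSnd]

end CongrLeft

end Groth.Agent.Lib.AlgStack.FibProd
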