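import Groth.Prelude.Def_AlgSt
import Groth.Agent.Lib.AlgStack.BasedBasic

/-!
# Functors over the base between categories of presheaves are maps of presheaves
-/

set_option autoImplicit false
set_option backward.isDefEq.respectTransparency false
set_option backward.isDefEq.respectTransparency.types false

universe w v₂ u₂ v u

open CategoryTheory Opposite CategoryTheory.Functor

namespace Groth.Agent.Lib.AlgStack.OfPsh

open BasedBasic

variable {C : Type u} [Category.{v} C] {P Q R : Cᵒᵖ ⥤ Type w}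

theorem obj_base (Φ : Stk.ofPsh P ⥤ᵇ Stk.ofPsh Q) (a : Stk.EltObj P) :
    (Φ.obj a).base = a.base :=
  Φ.w_obj a

theorem map_hom (Φ : Stk.ofPsh P ⥤ᵇ Stk.ofPsh Q) {a b : Stk.EltObj P} (f : a ⟶ b) :
    (Φ.map f).hom = eqToHom (obj_base Φ a) ≫ f.hom ≫ eqToHom (obj_base Φ b).symm :=
  have := IsHomLift.map (Stk.ofPsh P).p f
  have := BasedFunctor.preserves_isHomLift Φ ((Stk.ofPsh P).p.map f) f
  IsHomLift.fac' (Stk.ofPsh Q).p ((Stk.ofPsh P).p.map f) (Φ.map f)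

/-- The section of `Φ(U, x)`, transported to `U`. -/
def secOf (Φ : Stk.ofPsh P ⥤ᵇ Stk.ofPsh Q) (a : Stk.EltObj P) : Q.obj (op a.base) :=
  Q.map (eqToHom (obj_base Φ a).symm).op (Φ.obj a).sec

theorem map_secOf (Φ : Stk.ofPsh P ⥤ᵇ Stk.ofPsh Q) {a b : Stk.EltObj P} (f : a ⟶ b) :
    Q.map f.hom.op (secOf Φ b) = secOf Φ a := by
  rw [secOf, secOf, ← (Φ.map f).map_sec, map_hom Φ f, ← Functor.map_comp_apply,
    ← Functor.map_comp_apply, ← op_comp, ← op_comp]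
  congr 3
  simp

/-- The map of presheaves determined by a functor over the base. -/
def pshMap (Φ : Stk.ofPsh P ⥤ᵇ Stk.ofPsh Q) : P ⟶ Q where
  app T := ↾fun x => secOf Φ ⟨T.unop, x⟩
  naturality T T' g := by
    ext x
    exact (map_secOf Φ (⟨g.unop, rfl⟩ : (⟨T'.unop, P.map g x⟩ : Stk.EltObj P) ⟶ ⟨T.unop, x⟩)).symm

theorem pshMap_app (Φ : Stk.ofPsh P ⥤ᵇ Stk.ofPsh Q) (T : C) (x : P.obj (op T)) :
    (pshMap Φ).app (op T) x = secOf Φ ⟨T, x⟩ := rfl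

/-- A morphism over an identity between objects of the category of a presheaf relates the sections. -/
theorem sec_eq_of_lift_id {a b : Stk.EltObj Q} {U : C} (f : a ⟶ b)
    (hf : (Stk.ofPsh Q).p.IsHomLift (𝟙 U) f) (ha : a.base = U) (hb : b.base = U) :
    Q.map (eqToHom ha.symm).op a.sec = Q.map (eqToHom hb.symm).op b.sec := by
  rw [← f.map_sec, ← Functor.map_comp_apply, ← op_comp]
  congr 3
  have h : f.hom = _ := IsHomLift.fac' (Stk.ofPsh Q).p (𝟙 U) f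
  simp [h]

theorem pshMap_eq_of_natTrans {Φ Φ' : Stk.ofPsh P ⥤ᵇ Stk.ofPsh Q} (α : Φ ⟶ Φ') :
    pshMap Φ = pshMap Φ' := by
  ext T x
  exact sec_eq_of_lift_id _ (BasedNatTrans.isHomLift α rfl) (obj_base Φ ⟨T.unop, x⟩)
    (obj_base Φ' ⟨T.unop, x⟩)

theorem pshMap_eq_of_iso {Φ Φ' : Stk.ofPsh P ⥤ᵇ Stk.ofPsh Q} (e : Φ ≅ Φ') :
    pshMap Φ = pshMap Φ' :=
  pshMap_eq_of_natTrans e.hom

@[simp] theorem pshMap_ofPshMap (φ : P ⟶ Q) : pshMap (Stk.ofPshMap φ) = φ := by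
  ext T x
  simp [pshMap, secOf, Stk.ofPshMap]

theorem ofPshMap_id : Stk.ofPshMap (𝟙 P) = BasedFunctor.id (Stk.ofPsh P) := rfl

theorem ofPshMap_comp (φ : P ⟶ Q) (ψ : Q ⟶ R) :
    Stk.ofPshMap (φ ≫ ψ) = BasedFunctor.comp (Stk.ofPshMap φ) (Stk.ofPshMap ψ) := rfl

/-- A functor over the base between categories of presheaves is 2-isomorphic to the functor of its map
of presheaves. -/
def isoOfPshMap (Φ : Stk.ofPsh P ⥤ᵇ Stk.ofPsh Q) : Φ ≅ Stk.ofPshMap (pshMap Φ) :=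
  BasedNatIso.mkNatIso
    (NatIso.ofComponents
      (fun a =>
        { hom := ⟨eqToHom (obj_base Φ a), by
            change Q.map _ (Q.map _ (Φ.obj a).sec) = (Φ.obj a).sec
            rw [← Functor.map_comp_apply, ← op_comp]
            simp⟩
          inv := ⟨eqToHom (obj_base Φ a).symm, rfl⟩
          hom_inv_id := by apply Stk.EltObj.hom_ext; simp
          inv_hom_id := by
            apply Stk.EltObj.hom_ext
            change eqToHom (obj_base Φ a).symm ≫ eqToHom (obj_base Φ a) = 𝟙 a.base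
            simp })
      (fun {a b} f => by
        apply Stk.EltObj.hom_ext
        change (Φ.map f).hom ≫ eqToHom (obj_base Φ b) = eqToHom (obj_base Φ a) ≫ f.hom
        simp [map_hom Φ f]))
    (fun a => IsHomLift.of_fac' _ _ _ (obj_base Φ a) rfl (by simp))

theorem exists_iso_iff {Φ Φ' : Stk.ofPsh P ⥤ᵇ Stk.ofPsh Q} :
    Nonempty (Φ ≅ Φ') ↔ pshMap Φ = pshMap Φ' :=
  ⟨fun ⟨e⟩ => pshMap_eq_of_iso e,
    fun h => ⟨isoOfPshMap Φ ≪≫ eqToIso (by rw [h]) ≪≫ (isoOfPshMap Φ').symm⟩⟩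

@[simp] theorem pshMap_id : pshMap (BasedFunctor.id (Stk.ofPsh P)) = 𝟙 P :=
  pshMap_ofPshMap (𝟙 P)

theorem pshMap_comp (Φ : Stk.ofPsh P ⥤ᵇ Stk.ofPsh Q) (Ψ : Stk.ofPsh Q ⥤ᵇ Stk.ofPsh R) :
    pshMap (BasedFunctor.comp Φ Ψ) = pshMap Φ ≫ pshMap Ψ := by
  rw [pshMap_eq_of_iso (isoWhiskerRight (isoOfPshMap Φ) Ψ ≪≫
    isoWhiskerLeft _ (isoOfPshMap Ψ)), ← ofPshMap_comp, pshMap_ofPshMap]

theorem isEquivOver_ofPshMap (φ : P ⟶ Q) [IsIso φ] : FibCat.IsEquivOver (Stk.ofPshMap φ) :=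
  ⟨Stk.ofPshMap (inv φ), ⟨eqToIso (by rw [← ofPshMap_comp, IsIso.hom_inv_id, ofPshMap_id])⟩,
    ⟨eqToIso (by rw [← ofPshMap_comp, IsIso.inv_hom_id, ofPshMap_id])⟩⟩

theorem isIso_pshMap {Φ : Stk.ofPsh P ⥤ᵇ Stk.ofPsh Q} (h : FibCat.IsEquivOver Φ) :
    IsIso (pshMap Φ) := by
  obtain ⟨G, ⟨η⟩, ⟨ε⟩⟩ := h
  exact ⟨pshMap G, by rw [← pshMap_comp, pshMap_eq_of_iso η, pshMap_id],
    by rw [← pshMap_comp, pshMap_eq_of_iso ε, pshMap_id]⟩

end Groth.Agent.Lib.AlgStack.OfPsh
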