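import Groth.Prelude.Def_AlgSt2
import Groth.Agent.Lib.AlgStack.OfPsh
import Groth.Agent.Lib.AlgStack.FibProd

/-!
# Representability by algebraic spaces: invariance, base change, pasting
-/

set_option autoImplicit false
set_option backward.isDefEq.respectTransparency false
set_option backward.isDefEq.respectTransparency.types false

universe v₄ w₄ v₃ w₃ v₂ w₂ v₁ w₁ u

open CategoryTheory CategoryTheory.Limits AlgebraicGeometry Opposite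

namespace Groth.Agent.Lib.AlgStack.Rep

open BasedBasic OfPsh Yoneda FibProd
open FibCat (IsEquivOver IsFibGrpd fp fpFst fpSnd fpLift fpIso overCat)
open AlgSt (ofSp ofSch ofSpMap toOverCat ofOverCat spMapOfOver RepByAlgSp RepByAlgSp1 RepByAlgSpWith)

section Generic

universe v₅ u₅ v₆ u₆ v₇ u₇ v₈ u₈ v u₀

variable {C : Type u₀} [Category.{v} C] {𝒲 : BasedCategory.{v₅, u₅} C} {𝒳 : BasedCategory.{v₆, u₆} C}
  {𝒴 : BasedCategory.{v₇, u₇} C} {𝒵 : BasedCategory.{v₈, u₈} C}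

/-- Base change of a projection: `𝒲 ×_𝒵 (𝒵 ×_𝒴 𝒳) ⟶ 𝒲 ×_𝒴 𝒳`. -/
def pasteBase (y : 𝒲 ⥤ᵇ 𝒵) (g : 𝒵 ⥤ᵇ 𝒴) (f : 𝒳 ⥤ᵇ 𝒴) :
    fp y (fpFst g f) ⥤ᵇ fp (BasedFunctor.comp y g) f :=
  fpLift (fpFst y (fpFst g f)) (BasedFunctor.comp (fpSnd y (fpFst g f)) (fpSnd g f))
    (BasedBasic.isoWhiskerRight (fpIso y (fpFst g f)) g ≪≫
      BasedBasic.isoWhiskerLeft (fpSnd y (fpFst g f)) (fpIso g f))

theorem pasteBase_fst (y : 𝒲 ⥤ᵇ 𝒵) (g : 𝒵 ⥤ᵇ 𝒴) (f : 𝒳 ⥤ᵇ 𝒴) :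
    BasedFunctor.comp (pasteBase y g f) (fpFst (BasedFunctor.comp y g) f) =
      fpFst y (fpFst g f) := rfl

theorem isEquivOver_pasteBase (y : 𝒲 ⥤ᵇ 𝒵) (g : 𝒵 ⥤ᵇ 𝒴) (f : 𝒳 ⥤ᵇ 𝒴) :
    IsEquivOver (pasteBase y g f) := by
  have hiso : ∀ a, ((pasteBase y g f).obj a).obj.iso.hom =
      g.map a.obj.iso.hom ≫ a.obj.snd.obj.iso.hom := fun a => rfl
  have : (pasteBase y g f).toFunctor.Faithful := ⟨fun {a b φ ψ} h => by
    have h1 : φ.hom.fst = ψ.hom.fst := congrArg (fun m => m.hom.fst) h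
    refine FibProd.hom_ext h1 (FibProd.hom_ext ?_ (congrArg (fun m => m.hom.snd) h))
    have w1 := φ.hom.w
    have w2 := ψ.hom.w
    rw [h1, w2] at w1
    exact ((cancel_epi a.obj.iso.hom).1 w1).symm⟩
  have : (pasteBase y g f).toFunctor.Full := ⟨fun {a b} m => by
    have hw : (BasedFunctor.comp y g).map m.hom.fst ≫ g.map b.obj.iso.hom ≫ b.obj.snd.obj.iso.hom =
        (g.map a.obj.iso.hom ≫ a.obj.snd.obj.iso.hom) ≫ f.map m.hom.snd := by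
      rw [← hiso, ← hiso]; exact m.hom.w
    refine ⟨FibProd.homMk m.hom.fst
      (FibProd.homMk (x := a.obj.snd) (y := b.obj.snd)
        (a.obj.iso.inv ≫ y.map m.hom.fst ≫ b.obj.iso.hom) m.hom.snd ?_) ?_, rfl⟩
    · simp only [Functor.map_comp, Category.assoc]
      rw [show g.map (y.map m.hom.fst) = (BasedFunctor.comp y g).map m.hom.fst from rfl, hw]
      simp [← Functor.map_comp_assoc]
    · change y.map m.hom.fst ≫ b.obj.iso.hom = a.obj.iso.hom ≫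
        (a.obj.iso.inv ≫ y.map m.hom.fst ≫ b.obj.iso.hom)
      simp⟩
  refine isEquivOver_of _ fun η => ?_
  let z : (fp g f).obj := FibProd.objMk (y.obj η.obj.fst) η.obj.snd η.obj.iso
    (by rw [y.w_obj η.obj.fst]; exact η.property)
  refine ⟨FibProd.objMk η.obj.fst z (Iso.refl _) (IsHomLift.id (y.w_obj η.obj.fst)),
    exists_iso_over (Iso.refl _) (Iso.refl _) ?_ (IsHomLift.id rfl)⟩
  rw [hiso]
  simp [z, pasteBase, fpLift, fpFst, fpSnd]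

/-- Pasting for composites: `(𝒲 ×_𝒵 𝒴) ×_𝒴 𝒳 ⟶ 𝒲 ×_𝒵 𝒳`. -/
def pasteComp (y : 𝒲 ⥤ᵇ 𝒵) (g : 𝒴 ⥤ᵇ 𝒵) (f : 𝒳 ⥤ᵇ 𝒴) :
    fp (fpSnd y g) f ⥤ᵇ fp y (BasedFunctor.comp f g) :=
  fpLift (BasedFunctor.comp (fpFst (fpSnd y g) f) (fpFst y g)) (fpSnd (fpSnd y g) f)
    (BasedBasic.isoWhiskerLeft (fpFst (fpSnd y g) f) (fpIso y g) ≪≫
      BasedBasic.isoWhiskerRight (fpIso (fpSnd y g) f) g)

theorem pasteComp_fst (y : 𝒲 ⥤ᵇ 𝒵) (g : 𝒴 ⥤ᵇ 𝒵) (f : 𝒳 ⥤ᵇ 𝒴) :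
    BasedFunctor.comp (pasteComp y g f) (fpFst y (BasedFunctor.comp f g)) =
      BasedFunctor.comp (fpFst (fpSnd y g) f) (fpFst y g) := rfl

theorem isEquivOver_pasteComp (y : 𝒲 ⥤ᵇ 𝒵) (g : 𝒴 ⥤ᵇ 𝒵) (f : 𝒳 ⥤ᵇ 𝒴) :
    IsEquivOver (pasteComp y g f) := by
  have hiso : ∀ a, ((pasteComp y g f).obj a).obj.iso.hom =
      a.obj.fst.obj.iso.hom ≫ g.map a.obj.iso.hom := fun a => rfl
  have : (pasteComp y g f).toFunctor.Faithful := ⟨fun {a b φ ψ} h => by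
    have h2 : φ.hom.snd = ψ.hom.snd := congrArg (fun m => m.hom.snd) h
    refine FibProd.hom_ext (FibProd.hom_ext (congrArg (fun m => m.hom.fst) h) ?_) h2
    have w1 := φ.hom.w
    have w2 := ψ.hom.w
    rw [h2, ← w2] at w1
    exact (cancel_mono b.obj.iso.hom).1 w1⟩
  have : (pasteComp y g f).toFunctor.Full := ⟨fun {a b} m => by
    have hw : y.map m.hom.fst ≫ b.obj.fst.obj.iso.hom ≫ g.map b.obj.iso.hom =
        (a.obj.fst.obj.iso.hom ≫ g.map a.obj.iso.hom) ≫ (BasedFunctor.comp f g).map m.hom.snd := by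
      rw [← hiso, ← hiso]; exact m.hom.w
    refine ⟨FibProd.homMk (FibProd.homMk (x := a.obj.fst) (y := b.obj.fst) m.hom.fst
      (a.obj.iso.hom ≫ f.map m.hom.snd ≫ b.obj.iso.inv) ?_) m.hom.snd ?_, rfl⟩
    · rw [← cancel_mono (g.map b.obj.iso.hom)]
      simp only [Functor.map_comp, Category.assoc]
      rw [hw, ← Functor.map_comp g.toFunctor b.obj.iso.inv]
      simp only [Iso.inv_hom_id, Category.assoc, Functor.map_id]
      erw [CategoryTheory.Functor.map_id, Category.comp_id]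
      rfl
    · change (a.obj.iso.hom ≫ f.map m.hom.snd ≫ b.obj.iso.inv) ≫ b.obj.iso.hom =
        a.obj.iso.hom ≫ f.map m.hom.snd
      simp⟩
  refine isEquivOver_of _ fun η => ?_
  let z : (fp y g).obj := FibProd.objMk η.obj.fst (f.obj η.obj.snd) η.obj.iso η.property
  have hz : 𝒴.p.IsHomLift (𝟙 ((fp y g).p.obj z)) (Iso.refl (f.obj η.obj.snd)).hom :=
    IsHomLift.id ((f.w_obj η.obj.snd).trans (snd_obj η))
  refine ⟨FibProd.objMk z η.obj.snd (Iso.refl _) hz,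
    exists_iso_over (Iso.refl _) (Iso.refl _) ?_ (IsHomLift.id rfl)⟩
  rw [hiso]
  change y.map (𝟙 η.obj.fst) ≫ η.obj.iso.hom =
    (η.obj.iso.hom ≫ g.map (𝟙 (f.obj η.obj.snd))) ≫ g.map (f.map (𝟙 η.obj.snd))
  simp only [CategoryTheory.Functor.map_id, Category.id_comp]
  erw [Category.comp_id, Category.comp_id]

end Generic

variable {S : Scheme.{u}}

section SpMap

variable {F G : AlgSp.Sp S} {U V : Over S}

theorem spMapOfOver_hom (Φ : ofSp F ⥤ᵇ overCat U) :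
    (spMapOfOver Φ).hom = pshMap (BasedFunctor.comp Φ (ofOverCat U)) := by
  ext T x
  rfl

theorem toOverCat_comp_ofOverCat (U : Over S) :
    BasedFunctor.comp (toOverCat U) (ofOverCat U) = BasedFunctor.id _ := rfl

theorem ofOverCat_comp_toOverCat (U : Over S) :
    BasedFunctor.comp (ofOverCat U) (toOverCat U) = BasedFunctor.id _ := rfl

theorem isEquivOver_toOverCat (U : Over S) : IsEquivOver (toOverCat U) :=
  ⟨ofOverCat U, ⟨eqToIso (toOverCat_comp_ofOverCat U)⟩, ⟨eqToIso (ofOverCat_comp_toOverCat U)⟩⟩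

theorem isEquivOver_ofOverCat (U : Over S) : IsEquivOver (ofOverCat U) :=
  ⟨toOverCat U, ⟨eqToIso (ofOverCat_comp_toOverCat U)⟩, ⟨eqToIso (toOverCat_comp_ofOverCat U)⟩⟩

theorem spMapOfOver_eq_of_iso {Φ Φ' : ofSp F ⥤ᵇ overCat U} (e : Φ ≅ Φ') :
    spMapOfOver Φ = spMapOfOver Φ' := by
  apply ObjectProperty.hom_ext
  rw [spMapOfOver_hom, spMapOfOver_hom]
  exact pshMap_eq_of_iso (BasedBasic.isoWhiskerRight e _)

@[simp] theorem spMapOfOver_ofSpMap_toOverCat (a : F ⟶ (AlgSp.yon S).obj U) :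
    spMapOfOver (BasedFunctor.comp (ofSpMap a) (toOverCat U)) = a := by
  apply ObjectProperty.hom_ext
  rw [spMapOfOver_hom]
  exact pshMap_ofPshMap a.hom

theorem spMapOfOver_precomp (a : G ⟶ F) (Φ : ofSp F ⥤ᵇ overCat U) :
    spMapOfOver (BasedFunctor.comp (ofSpMap a) Φ) = a ≫ spMapOfOver Φ := by
  apply ObjectProperty.hom_ext
  change (spMapOfOver _).hom = a.hom ≫ (spMapOfOver Φ).hom
  rw [spMapOfOver_hom, spMapOfOver_hom]
  exact (pshMap_comp (Stk.ofPshMap a.hom) (BasedFunctor.comp Φ (ofOverCat U))).trans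
    (by rw [pshMap_ofPshMap])

/-- A functor to a slice is 2-isomorphic to the one of its map of sheaves. -/
def isoSpMapOfOver (Φ : ofSp F ⥤ᵇ overCat U) :
    Φ ≅ BasedFunctor.comp (ofSpMap (spMapOfOver Φ)) (toOverCat U) :=
  eqToIso (by rfl) ≪≫
    BasedBasic.isoWhiskerRight (isoOfPshMap (BasedFunctor.comp Φ (ofOverCat U))) (toOverCat U) ≪≫
      eqToIso (by rw [ofSpMap, spMapOfOver_hom])

end SpMap

section Invariance

variable {𝒳 : BasedCategory.{v₁, w₁} (Over S)} {𝒴 : BasedCategory.{v₂, w₂} (Over S)}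
  {𝒳' : BasedCategory.{v₃, w₃} (Over S)} {𝒴' : BasedCategory.{v₄, w₄} (Over S)}

theorem repByAlgSp_of_equiv {e : 𝒳 ⥤ᵇ 𝒴} (he : IsEquivOver e) (h : RepByAlgSp 𝒳) :
    RepByAlgSp 𝒴 := by
  obtain ⟨F, a, ha⟩ := h
  exact ⟨F, BasedFunctor.comp a e, BasedBasic.IsEquivOver.comp ha he⟩

theorem repByAlgSp_of_equiv' {e : 𝒳 ⥤ᵇ 𝒴} (he : IsEquivOver e) (h : RepByAlgSp 𝒴) :
    RepByAlgSp 𝒳 := by
  obtain ⟨G, hG, -⟩ := BasedBasic.IsEquivOver.exists_inverse he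
  exact repByAlgSp_of_equiv hG h

theorem repByAlgSp1_of_forall {f : 𝒳 ⥤ᵇ 𝒴} {f' : 𝒳' ⥤ᵇ 𝒴'} (hf : RepByAlgSp1 f)
    (h : ∀ (U : Over S) (y' : overCat U ⥤ᵇ 𝒴'), ∃ (y : overCat U ⥤ᵇ 𝒴)
      (q : fp y f ⥤ᵇ fp y' f'), IsEquivOver q) : RepByAlgSp1 f' := fun U y' => by
  obtain ⟨y, q, hq⟩ := h U y'
  exact repByAlgSp_of_equiv hq (hf U y)

/-- Transfer of representability with a property along equivalences of the base changes to schemes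
over those schemes. -/
theorem repByAlgSpWith_of_forall {P : MorphismProperty (AlgSp.Sp S)} {f : 𝒳 ⥤ᵇ 𝒴} {f' : 𝒳' ⥤ᵇ 𝒴'}
    (hf : RepByAlgSpWith P f)
    (h : ∀ (U : Over S) (y' : overCat U ⥤ᵇ 𝒴'), ∃ (y : overCat U ⥤ᵇ 𝒴)
      (q : fp y f ⥤ᵇ fp y' f'), IsEquivOver q ∧
        Nonempty (BasedFunctor.comp q (fpFst y' f') ≅ fpFst y f)) :
    RepByAlgSpWith P f' := fun U y' => by
  obtain ⟨y, q, hq, ⟨ε⟩⟩ := h U y'
  obtain ⟨F, e, he, hP⟩ := hf U y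
  refine ⟨F, BasedFunctor.comp e q, BasedBasic.IsEquivOver.comp he hq, ?_⟩
  rw [spMapOfOver_eq_of_iso
    (show BasedFunctor.comp (BasedFunctor.comp e q) (fpFst y' f') ≅ BasedFunctor.comp e (fpFst y f)
      from BasedBasic.isoWhiskerLeft e ε)]
  exact hP

theorem repByAlgSp1_of_repByAlgSpWith {P : MorphismProperty (AlgSp.Sp S)} {f : 𝒳 ⥤ᵇ 𝒴}
    (hf : RepByAlgSpWith P f) : RepByAlgSp1 f := fun U y => by
  obtain ⟨F, e, he, -⟩ := hf U y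
  exact ⟨F, e, he⟩

theorem repByAlgSpWith_mono {P Q : MorphismProperty (AlgSp.Sp S)} {f : 𝒳 ⥤ᵇ 𝒴}
    (hf : RepByAlgSpWith P f)
    (h : ∀ ⦃F G : AlgSp.Sp S⦄ (a : F ⟶ G), AlgSp.IsAlgSpace F → AlgSp.IsAlgSpace G → P a → Q a) :
    RepByAlgSpWith Q f := fun U y => by
  obtain ⟨F, e, he, hP⟩ := hf U y
  exact ⟨F, e, he, h _ F.property (AlgSp.IsAlgSpace.yon_obj U) hP⟩

theorem repByAlgSpWith_top_iff {f : 𝒳 ⥤ᵇ 𝒴} :
    RepByAlgSpWith ⊤ f ↔ RepByAlgSp1 f :=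
  ⟨repByAlgSp1_of_repByAlgSpWith, fun h U y => by
    obtain ⟨F, e, he⟩ := h U y
    exact ⟨F, e, he, trivial⟩⟩

theorem repByAlgSpWith_of_iso {P : MorphismProperty (AlgSp.Sp S)} {f f' : 𝒳 ⥤ᵇ 𝒴} (e : f ≅ f')
    (hf : RepByAlgSpWith P f) : RepByAlgSpWith P f' :=
  repByAlgSpWith_of_forall hf fun U y => ⟨y, congrRight y e, isEquivOver_congrRight y e,
    ⟨eqToIso (congrRight_fst y e)⟩⟩

theorem repByAlgSp1_of_iso {f f' : 𝒳 ⥤ᵇ 𝒴} (e : f ≅ f') (hf : RepByAlgSp1 f) : RepByAlgSp1 f' :=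
  repByAlgSpWith_top_iff.1 (repByAlgSpWith_of_iso e (repByAlgSpWith_top_iff.2 hf))

/-- Base change. -/
theorem repByAlgSpWith_fpFst {P : MorphismProperty (AlgSp.Sp S)} {f : 𝒳 ⥤ᵇ 𝒴} (g : 𝒳' ⥤ᵇ 𝒴)
    (hf : RepByAlgSpWith P f) : RepByAlgSpWith P (fpFst g f) :=
  repByAlgSpWith_of_forall hf fun U y' => by
    obtain ⟨q, hq, ⟨η⟩, ⟨ε⟩⟩ :=
      BasedBasic.IsEquivOver.exists_inverse (isEquivOver_pasteBase y' g f)
    exact ⟨BasedFunctor.comp y' g, q, hq, ⟨eqToIso (by rw [← pasteBase_fst y' g f]; rfl) ≪≫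
      BasedBasic.isoWhiskerRight ε (fpFst (BasedFunctor.comp y' g) f)⟩⟩

theorem repByAlgSp1_fpFst {f : 𝒳 ⥤ᵇ 𝒴} (g : 𝒳' ⥤ᵇ 𝒴) (hf : RepByAlgSp1 f) :
    RepByAlgSp1 (fpFst g f) :=
  repByAlgSpWith_top_iff.1 (repByAlgSpWith_fpFst g (repByAlgSpWith_top_iff.2 hf))

variable {a : 𝒳' ⥤ᵇ 𝒳} {b : 𝒴' ⥤ᵇ 𝒴} {f : 𝒳 ⥤ᵇ 𝒴} {f' : 𝒳' ⥤ᵇ 𝒴'}
  {P : MorphismProperty (AlgSp.Sp S)}

theorem repByAlgSpWith_iff_of_isEquivOver (ha : IsEquivOver a) (hb : IsEquivOver b)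
    (e : BasedFunctor.comp f' b ≅ BasedFunctor.comp a f) :
    RepByAlgSpWith P f ↔ RepByAlgSpWith P f' := by
  have := BasedBasic.IsEquivOver.full hb
  have := BasedBasic.IsEquivOver.faithful hb
  constructor
  · intro hf
    refine repByAlgSpWith_of_forall hf fun U y' => ?_
    have hq := isEquivOver_fpMap (BasedFunctor.id (overCat U)) a b
      (F := BasedFunctor.comp y' b) (G := f) (F' := y') (G' := f') (Iso.refl _) e.symm
      BasedBasic.isEquivOver_id ha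
    obtain ⟨q, hq', ⟨η⟩, ⟨ε⟩⟩ := BasedBasic.IsEquivOver.exists_inverse hq
    exact ⟨BasedFunctor.comp y' b, q, hq',
      ⟨BasedBasic.isoWhiskerRight ε (fpFst (BasedFunctor.comp y' b) f)⟩⟩
  · intro hf
    refine repByAlgSpWith_of_forall hf fun U y => ?_
    obtain ⟨binv, -, ⟨η⟩, ⟨ε⟩⟩ := BasedBasic.IsEquivOver.exists_inverse hb
    let α : BasedFunctor.comp (BasedFunctor.id (overCat U)) y ≅
        BasedFunctor.comp (BasedFunctor.comp y binv) b := BasedBasic.isoWhiskerLeft y ε.symm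
    have hq := isEquivOver_fpMap (BasedFunctor.id (overCat U)) a b
      (F := y) (G := f) (F' := BasedFunctor.comp y binv) (G' := f') α e.symm
      BasedBasic.isEquivOver_id ha
    exact ⟨BasedFunctor.comp y binv, _, hq, ⟨eqToIso (fpMap_fst _ _ _ _ _)⟩⟩

theorem repByAlgSp1_iff_of_isEquivOver (ha : IsEquivOver a) (hb : IsEquivOver b)
    (e : BasedFunctor.comp f' b ≅ BasedFunctor.comp a f) : RepByAlgSp1 f ↔ RepByAlgSp1 f' :=
  repByAlgSpWith_top_iff.symm.trans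
    ((repByAlgSpWith_iff_of_isEquivOver ha hb e).trans repByAlgSpWith_top_iff)

end Invariance

end Groth.Agent.Lib.AlgStack.Rep
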