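import Groth.Prelude.Def_AlgSpRep
import Mathlib.AlgebraicGeometry.Morphisms.Etale
import Mathlib.AlgebraicGeometry.PullbackCarrier
import Groth.Agent.Lib.AlgSpace.Diag

/-!
# Maps of presheaves representable by algebraic spaces: sheaf property and algebraicity of the source
-/

set_option autoImplicit false

universe u

open CategoryTheory CategoryTheory.Limits AlgebraicGeometry Opposite

namespace Groth.Agent.Lib.AlgStack.RepPsh

open Groth.Agent.Lib.AlgSpace
open AlgSp (Sp PSp yon pyon Representable RepWith IsAlgSpace RepBySp IsAlgSpaceP)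

variable {S : Scheme.{u}}

theorem types_pullback_ext {P X Y Z : PSp S} {fst : P ⟶ X} {snd : P ⟶ Y} {f : X ⟶ Z} {g : Y ⟶ Z}
    (sq : IsPullback fst snd f g) (T : (Over S)ᵒᵖ) {x x' : P.obj T}
    (h1 : fst.app T x = fst.app T x') (h2 : snd.app T x = snd.app T x') : x = x' :=
  ((Types.isPullback_iff _ _ _ _).1 (sq.map ((evaluation (Over S)ᵒᵖ (Type (u + 1))).obj T))).2.1 x x'
    ⟨h1, h2⟩

theorem types_pullback_exists {P X Y Z : PSp S} {fst : P ⟶ X} {snd : P ⟶ Y} {f : X ⟶ Z} {g : Y ⟶ Z}
    (sq : IsPullback fst snd f g) (T : (Over S)ᵒᵖ) (a : X.obj T) (b : Y.obj T)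
    (h : f.app T a = g.app T b) : ∃ x, fst.app T x = a ∧ snd.app T x = b :=
  ((Types.isPullback_iff _ _ _ _).1 (sq.map ((evaluation (Over S)ᵒᵖ (Type (u + 1))).obj T))).2.2 a b h

theorem secEquiv_symm_app {F : Sp S} {T V : Over S} (ξ : F.obj.obj (op T)) (f : V ⟶ T) :
    ((secEquiv T).symm ξ).hom.app (op V) ⟨f⟩ = F.obj.map f.op ξ := by
  have h := secEquiv_map f ((secEquiv T).symm ξ)
  rw [Equiv.apply_symm_apply] at h
  exact (congrArg (((secEquiv T).symm ξ).hom.app (op V)) (ULift.ext _ _ (Category.id_comp f).symm)).trans h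

/-- A presheaf with a map to a sheaf which is representable by algebraic spaces is a sheaf. -/
theorem isSheaf_of_repBySp {G : PSp S} {F : Sp S} {a : G ⟶ F.obj} (ha : RepBySp a) :
    Presheaf.IsSheaf (AlgSp.J S) G := by
  rw [isSheaf_iff_isSheaf_of_type]
  intro T R hR x hx
  have hF : Presieve.IsSheaf (AlgSp.J S) F.obj := (isSheaf_iff_isSheaf_of_type _ _).1 F.property
  let y : Presieve.FamilyOfElements F.obj (R : Presieve T) := fun V f hf => a.app _ (x f hf)
  have hy : y.Compatible := fun V₁ V₂ Z g₁ g₂ f₁ f₂ h₁ h₂ e => by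
    change F.obj.map g₁.op (a.app _ _) = F.obj.map g₂.op (a.app _ _)
    rw [← NatTrans.naturality_apply, ← NatTrans.naturality_apply, hx g₁ g₂ h₁ h₂ e]
  obtain ⟨ξ, hξ, hξu⟩ := hF R hR y hy
  let ξs : (yon S).obj T ⟶ F := (secEquiv T).symm ξ
  have hξs {V : Over S} (f : V ⟶ T) : ξs.hom.app (op V) ⟨f⟩ = F.obj.map f.op ξ :=
    secEquiv_symm_app ξ f
  let P := Limits.pullback a ξs.hom
  have sq : IsPullback (pullback.fst a ξs.hom) (pullback.snd a ξs.hom) a ξs.hom :=
    IsPullback.of_hasPullback a ξs.hom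
  obtain ⟨hP, -⟩ := ha ξs.hom _ _ sq
  have hP : Presieve.IsSheaf (AlgSp.J S) P := (isSheaf_iff_isSheaf_of_type _ _).1 hP
  have hlift {V : Over S} (f : V ⟶ T) (hf : R f) : ∃ z : P.obj (op V),
      (pullback.fst a ξs.hom).app _ z = x f hf ∧ (pullback.snd a ξs.hom).app _ z = ⟨f⟩ :=
    types_pullback_exists sq (op V) (x f hf) ⟨f⟩ (by rw [hξs]; exact (hξ f hf).symm)
  choose z hz₁ hz₂ using @hlift
  let zf : Presieve.FamilyOfElements P (R : Presieve T) := fun V f hf => z f hf
  have hzf : zf.Compatible := fun V₁ V₂ Z g₁ g₂ f₁ f₂ h₁ h₂ e => by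
    apply types_pullback_ext sq
    · change (pullback.fst a ξs.hom).app _ (P.map g₁.op (z f₁ h₁)) =
        (pullback.fst a ξs.hom).app _ (P.map g₂.op (z f₂ h₂))
      rw [NatTrans.naturality_apply, NatTrans.naturality_apply, hz₁, hz₁, hx g₁ g₂ h₁ h₂ e]
    · change (pullback.snd a ξs.hom).app _ (P.map g₁.op (z f₁ h₁)) =
        (pullback.snd a ξs.hom).app _ (P.map g₂.op (z f₂ h₂))
      rw [NatTrans.naturality_apply, NatTrans.naturality_apply, hz₂, hz₂]
      exact congrArg ULift.up e
  obtain ⟨w, hw, hwu⟩ := hP R hR zf hzf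
  refine ⟨(pullback.fst a ξs.hom).app _ w, fun V f hf => ?_, fun t ht => ?_⟩
  · rw [← NatTrans.naturality_apply, hw f hf]
    exact hz₁ f hf
  · have hat : a.app _ t = ξ := hξu _ fun V f hf => by
      rw [← NatTrans.naturality_apply, ht f hf]
    obtain ⟨w', hw₁, hw₂⟩ := types_pullback_exists sq (op T) t ⟨𝟙 T⟩ (by
      rw [hξs, hat, op_id, Functor.map_id_apply])
    have hwe : w' = w := hwu _ fun V f hf => by
      apply types_pullback_ext sq
      · rw [NatTrans.naturality_apply, hw₁, ht f hf]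
        exact (hz₁ f hf).symm
      · rw [NatTrans.naturality_apply, hw₂]
        change (⟨f ≫ 𝟙 T⟩ : ULift.{u + 1} (V ⟶ T)) = _
        rw [Category.comp_id]
        exact (hz₂ f hf).symm
    rw [← hw₁, hwe]

/-- An algebraic space structure on the source of a map of sheaves which is representable by algebraic
spaces, with target an algebraic space. -/
theorem isAlgSpace_of_repBySp {G F : Sp S} {f : G ⟶ F} (hf : RepBySp f.hom) (hF : IsAlgSpace F) :
    IsAlgSpace G where
  atlas := by
    have : MorphismProperty.IsStableUnderComposition @Etale.{u} :=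
      (inferInstance : MorphismProperty.IsMultiplicative @Etale.{u}).toIsStableUnderComposition
    have : MorphismProperty.IsStableUnderComposition @Surjective.{u} :=
      (inferInstance : MorphismProperty.IsMultiplicative @Surjective.{u}).toIsStableUnderComposition
    obtain ⟨U, p, he, hs⟩ := hF.atlas
    have sq := IsPullback.of_hasPullback f p
    obtain ⟨V, q, qe, qs⟩ := ((AlgSp.repBySp_hom_iff f).1 hf p _ _ sq).atlas
    exact ⟨V, q ≫ pullback.fst f p, repWith_comp qe (repWith_baseChange sq.flip he),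
      repWith_comp qs (repWith_baseChange sq.flip hs)⟩
  diag := by
    refine representable_diag_of_forall fun U V a b => ?_
    obtain ⟨R, p, q, sq⟩ := exists_isPullback_yon hF.diag (a ≫ f) (b ≫ f)
    let c := (yon S).map p ≫ a ≫ f
    have sqR := IsPullback.of_hasPullback f c
    have hGR := (AlgSp.repBySp_hom_iff f).1 hf c _ _ sqR
    let σ₁ := sqR.lift ((yon S).map p ≫ a) (𝟙 _) (by simp [c])
    let σ₂ := sqR.lift ((yon S).map q ≫ b) (𝟙 _) (by simp [c, sq.w])
    obtain ⟨W, i, j, sqW⟩ := exists_isPullback_yon hGR.diag σ₁ σ₂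
    have hij : (yon S).map i = (yon S).map j := by
      simpa [σ₁, σ₂] using congrArg (fun m => m ≫ pullback.snd f c) sqW.w
    have key : (yon S).map (i ≫ p) ≫ a = (yon S).map (i ≫ q) ≫ b := by
      have := congrArg (fun m => m ≫ pullback.fst f c) sqW.w
      rw [← hij] at this
      simpa [σ₁, σ₂] using this
    refine ⟨W, i ≫ p, i ≫ q, isPullback_of_yon key (fun T x x' h1 h2 => ?_) (fun T x y h => ?_)⟩
    · have e : x ≫ (yon S).map i = x' ≫ (yon S).map i :=
        sq.hom_ext (by simpa using h1) (by simpa using h2)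
      exact sqW.hom_ext e (by rw [← hij]; exact e)
    · let r := sq.lift x y (by rw [reassoc_of% h])
      have hσ : r ≫ σ₁ = r ≫ σ₂ := by
        apply sqR.hom_ext
        · simp [σ₁, σ₂, r, h]
        · simp [σ₁, σ₂]
      refine ⟨sqW.lift r r hσ, ?_, ?_⟩ <;> simp [r]

/-- A presheaf with a map to an algebraic space which is representable by algebraic spaces is an
algebraic space. -/
theorem isAlgSpaceP_of_repBySp {G : PSp S} {F : Sp S} {a : G ⟶ F.obj} (ha : RepBySp a)
    (hF : IsAlgSpace F) : IsAlgSpaceP G :=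
  ⟨isSheaf_of_repBySp ha, isAlgSpace_of_repBySp (G := ⟨G, isSheaf_of_repBySp ha⟩)
    (f := ObjectProperty.homMk a) ha hF⟩

end Groth.Agent.Lib.AlgStack.RepPsh
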