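import Groth.Prelude.Def_AlgSpRep
import Groth.Agent.Lib.AlgStack.Rep
import Groth.Agent.Lib.AlgStack.RepPsh

/-!
# Fibre products of spaces as categories, and base change of representable functors to spaces
-/

set_option autoImplicit false
set_option backward.isDefEq.respectTransparency false
set_option backward.isDefEq.respectTransparency.types false

universe v₃ w₃ v₂ w₂ v₁ w₁ u

open CategoryTheory CategoryTheory.Limits AlgebraicGeometry Opposite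

namespace Groth.Agent.Lib.AlgStack.Space

open BasedBasic OfPsh Yoneda FibProd Rep RepPsh
open FibCat (IsEquivOver IsFibGrpd fp fpFst fpSnd fpLift fpIso overCat)
open AlgSt (ofSp ofSch ofSpMap toOverCat ofOverCat spMapOfOver RepByAlgSp RepByAlgSp1 RepByAlgSpWith)
open AlgSp (Sp yon IsAlgSpace IsAlgSpaceP RepBySp)

section Psh

universe v u₀ w

variable {C : Type u₀} [Category.{v} C] {P X Y Z : Cᵒᵖ ⥤ Type w} {fst : P ⟶ X} {snd : P ⟶ Y}
  {a : X ⟶ Z} {b : Y ⟶ Z}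

/-- The comparison functor of a commutative square of presheaves. -/
def sqLift (w : fst ≫ a = snd ≫ b) :
    Stk.ofPsh P ⥤ᵇ fp (Stk.ofPshMap a) (Stk.ofPshMap b) :=
  fpLift (Stk.ofPshMap fst) (Stk.ofPshMap snd) (eqToIso (by rw [← ofPshMap_comp, w, ofPshMap_comp]))

theorem sqLift_fst (w : fst ≫ a = snd ≫ b) :
    BasedFunctor.comp (sqLift w) (fpFst (Stk.ofPshMap a) (Stk.ofPshMap b)) = Stk.ofPshMap fst := rfl

theorem eqToHom_app_hom {Φ Ψ : Stk.ofPsh P ⥤ᵇ Stk.ofPsh Z} (h : Φ = Ψ) (x : Stk.EltObj P) :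
    ((eqToHom h : Φ ⟶ Ψ).toNatTrans.app x).hom =
      eqToHom (by subst h; rfl : (Φ.obj x).base = (Ψ.obj x).base) := by
  subst h; rfl

theorem isEquivOver_sqLift (sq : IsPullback fst snd a b) : IsEquivOver (sqLift sq.w) := by
  have hT (T : C) := (Types.isPullback_iff _ _ _ _).1
    (sq.map ((evaluation Cᵒᵖ (Type w)).obj (op T)))
  have : (sqLift sq.w).toFunctor.Faithful := ⟨fun {x y f g} h =>
    Stk.EltObj.hom_ext (congrArg (fun m => m.hom.fst.hom) h)⟩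
  have : (sqLift sq.w).toFunctor.Full := ⟨fun {x y} m => by
    have hb : m.hom.snd.hom = m.hom.fst.hom := by
      have := FibCat.fp_isHomLift_snd (Stk.ofPshMap a) (Stk.ofPshMap b) m
      exact (IsHomLift.fac' (Stk.ofPsh Y).p
        ((fp (Stk.ofPshMap a) (Stk.ofPshMap b)).p.map m) m.hom.snd).trans
        ((Category.id_comp _).trans (Category.comp_id _))
    refine ⟨⟨m.hom.fst.hom, (hT x.base).2.1 _ _ ⟨?_, ?_⟩⟩,
      FibProd.hom_ext (Stk.EltObj.hom_ext rfl) (Stk.EltObj.hom_ext hb.symm)⟩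
    · change fst.app _ (P.map m.hom.fst.hom.op y.sec) = fst.app _ x.sec
      rw [NatTrans.naturality_apply]
      exact m.hom.fst.map_sec
    · change snd.app _ (P.map m.hom.fst.hom.op y.sec) = snd.app _ x.sec
      rw [NatTrans.naturality_apply, ← hb]
      exact m.hom.snd.map_sec⟩
  refine isEquivOver_of _ fun η => ?_
  obtain ⟨⟨⟨T, x⟩, ⟨T', y⟩, iso⟩, hlift⟩ := η
  have hl : (Stk.ofPsh Z).p.IsHomLift (𝟙 T) iso.hom := hlift
  have hbase : T' = T := IsHomLift.codomain_eq (Stk.ofPsh Z).p (𝟙 T) iso.hom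
  subst hbase
  have hh : iso.hom.hom = 𝟙 T' :=
    (IsHomLift.fac' (Stk.ofPsh Z).p (𝟙 T') iso.hom).trans
      ((Category.id_comp _).trans (Category.comp_id _))
  have hw : a.app (op T') x = b.app (op T') y := by
    have h1 := iso.hom.map_sec
    rw [hh] at h1
    simp [Stk.ofPshMap] at h1
    exact h1.symm
  obtain ⟨p, hp1, hp2⟩ := (hT T').2.2 x y hw
  change fst.app (op T') p = x at hp1
  change snd.app (op T') p = y at hp2
  subst hp1 hp2
  refine ⟨⟨T', p⟩, exists_iso_over (Iso.refl _) (Iso.refl _) ?_ (IsHomLift.id rfl)⟩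
  apply Stk.EltObj.hom_ext
  simp [sqLift, fpLift, Stk.ofPshMap, hh]
  erw [eqToHom_app_hom]
  rfl

end Psh

variable {S : Scheme.{u}}

/-- The map of sheaves of a functor over the base. -/
def spHom {F G : Sp S} (Φ : ofSp F ⥤ᵇ ofSp G) : F ⟶ G := ObjectProperty.homMk (pshMap Φ)

theorem spHom_eq_of_iso {F G : Sp S} {Φ Ψ : ofSp F ⥤ᵇ ofSp G} (e : Φ ≅ Ψ) : spHom Φ = spHom Ψ :=
  ObjectProperty.hom_ext _ (pshMap_eq_of_iso e)

@[simp] theorem spHom_ofSpMap {F G : Sp S} (a : F ⟶ G) : spHom (ofSpMap a) = a :=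
  ObjectProperty.hom_ext _ (pshMap_ofPshMap a.hom)

theorem spHom_comp {F G H : Sp S} (Φ : ofSp F ⥤ᵇ ofSp G) (Ψ : ofSp G ⥤ᵇ ofSp H) :
    spHom (BasedFunctor.comp Φ Ψ) = spHom Φ ≫ spHom Ψ :=
  ObjectProperty.hom_ext _ (pshMap_comp Φ Ψ)

theorem isIso_spHom {F G : Sp S} {Φ : ofSp F ⥤ᵇ ofSp G} (h : IsEquivOver Φ) : IsIso (spHom Φ) := by
  have := isIso_pshMap h
  have : IsIso ((sheafToPresheaf _ _).map (spHom Φ)) := this
  exact isIso_of_reflects_iso (spHom Φ) (sheafToPresheaf _ _)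

theorem spMapOfOver_eq_spHom {F : Sp S} {U : Over S} (Φ : ofSp F ⥤ᵇ overCat U) :
    spMapOfOver Φ = spHom (BasedFunctor.comp Φ (ofOverCat U)) :=
  ObjectProperty.hom_ext _ (spMapOfOver_hom Φ)

theorem isEquivOver_ofSpMap {F G : Sp S} (a : F ⟶ G) [IsIso a] : IsEquivOver (ofSpMap a) :=
  have : IsIso a.hom := inferInstanceAs (IsIso ((sheafToPresheaf _ _).map a))
  isEquivOver_ofPshMap a.hom

theorem setoidal_of_repByAlgSp {𝒳 : BasedCategory.{v₁, w₁} (Over S)} (h : RepByAlgSp 𝒳) :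
    Setoidal 𝒳 := by
  obtain ⟨F, e, he⟩ := h
  have := BasedBasic.IsEquivOver.full he
  have := BasedBasic.IsEquivOver.faithful he
  intro a φ hφ
  obtain ⟨ξ, i, hi⟩ := BasedBasic.IsEquivOver.exists_iso he a
  obtain ⟨ψ, hψ⟩ := e.toFunctor.map_surjective (i.hom ≫ φ ≫ i.inv)
  have hl : 𝒳.p.IsHomLift (𝟙 (𝒳.p.obj a)) φ := hφ ▸ IsHomLift.map 𝒳.p φ
  have hi' : 𝒳.p.IsHomLift (𝟙 (𝒳.p.obj a)) i.inv := IsHomLift.lift_id_inv 𝒳.p _ i
  have h1 : 𝒳.p.IsHomLift (𝟙 (𝒳.p.obj a)) (e.map ψ) := by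
    rw [hψ]; infer_instance
  have hξ : (ofSp F.obj).p.obj ξ = 𝒳.p.obj a :=
    (e.w_obj ξ).symm.trans (IsHomLift.domain_eq 𝒳.p (𝟙 (𝒳.p.obj a)) i.hom)
  have h2 : (ofSp F.obj).p.IsHomLift (𝟙 (𝒳.p.obj a)) ψ := (BasedFunctor.isHomLift_iff e _ _).1 h1
  have hψ1 : ψ = 𝟙 ξ := Stk.EltObj.hom_ext (by
    have := IsHomLift.fac' (ofSp F.obj).p (𝟙 (𝒳.p.obj a)) ψ
    simpa using this)
  rw [hψ1, CategoryTheory.Functor.map_id, eq_comm, ← Category.assoc, Iso.comp_inv_eq] at hψ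
  rw [← cancel_epi i.hom]
  simpa using hψ

theorem faithful_of_repByAlgSp1 {𝒳 : BasedCategory.{v₁, w₁} (Over S)}
    {𝒴 : BasedCategory.{v₂, w₂} (Over S)} (h𝒳 : IsFibGrpd 𝒳.p) (h𝒴 : IsFibGrpd 𝒴.p)
    {f : 𝒳 ⥤ᵇ 𝒴} (hf : RepByAlgSp1 f) : f.toFunctor.Faithful where
  map_injective {a b φ φ'} h := by
    have hb : 𝒳.p.map φ = 𝒳.p.map φ' := by
      have e1 := CategoryTheory.Functor.congr_hom f.w φ
      have e2 := CategoryTheory.Functor.congr_hom f.w φ'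
      simp only [CategoryTheory.Functor.comp_map, h] at e1 e2
      exact (cancel_mono _).1 ((cancel_epi _).1 (e1.symm.trans e2))
    have : 𝒳.p.IsHomLift (𝟙 (𝒳.p.obj a) ≫ 𝒳.p.map φ') φ := by
      rw [Category.id_comp, ← hb]; infer_instance
    obtain ⟨ψ, hψ, e⟩ := exists_lift_through h𝒳 φ' φ (𝟙 (𝒳.p.obj a))
    suffices ψ = 𝟙 a by rw [this, Category.id_comp] at e; exact e.symm
    have hfψ : f.map ψ = 𝟙 (f.obj a) := by
      refine hom_eq_of_comp_eq h𝒴 (f.map φ') ?_ ?_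
      · have hl : 𝒴.p.IsHomLift (𝟙 (𝒳.p.obj a)) (f.map ψ) := inferInstance
        simpa using IsHomLift.fac' 𝒴.p (𝟙 (𝒳.p.obj a)) (f.map ψ)
      · rw [Category.id_comp, ← Functor.map_comp, e, h]
    let y := fromObj h𝒴 (f.w_obj a)
    obtain ⟨i, hi⟩ := exists_fromObj_iso h𝒴 (f.w_obj a)
    let z : (fp y f).obj := FibProd.objMk (Over.mk (𝟙 (𝒳.p.obj a))) a i hi
    have hm : y.map (𝟙 z.obj.fst) ≫ z.obj.iso.hom = z.obj.iso.hom ≫ f.map ψ := by
      rw [hfψ, CategoryTheory.Functor.map_id, Category.id_comp]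
      exact (Category.comp_id _).symm
    have := setoidal_of_repByAlgSp (hf _ y) z (FibProd.homMk (x := z) (y := z) (𝟙 _) ψ hm)
      ((fp y f).p.map_id z)
    exact congrArg (fun m => m.hom.snd) this

/-- Invariance under isomorphisms of the source, among algebraic spaces. -/
def RespectsIsoSp (P : MorphismProperty (Sp S)) : Prop :=
  ∀ ⦃F F' G : Sp S⦄ (e : F' ≅ F) (a : F ⟶ G), IsAlgSpace F → IsAlgSpace F' → IsAlgSpace G →
    P a → P (e.hom ≫ a)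

theorem respectsIsoSp_of_baseChange {P : MorphismProperty (Sp S)}
    (hPb : ∀ ⦃X₁ Y₁ X₂ Y₂ : Sp S⦄, IsAlgSpace X₁ → IsAlgSpace Y₁ → IsAlgSpace X₂ → IsAlgSpace Y₂ →
      ∀ (a : X₁ ⟶ Y₁) (b : Y₂ ⟶ Y₁) (a' : X₂ ⟶ Y₂) (b' : X₂ ⟶ X₁),
      IsPullback b' a' a b → P a → P a') : RespectsIsoSp P :=
  fun F F' G e a hF hF' hG ha => hPb hF hG hF' hG a (𝟙 G) (e.hom ≫ a) e.hom
    (IsPullback.of_horiz_isIso ⟨by simp⟩) ha

theorem respectsIsoSp_of_respectsIso {P : MorphismProperty (Sp S)} [P.RespectsIso] :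
    RespectsIsoSp P :=
  fun _ _ _ e a _ _ _ ha => MorphismProperty.RespectsIso.precomp P e.hom a ha

theorem respectsIsoSp_top : RespectsIsoSp (⊤ : MorphismProperty (Sp S)) :=
  fun _ _ _ _ _ _ _ _ _ => trivial

section Base

variable {𝒳 : BasedCategory.{v₁, w₁} (Over S)} {𝒴 : BasedCategory.{v₂, w₂} (Over S)}
  {P : MorphismProperty (Sp S)}

/-- Any representation of a base change has the property. -/
theorem prop_of_rep {f : 𝒳 ⥤ᵇ 𝒴} (hP : RespectsIsoSp P) (hf : RepByAlgSpWith P f) {U : Over S}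
    {y : overCat U ⥤ᵇ 𝒴} {F : Sp S} (hF : IsAlgSpace F) {e : ofSp F ⥤ᵇ fp y f} (he : IsEquivOver e) :
    P (spMapOfOver (BasedFunctor.comp e (fpFst y f))) := by
  obtain ⟨F₀, e₀, he₀, h₀⟩ := hf U y
  obtain ⟨g, hg, ⟨η⟩, ⟨ε⟩⟩ := BasedBasic.IsEquivOver.exists_inverse he₀
  have hΘ : IsEquivOver (BasedFunctor.comp e g) := BasedBasic.IsEquivOver.comp he hg
  have := isIso_spHom hΘ
  have key : spMapOfOver (BasedFunctor.comp e (fpFst y f)) =
      (asIso (spHom (BasedFunctor.comp e g))).hom ≫ spMapOfOver (BasedFunctor.comp e₀ (fpFst y f)) := by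
    rw [spMapOfOver_eq_spHom, spMapOfOver_eq_spHom, asIso_hom, ← spHom_comp]
    exact spHom_eq_of_iso (BasedBasic.isoWhiskerLeft e (BasedBasic.isoWhiskerRight ε.symm
      (BasedFunctor.comp (fpFst y f) (ofOverCat U))))
  rw [key]
  exact hP _ _ F₀.property hF (IsAlgSpace.yon_obj U) h₀

end Base

section ToSpace

variable {𝒳 𝒴 : BasedCategory.{u, u + 1} (Over S)} {F : AlgSp.Space S}
  {P : MorphismProperty (Sp S)}

/-- Comparison of the base change of a map of presheaves with that of the functor it comes from. -/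
theorem exists_equiv_baseChange {f : 𝒳 ⥤ᵇ 𝒴} {g : ofSp F.obj ⥤ᵇ 𝒴} {G : AlgSp.PSp S} {a : G ⟶ F.obj.obj}
    {t : Stk.ofPsh G ⥤ᵇ fp g f} (ht : IsEquivOver t)
    (α : Stk.ofPshMap a ≅ BasedFunctor.comp t (fpFst g f))
    {U : Over S} {ξ : (yon S).obj U ⟶ F.obj} {P' : AlgSp.PSp S} {p : P' ⟶ G}
    {q : P' ⟶ (AlgSp.pyon S).obj U} (sq : IsPullback p q a ξ.hom) :
    ∃ (E : Stk.ofPsh P' ⥤ᵇ fp (BasedFunctor.comp (ofOverCat U) (BasedFunctor.comp (ofSpMap ξ) g)) f),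
      IsEquivOver E ∧ Nonempty (BasedFunctor.comp E
        (fpFst (BasedFunctor.comp (ofOverCat U) (BasedFunctor.comp (ofSpMap ξ) g)) f) ≅
          BasedFunctor.comp (Stk.ofPshMap q) (toOverCat U)) := by
  have hF' : (BasedFunctor.id (ofSp F.obj)).toFunctor.Full := inferInstanceAs (𝟭 (ofSp F.obj).obj).Full
  have hF'' : (BasedFunctor.id (ofSp F.obj)).toFunctor.Faithful :=
    inferInstanceAs (𝟭 (ofSp F.obj).obj).Faithful
  have hY' : (BasedFunctor.id 𝒴).toFunctor.Full := inferInstanceAs (𝟭 𝒴.obj).Full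
  have hY'' : (BasedFunctor.id 𝒴).toFunctor.Faithful := inferInstanceAs (𝟭 𝒴.obj).Faithful
  have h1 := isEquivOver_sqLift sq.flip
  have h2 := isEquivOver_fpMap (BasedFunctor.id (ofSch U)) t (BasedFunctor.id (ofSp F.obj))
    (F := ofSpMap ξ) (G := fpFst g f) (F' := Stk.ofPshMap ξ.hom) (G' := Stk.ofPshMap a)
    (Iso.refl _) α.symm BasedBasic.isEquivOver_id ht
  have h3 := isEquivOver_pasteBase (ofSpMap ξ) g f
  have h4 := isEquivOver_fpMap (toOverCat U) (BasedFunctor.id 𝒳) (BasedFunctor.id 𝒴)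
    (F := BasedFunctor.comp (ofOverCat U) (BasedFunctor.comp (ofSpMap ξ) g)) (G := f)
    (F' := BasedFunctor.comp (ofSpMap ξ) g) (G' := f)
    (eqToIso rfl) (Iso.refl _) (isEquivOver_toOverCat U) BasedBasic.isEquivOver_id
  exact ⟨_, BasedBasic.IsEquivOver.comp (BasedBasic.IsEquivOver.comp
    (BasedBasic.IsEquivOver.comp h1 h2) h3) h4, ⟨eqToIso rfl⟩⟩

/-- The base change of a functor representable by algebraic spaces to an algebraic space is an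
algebraic space, and has every base-change property of the functor. -/
theorem exists_rep_toSpace (h𝒳 : IsFibGrpd 𝒳.p) (h𝒴 : IsFibGrpd 𝒴.p) {f : 𝒳 ⥤ᵇ 𝒴}
    (hf : RepByAlgSp1 f) (g : ofSp F.obj ⥤ᵇ 𝒴) :
    ∃ (G : AlgSp.Space S) (b : G.obj ⟶ F.obj) (t : ofSp G.obj ⥤ᵇ fp g f),
      IsEquivOver t ∧ Nonempty (BasedFunctor.comp t (fpFst g f) ≅ ofSpMap b) ∧
      ∀ (P : MorphismProperty (Sp S)), RespectsIsoSp P → RepByAlgSpWith P f →
        ∀ {U : Over S} (ξ : (yon S).obj U ⟶ F.obj) {P' : Sp S} (p : P' ⟶ G.obj)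
          (q : P' ⟶ (yon S).obj U), IsPullback p q b ξ → P q := by
  have := faithful_of_repByAlgSp1 h𝒳 h𝒴 hf
  have hZ : IsFibGrpd (fp g f).p := isFibGrpd_fp (Stk.isFibGrpd_ofPsh F.obj.obj) h𝒳 h𝒴
  have hs : Setoidal (fp g f) := setoidal_fp_of_faithful (setoidal_ofPsh F.obj.obj)
  obtain ⟨t, ht, -, -⟩ :=
    BasedBasic.IsEquivOver.exists_inverse (Yoneda.isEquivOver_toIsoPsh hZ hs)
  let a : Yoneda.isoPsh hZ ⟶ F.obj.obj := pshMap (BasedFunctor.comp t (fpFst g f))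
  let α : Stk.ofPshMap a ≅ BasedFunctor.comp t (fpFst g f) :=
    (isoOfPshMap (BasedFunctor.comp t (fpFst g f))).symm
  have ha : RepBySp a := by
    intro U ξ P' p q sq
    obtain ⟨E, hE, -⟩ := exists_equiv_baseChange ht α (ξ := ObjectProperty.homMk ξ) sq
    obtain ⟨W, e, he⟩ := hf U (BasedFunctor.comp (ofOverCat U)
      (BasedFunctor.comp (ofSpMap (ObjectProperty.homMk ξ : (yon S).obj U ⟶ F.obj)) g))
    obtain ⟨e', he', -, -⟩ := BasedBasic.IsEquivOver.exists_inverse hE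
    have := isIso_pshMap (BasedBasic.IsEquivOver.comp he he')
    exact AlgSp.IsAlgSpaceP.of_iso ((AlgSp.isAlgSpaceP_obj_iff W.obj).2 W.property)
      (asIso (pshMap (BasedFunctor.comp e e')))
  obtain ⟨hG, hG'⟩ := isAlgSpaceP_of_repBySp ha F.property
  refine ⟨⟨⟨Yoneda.isoPsh hZ, hG⟩, hG'⟩, ObjectProperty.homMk a, t, ht, ⟨α.symm⟩, ?_⟩
  intro P hP hfP U ξ P' p q sq
  obtain ⟨E, hE, ⟨ε⟩⟩ := exists_equiv_baseChange ht α (ξ := ξ) (sq.map (sheafToPresheaf _ _))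
  have hP' : IsAlgSpace P' := (AlgSp.repBySp_hom_iff
    (G := F.obj) (F := (⟨Yoneda.isoPsh hZ, hG⟩ : Sp S)) (ObjectProperty.homMk a)).1 ha ξ p q sq
  have h := prop_of_rep hP hfP hP' hE
  rw [spMapOfOver_eq_of_iso ε] at h
  rwa [show BasedFunctor.comp (Stk.ofPshMap ((sheafToPresheaf _ _).map q)) (toOverCat U) =
    BasedFunctor.comp (ofSpMap q) (toOverCat U) from rfl, spMapOfOver_ofSpMap_toOverCat] at h

theorem repByAlgSp_fp_ofSp (h𝒳 : IsFibGrpd 𝒳.p) (h𝒴 : IsFibGrpd 𝒴.p) {f : 𝒳 ⥤ᵇ 𝒴}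
    (hf : RepByAlgSp1 f) (g : ofSp F.obj ⥤ᵇ 𝒴) : RepByAlgSp (fp g f) := by
  obtain ⟨G, _, t, ht, -, -⟩ := exists_rep_toSpace h𝒳 h𝒴 hf g
  exact ⟨G, t, ht⟩

/-- Representability by algebraic spaces is stable under composition. -/
theorem repByAlgSp1_comp {𝒵 : BasedCategory.{u, u + 1} (Over S)} (h𝒳 : IsFibGrpd 𝒳.p)
    (h𝒴 : IsFibGrpd 𝒴.p) {f : 𝒳 ⥤ᵇ 𝒴} (hf : RepByAlgSp1 f) {g : 𝒴 ⥤ᵇ 𝒵} (hg : RepByAlgSp1 g) :
    RepByAlgSp1 (BasedFunctor.comp f g) := fun U y => by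
  obtain ⟨A, e, he⟩ := hg U y
  have : (BasedFunctor.id 𝒴).toFunctor.Full := inferInstanceAs (𝟭 𝒴.obj).Full
  have : (BasedFunctor.id 𝒴).toFunctor.Faithful := inferInstanceAs (𝟭 𝒴.obj).Faithful
  have h1 := isEquivOver_fpMap e (BasedFunctor.id 𝒳) (BasedFunctor.id 𝒴)
    (F := fpSnd y g) (G := f) (F' := BasedFunctor.comp e (fpSnd y g)) (G' := f)
    (Iso.refl _) (Iso.refl _) he BasedBasic.isEquivOver_id
  exact repByAlgSp_of_equiv (BasedBasic.IsEquivOver.comp h1 (isEquivOver_pasteComp y g f))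
    (repByAlgSp_fp_ofSp h𝒳 h𝒴 hf _)

end ToSpace

end Groth.Agent.Lib.AlgStack.Space
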