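import Groth.Prelude.Def_AlgSpCov
import Groth.Agent.Lib.AlgStack.Space
import Groth.Agent.Lib.AlgSpace.Points

/-!
# Composition of representable functors with properties; atlases as coverings
-/

set_option autoImplicit false
set_option backward.isDefEq.respectTransparency false
set_option backward.isDefEq.respectTransparency.types false

universe u

open CategoryTheory CategoryTheory.Limits AlgebraicGeometry Opposite

namespace Groth.Agent.Lib.AlgStack.Comp

open BasedBasic OfPsh FibProd Rep Space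
open FibCat (IsEquivOver IsFibGrpd fp fpFst fpSnd overCat)
open AlgSt (ofSp ofSpMap spMapOfOver RepByAlgSp1 RepByAlgSpWith)
open AlgSp (Sp yon IsAlgSpace RepWith)

variable {S : Scheme.{u}}

/-- A representable etale morphism has, etale locally, every property of etale morphisms of schemes. -/
theorem locP_of_repWith_etale {P : MorphismProperty Scheme.{u}}
    (hle : ∀ ⦃X Y : Scheme.{u}⦄ (f : X ⟶ Y), Etale f → P f) {F G : Sp S} {f : F ⟶ G}
    (hf : RepWith @Etale f) : AlgSp.LocP P f := by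
  have : MorphismProperty.IsStableUnderComposition @Etale.{u} :=
    (inferInstance : MorphismProperty.IsMultiplicative @Etale.{u}).toIsStableUnderComposition
  intro U V a b h ha hb w
  have haf : RepWith @Etale (a ≫ f) := AlgSpace.repWith_comp ha hf
  obtain ⟨W, q, p', sq, hq⟩ := AlgSpace.repWith_exists haf b
  obtain ⟨p, rfl⟩ := (yon S).map_surjective p'
  have hp : Etale p.left := hb.property (a ≫ f) ((yon S).map q) p sq.flip
  obtain ⟨s, hs⟩ := (yon S).map_surjective (sq.lift (𝟙 _) ((yon S).map h) (by simpa using w))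
  have hs1 : s ≫ p = 𝟙 U := (yon S).map_injective (by rw [Functor.map_comp, hs]; simp)
  have hs2 : s ≫ q = h := (yon S).map_injective (by rw [Functor.map_comp, hs]; simp)
  have hsp : Etale (s.left ≫ p.left) := by
    rw [← Over.comp_left, hs1]; exact (inferInstance : Etale (𝟙 U.left))
  have hse : Etale s.left := MorphismProperty.of_postcomp @Etale (W' := @Etale) s.left p.left hp hsp
  apply hle
  rw [← hs2, Over.comp_left]
  exact MorphismProperty.comp_mem @Etale _ _ hse hq

/-- An atlas is an fppf covering. -/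
theorem isFppfCover_atlas {F : Sp S} {U : Over S} {p : (yon S).obj U ⟶ F}
    (he : RepWith @Etale p) (hs : RepWith @Surjective p) :
    AlgSp.IsFppfCover (fun _ : PUnit.{u + 1} => (yon S).obj U) (fun _ => p) :=
  ⟨fun _ => ⟨locP_of_repWith_etale (fun _ _ g hg => by have := hg; infer_instance) he,
    locP_of_repWith_etale (fun _ _ g hg => by have := hg; infer_instance) he⟩,
    fun x => ⟨⟨⟩, AlgSpace.surjective_map hs x⟩⟩

variable {𝒳 𝒴 𝒵 : AlgSt.Cat S}

/-- For a property which is fppf local on the base, the base change of a representable functor to an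
algebraic space has the property. -/
theorem exists_rep_toSpace_prop {P : MorphismProperty (Sp S)} (hP : RespectsIsoSp P)
    (hl : AlgSp.IsLocalOnBase AlgSp.IsFppfCover P) (h𝒳 : IsFibGrpd 𝒳.p) (h𝒴 : IsFibGrpd 𝒴.p)
    {f : 𝒳 ⥤ᵇ 𝒴} (hf : RepByAlgSpWith P f) (F : AlgSp.Space S) (g : ofSp F.obj ⥤ᵇ 𝒴) :
    ∃ (G : AlgSp.Space S) (b : G.obj ⟶ F.obj) (t : ofSp G.obj ⥤ᵇ fp g f),
      IsEquivOver t ∧ Nonempty (BasedFunctor.comp t (fpFst g f) ≅ ofSpMap b) ∧ P b := by
  obtain ⟨G, b, t, ht, hβ, hprop⟩ :=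
    exists_rep_toSpace h𝒳 h𝒴 (repByAlgSp1_of_repByAlgSpWith hf) g
  refine ⟨G, b, t, ht, hβ, ?_⟩
  obtain ⟨U, p, he, hs⟩ := F.property.atlas
  have sq := IsPullback.of_hasPullback b p
  exact (hl _ (fun _ : PUnit.{u + 1} => p) F.property (fun _ => IsAlgSpace.yon_obj U)
    (isFppfCover_atlas he hs) b G.property _ (fun _ => pullback.snd b p)
    (fun _ => pullback.fst b p)
    (fun _ => AlgSpace.isAlgSpace_of_isPullback sq F.property.diag G.property (IsAlgSpace.yon_obj U))
    (fun _ => sq)).2 fun _ => hprop P hP hf p _ _ sq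

/-- Composition, for properties stable under base change and composition and fppf local on the base. -/
theorem repByAlgSpWith_comp {P : MorphismProperty (Sp S)} (hP : RespectsIsoSp P)
    (hPc : ∀ ⦃X Y Z : Sp S⦄, IsAlgSpace X → IsAlgSpace Y → IsAlgSpace Z →
      ∀ (a : X ⟶ Y) (b : Y ⟶ Z), P a → P b → P (a ≫ b))
    (hl : AlgSp.IsLocalOnBase AlgSp.IsFppfCover P)
    (h𝒳 : IsFibGrpd 𝒳.p) (h𝒴 : IsFibGrpd 𝒴.p) {f : 𝒳 ⥤ᵇ 𝒴} (hf : RepByAlgSpWith P f)
    {g : 𝒴 ⥤ᵇ 𝒵} (hg : RepByAlgSpWith P g) : RepByAlgSpWith P (BasedFunctor.comp f g) := by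
  intro U y
  obtain ⟨A, e, he, hA⟩ := hg U y
  obtain ⟨G, b, t, ht, ⟨β⟩, hb⟩ :=
    exists_rep_toSpace_prop hP hl h𝒳 h𝒴 hf A (BasedFunctor.comp e (fpSnd y g))
  have : (BasedFunctor.id 𝒴).toFunctor.Full := inferInstanceAs (𝟭 𝒴.obj).Full
  have : (BasedFunctor.id 𝒴).toFunctor.Faithful := inferInstanceAs (𝟭 𝒴.obj).Faithful
  have h1 := isEquivOver_fpMap e (BasedFunctor.id 𝒳) (BasedFunctor.id 𝒴)
    (F := fpSnd y g) (G := f) (F' := BasedFunctor.comp e (fpSnd y g)) (G' := f)
    (Iso.refl _) (Iso.refl _) he BasedBasic.isEquivOver_id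
  refine ⟨G, _, BasedBasic.IsEquivOver.comp ht
    (BasedBasic.IsEquivOver.comp h1 (isEquivOver_pasteComp y g f)), ?_⟩
  change P (spMapOfOver (BasedFunctor.comp (BasedFunctor.comp t (fpFst _ f))
    (BasedFunctor.comp e (fpFst y g))))
  rw [spMapOfOver_eq_of_iso
    (BasedBasic.isoWhiskerRight β (BasedFunctor.comp e (fpFst y g))), spMapOfOver_precomp]
  exact hPc G.property A.property (IsAlgSpace.yon_obj U) _ _ hb hA

end Groth.Agent.Lib.AlgStack.Comp
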