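import Groth.Agent.Lib.AlgStack.Space
import Groth.Agent.Lib.AlgSpace.Diag

/-!
# The diagonal and representability by algebraic spaces
-/

set_option autoImplicit false
set_option backward.isDefEq.respectTransparency false
set_option backward.isDefEq.respectTransparency.types false

universe u

open CategoryTheory CategoryTheory.Limits AlgebraicGeometry Opposite

namespace Groth.Agent.Lib.AlgStack.Diag

open BasedBasic OfPsh Yoneda FibProd Rep Space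
open FibCat (IsEquivOver IsFibGrpd fp fpFst fpSnd fpLift fpIso overCat selfOver toSelf)
open AlgSt (ofSp ofSch ofSpMap toOverCat ofOverCat RepByAlgSp RepByAlgSp1)

section Generic

universe v₂ u₂ v₃ u₃ v₄ u₄ v u₀

variable {C : Type u₀} [Category.{v} C] {𝒳 : BasedCategory.{v₂, u₂} C} {𝒲 : BasedCategory.{v₃, u₃} C}
  {𝒱 : BasedCategory.{v₄, u₄} C}

theorem toSelf_unique (Φ Ψ : 𝒲 ⥤ᵇ selfOver C) : Φ = Ψ := by
  obtain ⟨F, hF⟩ := Φ
  obtain ⟨G, hG⟩ := Ψ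
  have : F = G := (CategoryTheory.Functor.comp_id F).symm.trans
    ((hF.trans hG.symm).trans (CategoryTheory.Functor.comp_id G))
  subst this
  rfl

/-- Two morphisms of `C/C` lifting the same morphism agree. -/
theorem selfOver_hom_eq {a b : (selfOver C).obj} {R S : C} (f : R ⟶ S) (φ ψ : a ⟶ b)
    [(selfOver C).p.IsHomLift f φ] [(selfOver C).p.IsHomLift f ψ] : φ = ψ :=
  (IsHomLift.fac' (selfOver C).p f φ).trans (IsHomLift.fac' (selfOver C).p f ψ).symm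

/-- 2-isomorphisms into a product over the base are given componentwise. -/
def isoToProd {Φ Ψ : 𝒲 ⥤ᵇ fp (toSelf 𝒳) (toSelf 𝒱)}
    (e₁ : BasedFunctor.comp Φ (fpFst _ _) ≅ BasedFunctor.comp Ψ (fpFst _ _))
    (e₂ : BasedFunctor.comp Φ (fpSnd _ _) ≅ BasedFunctor.comp Ψ (fpSnd _ _)) : Φ ≅ Ψ := by
  have h1 : ∀ w, 𝒳.p.IsHomLift (𝟙 (𝒲.p.obj w)) (appIso e₁ w).hom := appIso_isHomLift e₁
  have h2 : ∀ w, 𝒱.p.IsHomLift (𝟙 (𝒲.p.obj w)) (appIso e₂ w).hom := appIso_isHomLift e₂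
  have h1' : ∀ w, 𝒳.p.IsHomLift (𝟙 (𝒲.p.obj w)) (appIso e₁ w).inv := fun w =>
    IsHomLift.lift_id_inv 𝒳.p _ _
  have h2' : ∀ w, 𝒱.p.IsHomLift (𝟙 (𝒲.p.obj w)) (appIso e₂ w).inv := fun w =>
    IsHomLift.lift_id_inv 𝒱.p _ _
  have hΦ : ∀ w, (selfOver C).p.IsHomLift (𝟙 (𝒲.p.obj w)) (Φ.obj w).obj.iso.hom :=
    fun w => Φ.w_obj w ▸ (Φ.obj w).property
  have hΨ : ∀ w, (selfOver C).p.IsHomLift (𝟙 (𝒲.p.obj w)) (Ψ.obj w).obj.iso.hom :=
    fun w => Ψ.w_obj w ▸ (Ψ.obj w).property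
  refine BasedNatIso.mkNatIso (NatIso.ofComponents
    (fun w =>
      { hom := FibProd.homMk (appIso e₁ w).hom (appIso e₂ w).hom ?_
        inv := FibProd.homMk (appIso e₁ w).inv (appIso e₂ w).inv ?_
        hom_inv_id := FibProd.hom_ext (Iso.hom_inv_id _) (Iso.hom_inv_id _)
        inv_hom_id := FibProd.hom_ext (Iso.inv_hom_id _) (Iso.inv_hom_id _) })
    (fun {w w'} m => FibProd.hom_ext (e₁.hom.toNatTrans.naturality m)
      (e₂.hom.toNatTrans.naturality m))) (fun w => ?_)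
  · exact selfOver_hom_eq (𝟙 (𝒲.p.obj w)) _ _
  · exact selfOver_hom_eq (𝟙 (𝒲.p.obj w)) _ _
  · exact IsHomLift.of_fac' _ _ _ (Φ.w_obj w) (Ψ.w_obj w)
      (IsHomLift.fac' 𝒳.p (𝟙 (𝒲.p.obj w)) (appIso e₁ w).hom)

/-- The pairing into a product over the base. -/
abbrev pair (a : 𝒲 ⥤ᵇ 𝒳) (b : 𝒲 ⥤ᵇ 𝒱) : 𝒲 ⥤ᵇ fp (toSelf 𝒳) (toSelf 𝒱) :=
  fpLift a b (eqToIso (toSelf_unique _ _))

/-- The base change of the diagonal along `z` maps to the equaliser of the fibre product. -/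
def diagPullback (z : 𝒲 ⥤ᵇ fp (toSelf 𝒳) (toSelf 𝒳)) :
    fp z (FibCat.diag (toSelf 𝒳)) ⥤ᵇ
      fp (FibCat.diag (toSelf 𝒲))
        (pair (fpFst (BasedFunctor.comp z (fpFst _ _)) (BasedFunctor.comp z (fpSnd _ _)))
          (fpSnd (BasedFunctor.comp z (fpFst _ _)) (BasedFunctor.comp z (fpSnd _ _)))) :=
  fpLift (fpFst z _)
    (fpLift (fpFst z _) (fpFst z _)
      (BasedBasic.isoWhiskerRight (fpIso z (FibCat.diag (toSelf 𝒳))) (fpFst _ _) ≪≫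
        (BasedBasic.isoWhiskerRight (fpIso z (FibCat.diag (toSelf 𝒳))) (fpSnd _ _)).symm))
    (isoToProd (eqToIso rfl) (eqToIso rfl))

theorem isEquivOver_diagPullback (z : 𝒲 ⥤ᵇ fp (toSelf 𝒳) (toSelf 𝒳)) :
    IsEquivOver (diagPullback z) := by
  have hiso : ∀ a, ((diagPullback z).obj a).obj.snd.obj.iso.hom =
      a.obj.iso.hom.hom.fst ≫ a.obj.iso.inv.hom.snd := fun a => rfl
  have hfs : ∀ a : (fp z (FibCat.diag (toSelf 𝒳))).obj,
      a.obj.iso.hom.hom.fst ≫ a.obj.iso.inv.hom.fst = 𝟙 _ := fun a =>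
    congrArg (fun m => m.hom.fst) a.obj.iso.hom_inv_id
  have hss : ∀ a : (fp z (FibCat.diag (toSelf 𝒳))).obj,
      a.obj.iso.inv.hom.snd ≫ a.obj.iso.hom.hom.snd = 𝟙 _ := fun a =>
    congrArg (fun m => m.hom.snd) a.obj.iso.inv_hom_id
  have : (diagPullback z).toFunctor.Faithful := ⟨fun {a b φ ψ} h => by
    have h1 : φ.hom.fst = ψ.hom.fst := congrArg (fun m => m.hom.fst) h
    refine FibProd.hom_ext h1 ?_
    have w1 := congrArg (fun m => m.hom.fst) φ.hom.w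
    have w2 := congrArg (fun m => m.hom.fst) ψ.hom.w
    rw [h1, w2] at w1
    change a.obj.iso.hom.hom.fst ≫ ψ.hom.snd = a.obj.iso.hom.hom.fst ≫ φ.hom.snd at w1
    have hff : a.obj.iso.inv.hom.fst ≫ a.obj.iso.hom.hom.fst = 𝟙 _ :=
      congrArg (fun m => m.hom.fst) a.obj.iso.inv_hom_id
    have := congrArg (fun m => a.obj.iso.inv.hom.fst ≫ m) w1
    simp only [← Category.assoc, hff] at this
    simpa using this.symm⟩
  have : (diagPullback z).toFunctor.Full := ⟨fun {a b} m => by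
    have w1 : m.hom.fst ≫ 𝟙 _ = 𝟙 _ ≫ m.hom.snd.hom.fst := congrArg (fun m => m.hom.fst) m.hom.w
    have w2 : m.hom.fst ≫ 𝟙 _ = 𝟙 _ ≫ m.hom.snd.hom.snd := congrArg (fun m => m.hom.snd) m.hom.w
    have e1 : m.hom.snd.hom.fst = m.hom.fst :=
      (Category.id_comp _).symm.trans (w1.symm.trans (Category.comp_id _))
    have e2 : m.hom.snd.hom.snd = m.hom.fst :=
      (Category.id_comp _).symm.trans (w2.symm.trans (Category.comp_id _))
    have w := m.hom.snd.hom.w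
    rw [hiso, hiso, e1, e2] at w
    change (z.map m.hom.fst).hom.fst ≫ b.obj.iso.hom.hom.fst ≫ b.obj.iso.inv.hom.snd =
      (a.obj.iso.hom.hom.fst ≫ a.obj.iso.inv.hom.snd) ≫ (z.map m.hom.fst).hom.snd at w
    let k : a.obj.snd ⟶ b.obj.snd :=
      a.obj.iso.inv.hom.fst ≫ (z.map m.hom.fst).hom.fst ≫ b.obj.iso.hom.hom.fst
    refine ⟨FibProd.homMk m.hom.fst k (FibProd.hom_ext ?_ ?_), FibProd.hom_ext rfl
      (FibProd.hom_ext e1.symm e2.symm)⟩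
    · change (z.map m.hom.fst).hom.fst ≫ b.obj.iso.hom.hom.fst = a.obj.iso.hom.hom.fst ≫ k
      simp only [k, reassoc_of% hfs a]
    · change (z.map m.hom.fst).hom.snd ≫ b.obj.iso.hom.hom.snd = a.obj.iso.hom.hom.snd ≫ k
      have hf2 : a.obj.iso.inv.hom.fst ≫ a.obj.iso.hom.hom.fst = 𝟙 _ :=
        congrArg (fun m => m.hom.fst) a.obj.iso.inv_hom_id
      have hs2 : a.obj.iso.hom.hom.snd ≫ a.obj.iso.inv.hom.snd = 𝟙 _ :=
        congrArg (fun m => m.hom.snd) a.obj.iso.hom_inv_id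
      have := congrArg (fun t => a.obj.iso.hom.hom.snd ≫ a.obj.iso.inv.hom.fst ≫ t ≫ b.obj.iso.hom.hom.snd) w
      simp only [Category.assoc, reassoc_of% hf2, reassoc_of% hs2] at this
      erw [hss b, Category.comp_id] at this
      exact this.symm⟩
  refine isEquivOver_of _ fun η => ?_
  let a := BasedFunctor.comp z (fpFst (toSelf 𝒳) (toSelf 𝒳))
  let b := BasedFunctor.comp z (fpSnd (toSelf 𝒳) (toSelf 𝒳))
  let u := η.obj.fst
  let p := η.obj.snd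
  let i₁ : u ≅ p.obj.fst := (fpFst (toSelf 𝒲) (toSelf 𝒲)).toFunctor.mapIso η.obj.iso
  let i₂ : u ≅ p.obj.snd := (fpSnd (toSelf 𝒲) (toSelf 𝒲)).toFunctor.mapIso η.obj.iso
  let χ : a.obj u ≅ b.obj u :=
    a.toFunctor.mapIso i₁ ≪≫ p.obj.iso ≪≫ (b.toFunctor.mapIso i₂).symm
  let T := 𝒲.p.obj u
  have hη : (fp (toSelf 𝒲) (toSelf 𝒲)).p.IsHomLift (𝟙 T) η.obj.iso.hom := η.property
  have hi₁ : 𝒲.p.IsHomLift (𝟙 T) i₁.hom :=
    BasedFunctor.preserves_isHomLift (fpFst (toSelf 𝒲) (toSelf 𝒲)) _ _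
  have hi₂ : 𝒲.p.IsHomLift (𝟙 T) i₂.hom :=
    BasedFunctor.preserves_isHomLift (fpSnd (toSelf 𝒲) (toSelf 𝒲)) _ _
  have hp : 𝒲.p.obj p.obj.fst = T := IsHomLift.codomain_eq 𝒲.p (𝟙 T) i₁.hom
  have hp' : 𝒳.p.IsHomLift (𝟙 T) p.obj.iso.hom := hp ▸ p.property
  have hi₂' : 𝒲.p.IsHomLift (𝟙 T) i₂.inv := IsHomLift.lift_id_inv 𝒲.p T i₂
  have hχ : 𝒳.p.IsHomLift (𝟙 T) χ.hom := by
    change 𝒳.p.IsHomLift (𝟙 T) (a.map i₁.hom ≫ p.obj.iso.hom ≫ b.map i₂.inv)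
    infer_instance
  have hχ' : 𝒳.p.IsHomLift (𝟙 T) χ.inv := IsHomLift.lift_id_inv 𝒳.p T χ
  have hid : 𝒳.p.IsHomLift (𝟙 T) (𝟙 (a.obj u)) := IsHomLift.id (a.w_obj u)
  have hzT : (fp (toSelf 𝒳) (toSelf 𝒳)).p.obj (z.obj u) = T := z.w_obj u
  have hz : (selfOver C).p.IsHomLift (𝟙 T) (z.obj u).obj.iso.hom := by
    have h : (selfOver C).p.IsHomLift (𝟙 ((fp (toSelf 𝒳) (toSelf 𝒳)).p.obj (z.obj u)))
        (z.obj u).obj.iso.hom := (z.obj u).property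
    rwa [hzT] at h
  have hd : (selfOver C).p.IsHomLift (𝟙 T)
      ((FibCat.diag (toSelf 𝒳)).obj (a.obj u)).obj.iso.hom := by
    have h : (selfOver C).p.IsHomLift (𝟙 (𝒳.p.obj (a.obj u)))
        ((FibCat.diag (toSelf 𝒳)).obj (a.obj u)).obj.iso.hom :=
      ((FibCat.diag (toSelf 𝒳)).obj (a.obj u)).property
    rwa [a.w_obj u] at h
  have hau : (selfOver C).p.IsHomLift (𝟙 T) (𝟙 ((toSelf 𝒳).obj (a.obj u))) :=
    IsHomLift.id (a.w_obj u)
  let θ : z.obj u ≅ (FibCat.diag (toSelf 𝒳)).obj (a.obj u) :=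
    { hom := FibProd.homMk (𝟙 (a.obj u)) χ.inv (selfOver_hom_eq (𝟙 T) _ _)
      inv := FibProd.homMk (𝟙 (a.obj u)) χ.hom (selfOver_hom_eq (𝟙 T) _ _)
      hom_inv_id := FibProd.hom_ext (Category.id_comp _) χ.inv_hom_id
      inv_hom_id := FibProd.hom_ext (Category.id_comp _) χ.hom_inv_id }
  have hθ : (fp (toSelf 𝒳) (toSelf 𝒳)).p.IsHomLift (𝟙 T) θ.hom :=
    IsHomLift.of_fac' _ _ _ (z.w_obj u) (a.w_obj u) (IsHomLift.fac' 𝒳.p (𝟙 T) (𝟙 (a.obj u)))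
  refine ⟨FibProd.objMk u (a.obj u) θ hθ, exists_iso_over (Iso.refl _)
    { hom := FibProd.homMk i₁.hom i₂.hom ?_
      inv := FibProd.homMk i₁.inv i₂.inv ?_
      hom_inv_id := FibProd.hom_ext i₁.hom_inv_id i₂.hom_inv_id
      inv_hom_id := FibProd.hom_ext i₁.inv_hom_id i₂.inv_hom_id } ?_ (IsHomLift.id rfl)⟩
  · rw [hiso]
    change a.map i₁.hom ≫ p.obj.iso.hom = (𝟙 _ ≫ χ.hom) ≫ b.map i₂.hom
    rw [Category.id_comp]
    simp [χ, ← Functor.map_comp]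
    exact (congrArg (a.map i₁.hom ≫ ·) (Category.comp_id _)).symm
  · rw [hiso]
    change a.map i₁.inv ≫ (𝟙 _ ≫ χ.hom) = p.obj.iso.hom ≫ b.map i₂.inv
    rw [Category.id_comp]
    simp [χ, ← Functor.map_comp_assoc]
  · apply FibProd.hom_ext
    · change 𝟙 _ ≫ η.obj.iso.hom.hom.fst = 𝟙 _ ≫ i₁.hom
      rfl
    · change 𝟙 _ ≫ η.obj.iso.hom.hom.snd = 𝟙 _ ≫ i₂.hom
      rfl

/-- A fibre product as a base change of the diagonal. -/
def toDiagPullback {𝒰 : BasedCategory.{v₃, u₃} C} (y : 𝒱 ⥤ᵇ 𝒳) (x : 𝒰 ⥤ᵇ 𝒳) :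
    fp y x ⥤ᵇ fp (pair (BasedFunctor.comp (fpFst (toSelf 𝒱) (toSelf 𝒰)) y)
      (BasedFunctor.comp (fpSnd (toSelf 𝒱) (toSelf 𝒰)) x)) (FibCat.diag (toSelf 𝒳)) :=
  fpLift (pair (fpFst y x) (fpSnd y x)) (BasedFunctor.comp (fpSnd y x) x)
    (isoToProd (fpIso y x) (Iso.refl _))

theorem isEquivOver_toDiagPullback {𝒰 : BasedCategory.{v₃, u₃} C} (y : 𝒱 ⥤ᵇ 𝒳) (x : 𝒰 ⥤ᵇ 𝒳) :
    IsEquivOver (toDiagPullback y x) := by
  have : (toDiagPullback y x).toFunctor.Faithful := ⟨fun {a b φ ψ} h =>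
    FibProd.hom_ext (congrArg (fun m => m.hom.fst.hom.fst) h)
      (congrArg (fun m => m.hom.fst.hom.snd) h)⟩
  have : (toDiagPullback y x).toFunctor.Full := ⟨fun {a b} m => by
    have w1 : y.map m.hom.fst.hom.fst ≫ b.obj.iso.hom = a.obj.iso.hom ≫ m.hom.snd :=
      congrArg (fun m => m.hom.fst) m.hom.w
    have w2 : x.map m.hom.fst.hom.snd ≫ 𝟙 _ = 𝟙 _ ≫ m.hom.snd :=
      congrArg (fun m => m.hom.snd) m.hom.w
    have e : x.map m.hom.fst.hom.snd = m.hom.snd :=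
      (Category.comp_id _).symm.trans (w2.trans (Category.id_comp _))
    exact ⟨FibProd.homMk m.hom.fst.hom.fst m.hom.fst.hom.snd (by rw [w1, ← e]),
      FibProd.hom_ext (FibProd.hom_ext rfl rfl) e⟩⟩
  refine isEquivOver_of _ fun η => ?_
  let v := η.obj.fst.obj.fst
  let t := η.obj.fst.obj.snd
  let j₁ : y.obj v ≅ η.obj.snd := (fpFst (toSelf 𝒳) (toSelf 𝒳)).toFunctor.mapIso η.obj.iso
  let j₂ : x.obj t ≅ η.obj.snd := (fpSnd (toSelf 𝒳) (toSelf 𝒳)).toFunctor.mapIso η.obj.iso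
  let T := 𝒱.p.obj v
  have hη : (fp (toSelf 𝒳) (toSelf 𝒳)).p.IsHomLift (𝟙 T) η.obj.iso.hom := η.property
  have hj₁ : 𝒳.p.IsHomLift (𝟙 T) j₁.hom :=
    BasedFunctor.preserves_isHomLift (fpFst (toSelf 𝒳) (toSelf 𝒳)) _ _
  have hj₂ : 𝒳.p.IsHomLift (𝟙 T) j₂.hom :=
    BasedFunctor.preserves_isHomLift (fpSnd (toSelf 𝒳) (toSelf 𝒳)) _ _
  have hj₂' : 𝒳.p.IsHomLift (𝟙 T) j₂.inv := IsHomLift.lift_id_inv 𝒳.p T j₂
  have hl : 𝒳.p.IsHomLift (𝟙 T) (j₁ ≪≫ j₂.symm).hom := by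
    change 𝒳.p.IsHomLift (𝟙 T) (j₁.hom ≫ j₂.inv); infer_instance
  let a : (fp y x).obj := FibProd.objMk v t (j₁ ≪≫ j₂.symm) hl
  have hid : (selfOver C).p.IsHomLift (𝟙 T) (𝟙 ((toSelf 𝒱).obj v)) := IsHomLift.id rfl
  have hf1 : (selfOver C).p.IsHomLift (𝟙 T) η.obj.fst.obj.iso.hom := η.obj.fst.property
  have hf2 : (selfOver C).p.IsHomLift (𝟙 T) ((pair (fpFst y x) (fpSnd y x)).obj a).obj.iso.hom :=
    ((pair (fpFst y x) (fpSnd y x)).obj a).property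
  have ht : (selfOver C).p.IsHomLift (𝟙 T) (𝟙 ((toSelf 𝒰).obj t)) :=
    IsHomLift.id (snd_obj η.obj.fst)
  let E : (pair (fpFst y x) (fpSnd y x)).obj a ≅ η.obj.fst :=
    { hom := FibProd.homMk (𝟙 v) (𝟙 t) (by
        change 𝒱.p.map (𝟙 v) ≫ _ = _ ≫ 𝒰.p.map (𝟙 t)
        simp only [CategoryTheory.Functor.map_id]
        exact selfOver_hom_eq (𝟙 T) _ _)
      inv := FibProd.homMk (𝟙 v) (𝟙 t) (by
        change 𝒱.p.map (𝟙 v) ≫ _ = _ ≫ 𝒰.p.map (𝟙 t)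
        simp only [CategoryTheory.Functor.map_id]
        exact selfOver_hom_eq (𝟙 T) _ _)
      hom_inv_id := FibProd.hom_ext (Category.id_comp _) (Category.id_comp _)
      inv_hom_id := FibProd.hom_ext (Category.id_comp _) (Category.id_comp _) }
  refine ⟨a, exists_iso_over E j₂ (FibProd.hom_ext ?_ ?_)
    (IsHomLift.of_fac' _ _ _ rfl rfl (IsHomLift.fac' 𝒱.p (𝟙 T) (𝟙 v)))⟩
  · change y.map (𝟙 v) ≫ j₁.hom = (j₁.hom ≫ j₂.inv) ≫ j₂.hom
    simp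
  · change x.map (𝟙 t) ≫ j₂.hom = 𝟙 _ ≫ j₂.hom
    simp

end Generic

variable {S : Scheme.{u}}

theorem repByAlgSp_ofSp (F : AlgSp.Space S) : RepByAlgSp (ofSp F.obj) :=
  ⟨F, _, BasedBasic.isEquivOver_id⟩

theorem repByAlgSp_overCat (U : Over S) : RepByAlgSp (overCat U) :=
  ⟨(AlgSp.ofScheme S).obj U, toOverCat U, isEquivOver_toOverCat U⟩

/-- A fibre product of categories representable by algebraic spaces is so representable. -/
theorem repByAlgSp_fp {𝒜 ℬ 𝒞 : AlgSt.Cat S} (hA : RepByAlgSp 𝒜) (hB : RepByAlgSp ℬ)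
    (hC : RepByAlgSp 𝒞) (a : 𝒜 ⥤ᵇ 𝒞) (b : ℬ ⥤ᵇ 𝒞) : RepByAlgSp (fp a b) := by
  obtain ⟨A, eA, hA⟩ := hA
  obtain ⟨B, eB, hB⟩ := hB
  obtain ⟨H, eH, hH⟩ := hC
  obtain ⟨s, -, -, ⟨ε⟩⟩ := BasedBasic.IsEquivOver.exists_inverse hH
  have := BasedBasic.IsEquivOver.full hH
  have := BasedBasic.IsEquivOver.faithful hH
  let α := spHom (BasedFunctor.comp (BasedFunctor.comp eA a) s)
  let β := spHom (BasedFunctor.comp (BasedFunctor.comp eB b) s)
  let ea : BasedFunctor.comp eA a ≅ BasedFunctor.comp (ofSpMap α) eH :=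
    BasedBasic.isoWhiskerLeft (BasedFunctor.comp eA a) ε.symm ≪≫
      BasedBasic.isoWhiskerRight (isoOfPshMap (BasedFunctor.comp (BasedFunctor.comp eA a) s)) eH
  let eb : BasedFunctor.comp eB b ≅ BasedFunctor.comp (ofSpMap β) eH :=
    BasedBasic.isoWhiskerLeft (BasedFunctor.comp eB b) ε.symm ≪≫
      BasedBasic.isoWhiskerRight (isoOfPshMap (BasedFunctor.comp (BasedFunctor.comp eB b) s)) eH
  have h1 := isEquivOver_fpMap eA eB eH ea eb hA hB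
  have sq := IsPullback.of_hasPullback α β
  have h2 := isEquivOver_sqLift (sq.map (sheafToPresheaf _ _))
  exact ⟨⟨pullback α β, AlgSpace.isAlgSpace_of_isPullback sq H.property.diag A.property B.property⟩,
    _, BasedBasic.IsEquivOver.comp h2 h1⟩

/-- A functor of slices. -/
def overMap' {U V : Over S} (g : U ⟶ V) : overCat U ⥤ᵇ overCat V where
  toFunctor := Over.map g
  w := rfl

/-- The slice of a product. -/
noncomputable def prodToFp (U V : Over S) :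
    overCat (U ⨯ V) ⥤ᵇ fp (toSelf (overCat U)) (toSelf (overCat V)) :=
  pair (overMap' prod.fst) (overMap' prod.snd)

theorem isEquivOver_prodToFp (U V : Over S) : IsEquivOver (prodToFp U V) := by
  have : (prodToFp U V).toFunctor.Faithful := ⟨fun {a b φ ψ} h =>
    Over.OverMorphism.ext (congrArg (fun m => m.hom.fst.left) h :)⟩
  have : (prodToFp U V).toFunctor.Full := ⟨fun {a b} m => by
    change Over (U ⨯ V) at a b
    have hm : (overCat V).p.IsHomLift ((overCat U).p.map m.hom.fst) m.hom.snd :=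
      FibCat.fp_isHomLift_snd (toSelf (overCat U)) (toSelf (overCat V)) m
    have hl : (overCat V).p.map m.hom.snd = (overCat U).p.map m.hom.fst :=
      (IsHomLift.fac' (overCat V).p _ m.hom.snd).trans
        ((Category.id_comp _).trans (Category.comp_id _))
    change m.hom.snd.left = m.hom.fst.left at hl
    have w1 : m.hom.fst.left ≫ b.hom ≫ prod.fst = a.hom ≫ prod.fst := Over.w m.hom.fst
    have w2 : m.hom.snd.left ≫ b.hom ≫ prod.snd = a.hom ≫ prod.snd := Over.w m.hom.snd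
    rw [hl] at w2
    exact ⟨Over.homMk m.hom.fst.left (prod.hom_ext (by simpa using w1) (by simpa using w2)),
      FibProd.hom_ext (Over.OverMorphism.ext rfl) (Over.OverMorphism.ext hl.symm)⟩⟩
  refine isEquivOver_of _ fun η => ?_
  let g : Over U := η.obj.fst
  let g' : Over V := η.obj.snd
  have hb : g.left = g'.left := (snd_obj η).symm
  let a : Over (U ⨯ V) := Over.mk (prod.lift g.hom (eqToHom hb ≫ g'.hom))
  have e1 : a.hom ≫ prod.fst = g.hom := prod.lift_fst _ _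
  have e2 : eqToHom hb ≫ g'.hom = a.hom ≫ prod.snd := (prod.lift_snd _ _).symm
  let E₁ : ((prodToFp U V).obj a).obj.fst ≅ η.obj.fst :=
    Over.isoMk (Iso.refl g.left) (by change 𝟙 _ ≫ g.hom = a.hom ≫ prod.fst; simp [e1])
  let E₂ : ((prodToFp U V).obj a).obj.snd ≅ η.obj.snd := Over.isoMk (eqToIso hb) e2
  have hη : (selfOver (Over S)).p.IsHomLift (𝟙 g.left) η.obj.iso.hom := η.property
  have hA : (selfOver (Over S)).p.IsHomLift (𝟙 g.left) ((prodToFp U V).obj a).obj.iso.hom :=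
    ((prodToFp U V).obj a).property
  have l₁ : (overCat U).p.IsHomLift (𝟙 g.left) E₁.hom :=
    IsHomLift.of_fac' _ _ _ rfl rfl (by simp [E₁]; rfl)
  have l₂ : (overCat V).p.IsHomLift (𝟙 g.left) E₂.hom :=
    IsHomLift.of_fac' _ _ _ rfl hb.symm (by simp [E₂]; rfl)
  exact ⟨a, exists_iso_over E₁ E₂ (selfOver_hom_eq (𝟙 g.left) _ _) l₁⟩

/-- The diagonal is representable exactly when all maps from schemes are. -/
theorem repByAlgSp1_diag_iff {𝒳 : AlgSt.Cat S} :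
    RepByAlgSp1 (FibCat.diag (toSelf 𝒳)) ↔ ∀ (U : Over S) (x : overCat U ⥤ᵇ 𝒳), RepByAlgSp1 x := by
  constructor
  · intro h U x V y
    let z := pair (BasedFunctor.comp (fpFst (toSelf (overCat V)) (toSelf (overCat U))) y)
      (BasedFunctor.comp (fpSnd (toSelf (overCat V)) (toSelf (overCat U))) x)
    obtain ⟨W, e, he⟩ := h (V ⨯ U) (BasedFunctor.comp (prodToFp V U) z)
    have : (BasedFunctor.id (fp (toSelf 𝒳) (toSelf 𝒳))).toFunctor.Full :=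
      inferInstanceAs (𝟭 (fp (toSelf 𝒳) (toSelf 𝒳)).obj).Full
    have : (BasedFunctor.id (fp (toSelf 𝒳) (toSelf 𝒳))).toFunctor.Faithful :=
      inferInstanceAs (𝟭 (fp (toSelf 𝒳) (toSelf 𝒳)).obj).Faithful
    have h1 := isEquivOver_fpMap (prodToFp V U) (BasedFunctor.id 𝒳)
      (BasedFunctor.id (fp (toSelf 𝒳) (toSelf 𝒳))) (F := z) (G := FibCat.diag (toSelf 𝒳))
      (F' := BasedFunctor.comp (prodToFp V U) z) (G' := FibCat.diag (toSelf 𝒳))
      (Iso.refl _) (Iso.refl _) (isEquivOver_prodToFp V U) BasedBasic.isEquivOver_id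
    exact repByAlgSp_of_equiv' (isEquivOver_toDiagPullback y x)
      ⟨W, _, BasedBasic.IsEquivOver.comp he h1⟩
  · intro h U z
    refine repByAlgSp_of_equiv' (isEquivOver_diagPullback z)
      (repByAlgSp_fp (repByAlgSp_overCat U) (h U _ U _) ?_ _ _)
    exact repByAlgSp_of_equiv (isEquivOver_prodToFp U U) (repByAlgSp_overCat (U ⨯ U))

end Groth.Agent.Lib.AlgStack.Diag
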