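import Groth.Agent.Lib.AlgStack.Diag

/-!
# Products of representable functors
-/

set_option autoImplicit false
set_option backward.isDefEq.respectTransparency false
set_option backward.isDefEq.respectTransparency.types false

universe u

open CategoryTheory CategoryTheory.Limits AlgebraicGeometry Opposite

namespace Groth.Agent.Lib.AlgStack.Prod

open BasedBasic OfPsh Yoneda FibProd Rep Space Diag
open FibCat (IsEquivOver IsFibGrpd fp fpFst fpSnd fpLift fpIso overCat selfOver toSelf)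
open AlgSt (ofSp ofSpMap spMapOfOver toOverCat ofOverCat RepByAlgSp RepByAlgSp1 RepByAlgSpWith)

section Generic

universe v₂ u₂ v₃ u₃ v u₀

variable {C : Type u₀} [Category.{v} C] {𝒳₁ 𝒳₂ 𝒴₁ 𝒴₂ : BasedCategory.{v₂, u₂} C}
  {𝒲 : BasedCategory.{v₃, u₃} C}

/-- The product of two functors. -/
abbrev prodMap (f₁ : 𝒳₁ ⥤ᵇ 𝒴₁) (f₂ : 𝒳₂ ⥤ᵇ 𝒴₂) :
    fp (toSelf 𝒳₁) (toSelf 𝒳₂) ⥤ᵇ fp (toSelf 𝒴₁) (toSelf 𝒴₂) :=
  pair (BasedFunctor.comp (fpFst _ _) f₁) (BasedFunctor.comp (fpSnd _ _) f₂)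

/-- Base change of a product as a fibre product of base changes. -/
def prodPullback (f₁ : 𝒳₁ ⥤ᵇ 𝒴₁) (f₂ : 𝒳₂ ⥤ᵇ 𝒴₂) (y : 𝒲 ⥤ᵇ fp (toSelf 𝒴₁) (toSelf 𝒴₂)) :
    fp (fpFst (BasedFunctor.comp y (fpFst _ _)) f₁) (fpFst (BasedFunctor.comp y (fpSnd _ _)) f₂) ⥤ᵇ
      fp y (prodMap f₁ f₂) :=
  fpLift (BasedFunctor.comp (fpFst _ _) (fpFst _ _))
    (pair (BasedFunctor.comp (fpFst _ _) (fpSnd _ _)) (BasedFunctor.comp (fpSnd _ _) (fpSnd _ _)))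
    (isoToProd (BasedBasic.isoWhiskerLeft (fpFst _ _) (fpIso (BasedFunctor.comp y (fpFst _ _)) f₁))
      (BasedBasic.isoWhiskerRight (fpIso (fpFst (BasedFunctor.comp y (fpFst _ _)) f₁)
          (fpFst (BasedFunctor.comp y (fpSnd _ _)) f₂)) (BasedFunctor.comp y (fpSnd _ _)) ≪≫
        BasedBasic.isoWhiskerLeft (fpSnd _ _) (fpIso (BasedFunctor.comp y (fpSnd _ _)) f₂)))

theorem isEquivOver_prodPullback (f₁ : 𝒳₁ ⥤ᵇ 𝒴₁) (f₂ : 𝒳₂ ⥤ᵇ 𝒴₂)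
    (y : 𝒲 ⥤ᵇ fp (toSelf 𝒴₁) (toSelf 𝒴₂)) : IsEquivOver (prodPullback f₁ f₂ y) := by
  have : (prodPullback f₁ f₂ y).toFunctor.Faithful := ⟨fun {a b φ ψ} h => by
    have h0 : φ.hom.fst.hom.fst = ψ.hom.fst.hom.fst := congrArg (fun m => m.hom.fst) h
    have h1 : φ.hom.fst.hom.snd = ψ.hom.fst.hom.snd := congrArg (fun m => m.hom.snd.hom.fst) h
    have h2 : φ.hom.snd.hom.snd = ψ.hom.snd.hom.snd := congrArg (fun m => m.hom.snd.hom.snd) h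
    have w : φ.hom.fst.hom.fst ≫ b.obj.iso.hom = a.obj.iso.hom ≫ φ.hom.snd.hom.fst := φ.hom.w
    have w' : ψ.hom.fst.hom.fst ≫ b.obj.iso.hom = a.obj.iso.hom ≫ ψ.hom.snd.hom.fst := ψ.hom.w
    rw [h0, w'] at w
    exact FibProd.hom_ext (FibProd.hom_ext h0 h1)
      (FibProd.hom_ext ((cancel_epi _).1 w).symm h2)⟩
  have : (prodPullback f₁ f₂ y).toFunctor.Full := ⟨fun {a b} m => by
    let u : a.obj.fst.obj.fst ⟶ b.obj.fst.obj.fst := m.hom.fst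
    let k : a.obj.snd.obj.fst ⟶ b.obj.snd.obj.fst := a.obj.iso.inv ≫ u ≫ b.obj.iso.hom
    have w1 : (y.map u).hom.fst ≫ b.obj.fst.obj.iso.hom =
        a.obj.fst.obj.iso.hom ≫ f₁.map m.hom.snd.hom.fst := congrArg (fun m => m.hom.fst) m.hom.w
    have w2 : (y.map u).hom.snd ≫ ((y.map b.obj.iso.hom).hom.snd ≫ b.obj.snd.obj.iso.hom) =
        ((y.map a.obj.iso.hom).hom.snd ≫ a.obj.snd.obj.iso.hom) ≫ f₂.map m.hom.snd.hom.snd :=
      congrArg (fun m => m.hom.snd) m.hom.w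
    let s := BasedFunctor.comp y (fpSnd (toSelf 𝒴₁) (toSelf 𝒴₂))
    change s.map u ≫ (s.map b.obj.iso.hom ≫ b.obj.snd.obj.iso.hom) =
      (s.map a.obj.iso.hom ≫ a.obj.snd.obj.iso.hom) ≫ f₂.map m.hom.snd.hom.snd at w2
    refine ⟨FibProd.homMk (FibProd.homMk u m.hom.snd.hom.fst w1)
      (FibProd.homMk k m.hom.snd.hom.snd ?_) ?_, FibProd.hom_ext rfl (FibProd.hom_ext rfl rfl)⟩
    · change s.map k ≫ b.obj.snd.obj.iso.hom = a.obj.snd.obj.iso.hom ≫ f₂.map m.hom.snd.hom.snd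
      simp only [k, Functor.map_comp, Category.assoc, w2]
      simp [← Functor.map_comp_assoc]
    · change u ≫ b.obj.iso.hom = a.obj.iso.hom ≫ k
      simp only [k, Iso.hom_inv_id_assoc]⟩
  refine isEquivOver_of _ fun η => ?_
  let t := η.obj.fst
  let p := η.obj.snd
  let T := 𝒲.p.obj t
  let θ₁ := (fpFst (toSelf 𝒴₁) (toSelf 𝒴₂)).toFunctor.mapIso η.obj.iso
  let θ₂ := (fpSnd (toSelf 𝒴₁) (toSelf 𝒴₂)).toFunctor.mapIso η.obj.iso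
  have hη : (fp (toSelf 𝒴₁) (toSelf 𝒴₂)).p.IsHomLift (𝟙 T) η.obj.iso.hom := η.property
  have h₁ : 𝒴₁.p.IsHomLift (𝟙 T) θ₁.hom :=
    BasedFunctor.preserves_isHomLift (fpFst (toSelf 𝒴₁) (toSelf 𝒴₂)) _ _
  have h₂ : 𝒴₂.p.IsHomLift (𝟙 T) θ₂.hom :=
    BasedFunctor.preserves_isHomLift (fpSnd (toSelf 𝒴₁) (toSelf 𝒴₂)) _ _
  let a₁ : (fp (BasedFunctor.comp y (fpFst (toSelf 𝒴₁) (toSelf 𝒴₂))) f₁).obj :=
    FibProd.objMk t p.obj.fst θ₁ h₁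
  let a₂ : (fp (BasedFunctor.comp y (fpSnd (toSelf 𝒴₁) (toSelf 𝒴₂))) f₂).obj :=
    FibProd.objMk t p.obj.snd θ₂ h₂
  let a : (fp (fpFst (BasedFunctor.comp y (fpFst (toSelf 𝒴₁) (toSelf 𝒴₂))) f₁)
      (fpFst (BasedFunctor.comp y (fpSnd (toSelf 𝒴₁) (toSelf 𝒴₂))) f₂)).obj :=
    FibProd.objMk a₁ a₂ (Iso.refl t) (IsHomLift.id rfl)
  have hp : 𝒳₁.p.obj p.obj.fst = T := snd_obj η
  have hid : 𝒳₁.p.IsHomLift (𝟙 T) (𝟙 p.obj.fst) := IsHomLift.id hp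
  have hl : (selfOver C).p.IsHomLift (𝟙 T) p.obj.iso.hom := by
    have h : (selfOver C).p.IsHomLift (𝟙 (𝒳₁.p.obj p.obj.fst)) p.obj.iso.hom := p.property
    rwa [hp] at h
  have ha : (selfOver C).p.IsHomLift (𝟙 T) ((prodPullback f₁ f₂ y).obj a).obj.snd.obj.iso.hom := by
    have h : (selfOver C).p.IsHomLift (𝟙 (𝒳₁.p.obj p.obj.fst))
        ((prodPullback f₁ f₂ y).obj a).obj.snd.obj.iso.hom :=
      ((prodPullback f₁ f₂ y).obj a).obj.snd.property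
    rwa [hp] at h
  let E : ((prodPullback f₁ f₂ y).obj a).obj.snd ≅ p :=
    { hom := FibProd.homMk (𝟙 p.obj.fst) (𝟙 p.obj.snd) (by
        change 𝒳₁.p.map (𝟙 p.obj.fst) ≫ _ = _ ≫ 𝒳₂.p.map (𝟙 p.obj.snd)
        simp only [CategoryTheory.Functor.map_id]
        exact selfOver_hom_eq (𝟙 T) _ _)
      inv := FibProd.homMk (𝟙 p.obj.fst) (𝟙 p.obj.snd) (by
        change 𝒳₁.p.map (𝟙 p.obj.fst) ≫ _ = _ ≫ 𝒳₂.p.map (𝟙 p.obj.snd)
        simp only [CategoryTheory.Functor.map_id]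
        exact selfOver_hom_eq (𝟙 T) _ _)
      hom_inv_id := FibProd.hom_ext (Category.id_comp _) (Category.id_comp _)
      inv_hom_id := FibProd.hom_ext (Category.id_comp _) (Category.id_comp _) }
  refine ⟨a, exists_iso_over (Iso.refl t) E (FibProd.hom_ext ?_ ?_) (IsHomLift.id rfl)⟩
  · change (y.map (𝟙 t)).hom.fst ≫ θ₁.hom = θ₁.hom ≫ f₁.map (𝟙 p.obj.fst)
    simp [θ₁]
    exact ((congrArg (_ ≫ ·) (CategoryTheory.Functor.map_id f₁.toFunctor p.obj.fst)).trans (Category.comp_id _)).symm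
  · change (y.map (𝟙 t)).hom.snd ≫ θ₂.hom = ((y.map (𝟙 t)).hom.snd ≫ θ₂.hom) ≫ f₂.map (𝟙 p.obj.snd)
    simp [θ₂]
    exact ((congrArg (_ ≫ ·) (CategoryTheory.Functor.map_id f₂.toFunctor p.obj.snd)).trans (Category.comp_id _)).symm

end Generic

variable {S : Scheme.{u}}

/-- Products of representable functors with `P` are representable with `P`. -/
theorem repByAlgSpWith_prodMap {𝒳₁ 𝒳₂ 𝒴₁ 𝒴₂ : AlgSt.Cat S} {P : MorphismProperty (AlgSp.Sp S)}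
    (hPb : ∀ ⦃X₁ Y₁ X₂ Y₂ : AlgSp.Sp S⦄, AlgSp.IsAlgSpace X₁ → AlgSp.IsAlgSpace Y₁ →
      AlgSp.IsAlgSpace X₂ → AlgSp.IsAlgSpace Y₂ → ∀ (a : X₁ ⟶ Y₁) (b : Y₂ ⟶ Y₁) (a' : X₂ ⟶ Y₂)
      (b' : X₂ ⟶ X₁), IsPullback b' a' a b → P a → P a')
    (hPc : ∀ ⦃X Y Z : AlgSp.Sp S⦄, AlgSp.IsAlgSpace X → AlgSp.IsAlgSpace Y → AlgSp.IsAlgSpace Z →
      ∀ (a : X ⟶ Y) (b : Y ⟶ Z), P a → P b → P (a ≫ b))
    {f₁ : 𝒳₁ ⥤ᵇ 𝒴₁} {f₂ : 𝒳₂ ⥤ᵇ 𝒴₂} (hf₁ : RepByAlgSpWith P f₁) (hf₂ : RepByAlgSpWith P f₂) :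
    RepByAlgSpWith P (prodMap f₁ f₂) := by
  intro U y
  obtain ⟨A, eA, hA, hPA⟩ := hf₁ U (BasedFunctor.comp y (fpFst _ _))
  obtain ⟨B, eB, hB, hPB⟩ := hf₂ U (BasedFunctor.comp y (fpSnd _ _))
  have := BasedBasic.IsEquivOver.full (isEquivOver_toOverCat U)
  have := BasedBasic.IsEquivOver.faithful (isEquivOver_toOverCat U)
  let α := spMapOfOver (BasedFunctor.comp eA (fpFst (BasedFunctor.comp y (fpFst _ _)) f₁))
  let β := spMapOfOver (BasedFunctor.comp eB (fpFst (BasedFunctor.comp y (fpSnd _ _)) f₂))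
  have h1 := isEquivOver_fpMap (F := fpFst (BasedFunctor.comp y (fpFst _ _)) f₁)
    (G := fpFst (BasedFunctor.comp y (fpSnd _ _)) f₂) (F' := ofSpMap α) (G' := ofSpMap β)
    eA eB (toOverCat U) (isoSpMapOfOver _) (isoSpMapOfOver _) hA hB
  have sq := IsPullback.of_hasPullback α β
  have h2 := isEquivOver_sqLift (sq.map (sheafToPresheaf _ _))
  have hG : AlgSp.IsAlgSpace (pullback α β) :=
    AlgSpace.isAlgSpace_of_isPullback sq ((AlgSp.ofScheme S).obj U).property.diag A.property B.property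
  refine ⟨⟨pullback α β, hG⟩, _,
    BasedBasic.IsEquivOver.comp (BasedBasic.IsEquivOver.comp h2 h1) (isEquivOver_prodPullback f₁ f₂ y), ?_⟩
  have hfst : P (pullback.fst α β) := hPb B.property ((AlgSp.ofScheme S).obj U).property hG A.property
    β α (pullback.fst α β) (pullback.snd α β) sq.flip hPB
  have := hPc hG A.property ((AlgSp.ofScheme S).obj U).property _ α hfst hPA
  rwa [← spMapOfOver_precomp] at this

end Groth.Agent.Lib.AlgStack.Prod
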