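import Groth.Agent.Lib.AlgStack.Space
import Groth.Agent.Lib.AlgStack.Prod

/-!
# Representability of maps of presheaves and of the associated functors
-/

set_option autoImplicit false
set_option backward.isDefEq.respectTransparency false
set_option backward.isDefEq.respectTransparency.types false

universe u

open CategoryTheory CategoryTheory.Limits AlgebraicGeometry Opposite

namespace Groth.Agent.Lib.AlgStack.RepPsh1

open BasedBasic OfPsh FibProd Rep Space
open FibCat (IsEquivOver fp fpFst fpSnd overCat)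
open AlgSt (ofSp ofSpMap spMapOfOver toOverCat ofOverCat RepByAlgSpWith)

variable {S : Scheme.{u}}

/-- The base change of the functor of `a` along the functor of `ξ` is the fibre product presheaf. -/
theorem exists_equiv_of_isPullback {F G F' : AlgSp.PSp S} {a : F ⟶ G} {U : Over S}
    {fst : F' ⟶ F} {snd : F' ⟶ ((AlgSp.yon S).obj U).obj} {ξ : ((AlgSp.yon S).obj U).obj ⟶ G}
    (sq : IsPullback fst snd a ξ) (y : overCat U ⥤ᵇ Stk.ofPsh G)
    (hy : pshMap (BasedFunctor.comp (toOverCat U) y) = ξ) :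
    ∃ t : Stk.ofPsh F' ⥤ᵇ fp y (Stk.ofPshMap a), IsEquivOver t ∧
      BasedFunctor.comp t (fpFst y (Stk.ofPshMap a)) =
        BasedFunctor.comp (Stk.ofPshMap snd) (toOverCat U) := by
  have h2 := isEquivOver_sqLift sq.flip
  have : (BasedFunctor.id (Stk.ofPsh G)).toFunctor.Full :=
    inferInstanceAs (𝟭 (Stk.ofPsh G).obj).Full
  have : (BasedFunctor.id (Stk.ofPsh G)).toFunctor.Faithful :=
    inferInstanceAs (𝟭 (Stk.ofPsh G).obj).Faithful
  subst hy
  have h1 := isEquivOver_fpMap (F := y) (G := Stk.ofPshMap a)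
    (F' := Stk.ofPshMap (pshMap (BasedFunctor.comp (toOverCat U) y))) (G' := Stk.ofPshMap a)
    (toOverCat U) (BasedFunctor.id _) (BasedFunctor.id _)
    (isoOfPshMap (BasedFunctor.comp (toOverCat U) y)) (Iso.refl _) (isEquivOver_toOverCat U)
    BasedBasic.isEquivOver_id
  exact ⟨_, BasedBasic.IsEquivOver.comp h2 h1, rfl⟩

theorem repByAlgSpWith_ofPshMap {Q : MorphismProperty (AlgSp.Sp S)} {F G : AlgSp.PSp S} {a : F ⟶ G}
    (h : AlgSp.RepBySpWith Q a) : RepByAlgSpWith Q (Stk.ofPshMap a) := by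
  intro U y
  let ξ : ((AlgSp.yon S).obj U).obj ⟶ G := pshMap (BasedFunctor.comp (toOverCat U) y)
  obtain ⟨hs, hA, hQ⟩ := h ξ _ _ (IsPullback.of_hasPullback a ξ)
  obtain ⟨t, ht, hfst⟩ := exists_equiv_of_isPullback (IsPullback.of_hasPullback a ξ) y rfl
  refine ⟨⟨⟨_, hs⟩, hA⟩, t, ht, ?_⟩
  rw [hfst]
  exact (spMapOfOver_ofSpMap_toOverCat (ObjectProperty.homMk (pullback.snd a ξ) :
    (⟨_, hs⟩ : AlgSp.Sp S) ⟶ (AlgSp.yon S).obj U)).symm ▸ hQ

theorem repBySpWith_of_ofPshMap {Q : MorphismProperty (AlgSp.Sp S)} [Q.RespectsIso]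
    {F G : AlgSp.PSp S} {a : F ⟶ G} (h : RepByAlgSpWith Q (Stk.ofPshMap a)) :
    AlgSp.RepBySpWith Q a := by
  intro U ξ F' fst snd sq
  let y : overCat U ⥤ᵇ Stk.ofPsh G := BasedFunctor.comp (ofOverCat U) (Stk.ofPshMap ξ)
  obtain ⟨t, ht, hfst⟩ := exists_equiv_of_isPullback sq y (pshMap_ofPshMap ξ)
  obtain ⟨H, e, he, hQ⟩ := h U y
  obtain ⟨s, hs, -, ⟨ε⟩⟩ := BasedBasic.IsEquivOver.exists_inverse he
  let Φ : Stk.ofPsh F' ⥤ᵇ Stk.ofPsh H.obj.obj := BasedFunctor.comp t s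
  have : IsIso (pshMap Φ) := isIso_pshMap (BasedBasic.IsEquivOver.comp ht hs)
  have hF : Presheaf.IsSheaf (AlgSp.J S) F' :=
    (Presheaf.isSheaf_of_iso_iff (asIso (pshMap Φ))).2 H.obj.property
  let φ : (⟨F', hF⟩ : AlgSp.Sp S) ⟶ H.obj := ObjectProperty.homMk (pshMap Φ)
  have : IsIso ((sheafToPresheaf _ _).map φ) := (inferInstance : IsIso (pshMap Φ))
  have : IsIso φ := isIso_of_reflects_iso φ (sheafToPresheaf _ _)
  refine ⟨hF, AlgSp.IsAlgSpace.of_iso H.property (asIso φ).symm, ?_⟩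
  have key : φ ≫ spMapOfOver (BasedFunctor.comp e (fpFst y (Stk.ofPshMap a))) =
      (ObjectProperty.homMk snd : (⟨F', hF⟩ : AlgSp.Sp S) ⟶ (AlgSp.yon S).obj U) := by
    apply ObjectProperty.hom_ext
    change pshMap Φ ≫ _ = snd
    rw [spMapOfOver_hom, ← pshMap_comp]
    refine (pshMap_eq_of_iso (BasedBasic.isoWhiskerRight (BasedBasic.isoWhiskerLeft t ε)
      (BasedFunctor.comp (fpFst y (Stk.ofPshMap a)) (ofOverCat U)))).trans ?_
    change pshMap (BasedFunctor.comp (BasedFunctor.comp t (fpFst y (Stk.ofPshMap a))) (ofOverCat U)) = snd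
    rw [hfst]
    exact pshMap_ofPshMap snd
  rw [← key]
  exact (Q.cancel_left_of_respectsIso φ _).2 hQ

end Groth.Agent.Lib.AlgStack.RepPsh1
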