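import Groth.Agent.Lib.AlgStack.StkRep
import Groth.Agent.Lib.AlgStack.Diag
import Groth.Agent.Lib.AlgStack.Comp
import Groth.Agent.Lib.AlgStack.RepPsh1

/-!
# Algebraic stacks: invariance under equivalence, algebraic spaces
-/

set_option autoImplicit false
set_option backward.isDefEq.respectTransparency false
set_option backward.isDefEq.respectTransparency.types false

universe u

open CategoryTheory CategoryTheory.Limits AlgebraicGeometry Opposite

namespace Groth.Agent.Lib.AlgStack.IsAlg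

open BasedBasic Rep Space
open FibCat (IsEquivOver IsFibGrpd fp fpFst fpSnd overCat toSelf)
open AlgSt (ofSp ofSpMap toOverCat ofOverCat RepByAlgSp RepByAlgSp1 RepByAlgSpWith HasAtlas IsAlgStack IsDM)
open AlgSp (Sp yon IsAlgSpace RepWith)

variable {S : Scheme.{u}} {𝒳 𝒴 : AlgSt.Cat S}

theorem diag_of_isEquivOver {e : 𝒳 ⥤ᵇ 𝒴} (he : IsEquivOver e)
    (h : RepByAlgSp1 (FibCat.diag (toSelf 𝒳))) : RepByAlgSp1 (FibCat.diag (toSelf 𝒴)) := by
  rw [Diag.repByAlgSp1_diag_iff] at h ⊢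
  intro U x'
  obtain ⟨G, -, -, ⟨ε⟩⟩ := BasedBasic.IsEquivOver.exists_inverse he
  let i : BasedFunctor.comp (BasedFunctor.comp x' G) e ≅ BasedFunctor.comp (BasedFunctor.id _) x' :=
    BasedBasic.isoWhiskerLeft x' ε
  exact (repByAlgSp1_iff_of_isEquivOver BasedBasic.isEquivOver_id he i).2 (h U _)

theorem hasAtlas_of_isEquivOver {P : MorphismProperty (Sp S)} {e : 𝒳 ⥤ᵇ 𝒴} (he : IsEquivOver e)
    (h : HasAtlas P 𝒳) : HasAtlas P 𝒴 := by
  obtain ⟨U, x, h1, h2⟩ := h
  exact ⟨U, BasedFunctor.comp x e,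
    (repByAlgSpWith_iff_of_isEquivOver (f := BasedFunctor.comp x e) (f' := x)
      BasedBasic.isEquivOver_id he (Iso.refl _)).2 h1,
    (repByAlgSpWith_iff_of_isEquivOver (f := BasedFunctor.comp x e) (f' := x)
      BasedBasic.isEquivOver_id he (Iso.refl _)).2 h2⟩

theorem isAlgStack_of_isEquivOver {e : 𝒳 ⥤ᵇ 𝒴} (he : IsEquivOver e)
    (h : IsAlgStack Scheme.fppfPrecoverage 𝒳) : IsAlgStack Scheme.fppfPrecoverage 𝒴 :=
  ⟨StkBasic.isStack_of_isEquivOver he h.isStack, diag_of_isEquivOver he h.diag,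
    hasAtlas_of_isEquivOver he h.atlas⟩

theorem isDM_of_isEquivOver {e : 𝒳 ⥤ᵇ 𝒴} (he : IsEquivOver e)
    (h : IsDM Scheme.fppfPrecoverage 𝒳) : IsDM Scheme.fppfPrecoverage 𝒴 :=
  ⟨isAlgStack_of_isEquivOver he h.1, hasAtlas_of_isEquivOver he h.2⟩

/-- The atlas of an algebraic space, as a functor from a slice, has every property of representable
etale surjective maps. -/
theorem repByAlgSpWith_atlas {P : MorphismProperty (Sp S)} {F : Sp S} {U : Over S}
    {p : (yon S).obj U ⟶ F} (he : RepWith @Etale p) (hs : RepWith @Surjective p)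
    (hP : ∀ ⦃G : Sp S⦄ ⦃V : Over S⦄ (q : G ⟶ (yon S).obj V), RepWith @Etale q → RepWith @Surjective q → P q) :
    RepByAlgSpWith P (BasedFunctor.comp (ofOverCat U) (ofSpMap p)) := by
  have h : AlgSp.RepBySpWith P p.hom := (AlgSp.repBySpWith_hom_iff P p).2 fun V ξ F' fst snd sq => by
    have e := AlgSpace.repWith_baseChange sq he
    have s := AlgSpace.repWith_baseChange sq hs
    exact ⟨AlgSpace.isAlgSpace_of_representable e.rep (IsAlgSpace.yon_obj V), hP snd e s⟩
  exact (repByAlgSpWith_iff_of_isEquivOver (f' := ofSpMap p)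
    (isEquivOver_toOverCat U) BasedBasic.isEquivOver_id (eqToIso rfl)).2
    (RepPsh1.repByAlgSpWith_ofPshMap h)

theorem locP_smooth {F G : Sp S} {f : F ⟶ G} (hf : RepWith @Etale f) : AlgSp.LocP @Smooth f :=
  Comp.locP_of_repWith_etale (fun _ _ g hg => by have := hg; infer_instance) hf

theorem isEtaleMor {F G : Sp S} {f : F ⟶ G} (hf : RepWith @Etale f) : AlgSp.IsEtaleMor f := by
  have : MorphismProperty.IsStableUnderComposition @Etale.{u} :=
    (inferInstance : MorphismProperty.IsMultiplicative @Etale.{u}).toIsStableUnderComposition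
  exact fun _ φ hφ => AlgSpace.repWith_comp hφ hf

theorem diag_of_repByAlgSp (h : RepByAlgSp 𝒳) : RepByAlgSp1 (FibCat.diag (toSelf 𝒳)) :=
  Diag.repByAlgSp1_diag_iff.2 fun U x V y =>
    Diag.repByAlgSp_fp (Diag.repByAlgSp_overCat V) (Diag.repByAlgSp_overCat U) h y x

theorem isAlgStack_ofSp (F : AlgSp.Space S) : IsAlgStack Scheme.fppfPrecoverage (ofSp F.obj) := by
  obtain ⟨U, p, he, hs⟩ := F.property.atlas
  exact ⟨StkRep.isStack_ofSp F.obj, diag_of_repByAlgSp (Diag.repByAlgSp_ofSp F),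
    U, _, repByAlgSpWith_atlas he hs (fun _ _ q hq _ => locP_smooth hq),
    repByAlgSpWith_atlas he hs (fun _ _ q _ hq => AlgSpace.surjective_map hq)⟩

theorem isDM_ofSp (F : AlgSp.Space S) : IsDM Scheme.fppfPrecoverage (ofSp F.obj) := by
  obtain ⟨U, p, he, hs⟩ := F.property.atlas
  exact ⟨isAlgStack_ofSp F, U, _, repByAlgSpWith_atlas he hs (fun _ _ q hq _ => isEtaleMor hq),
    repByAlgSpWith_atlas he hs (fun _ _ q _ hq => AlgSpace.surjective_map hq)⟩

theorem isDM_of_repByAlgSp (h : RepByAlgSp 𝒳) : IsDM Scheme.fppfPrecoverage 𝒳 := by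
  obtain ⟨F, e, he⟩ := h
  exact isDM_of_isEquivOver he (isDM_ofSp F)

end Groth.Agent.Lib.AlgStack.IsAlg
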