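import Groth.Agent.Lib.AlgStack.Source

/-!
# 2-fibre products of Deligne–Mumford stacks for an arbitrary topology
-/

set_option autoImplicit false
set_option backward.isDefEq.respectTransparency false
set_option backward.isDefEq.respectTransparency.types false

universe u

open CategoryTheory CategoryTheory.Limits AlgebraicGeometry Opposite

namespace Groth.Agent.Lib.AlgStack.FpDM

open BasedBasic Yoneda FibProd Rep Space CompRep IsAlgFp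
open FibCat (IsEquivOver IsFibGrpd fp fpFst fpSnd overCat toSelf)
open AlgSt (ofSp ofSpMap ofOverCat toOverCat RepByAlgSp RepByAlgSp1 RepByAlgSpWith)
open AlgSp (Sp yon IsAlgSpace RepWith)

variable {S : Scheme.{u}} {𝒳 𝒴 𝒵 : AlgSt.Cat S} {P : MorphismProperty (Sp S)}

/-- Atlases with a detected property pass to 2-fibre products. -/
theorem hasAtlas_fp (hP : RespectsIsoSp P)
    (hPc : ∀ ⦃X Y Z : Sp S⦄, IsAlgSpace X → IsAlgSpace Y → IsAlgSpace Z →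
      ∀ (a : X ⟶ Y) (b : Y ⟶ Z), P a → P b → P (a ≫ b))
    (hd : Detected P) (hPet : ∀ ⦃G F : Sp S⦄ (q : G ⟶ F), RepWith @Etale q → P q)
    (h𝒳 : IsFibGrpd 𝒳.p) (h𝒴 : IsFibGrpd 𝒴.p) (h𝒵 : IsFibGrpd 𝒵.p)
    (aX : AlgSt.HasAtlas P 𝒳) (aY : AlgSt.HasAtlas P 𝒴)
    (hΔ : RepByAlgSp1 (FibCat.diag (toSelf 𝒵))) (f : 𝒳 ⥤ᵇ 𝒵) (g : 𝒴 ⥤ᵇ 𝒵) :
    AlgSt.HasAtlas P (fp f g) := by
  obtain ⟨U, x, hx1, hx2⟩ := aX
  obtain ⟨V, y, hy1, hy2⟩ := aY
  have hV : IsFibGrpd (overCat V).p := isFibGrpd_overCat V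
  let s1 := BasedFunctor.comp (fpFst (fpFst f g) x) (fpSnd f g)
  have hK1 : IsFibGrpd (fp (fpFst f g) x).p :=
    isFibGrpd_fp (isFibGrpd_fp h𝒳 h𝒴 h𝒵) (isFibGrpd_overCat U) h𝒳
  have hK2 : IsFibGrpd (fp s1 y).p := isFibGrpd_fp hK1 hV h𝒴
  let xf := BasedFunctor.comp x f
  let yg := BasedFunctor.comp y g
  obtain ⟨A, eA, hA⟩ := Diag.repByAlgSp1_diag_iff.1 hΔ V yg U xf
  have : (BasedFunctor.id 𝒴).toFunctor.Full := inferInstanceAs (𝟭 𝒴.obj).Full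
  have : (BasedFunctor.id 𝒴).toFunctor.Faithful := inferInstanceAs (𝟭 𝒴.obj).Faithful
  let e1 := BasedFunctor.comp (FibProd.swap (fpFst f g) x) (Rep.pasteBase x f g)
  have he1 : IsEquivOver e1 :=
    BasedBasic.IsEquivOver.comp (isEquivOver_swap _ _) (isEquivOver_pasteBase x f g)
  have h2 := isEquivOver_fpMap e1 (BasedFunctor.id (overCat V)) (BasedFunctor.id 𝒴)
    (F := fpSnd xf g) (G := y) (F' := s1) (G' := y) (eqToIso rfl) (Iso.refl _) he1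
    BasedBasic.isEquivOver_id
  obtain ⟨W, e, he⟩ := repByAlgSp_of_equiv'
    (BasedBasic.IsEquivOver.comp h2 (isEquivOver_pasteComp xf g y)) ⟨A, eA, hA⟩
  obtain ⟨W', p, hpe, hps⟩ := W.property.atlas
  let a := BasedFunctor.comp (ofOverCat W') (BasedFunctor.comp (ofSpMap p) e)
  have atl : ∀ {R : MorphismProperty (Sp S)}, (∀ ⦃G : Sp S⦄ ⦃T : Over S⦄ (q : G ⟶ (yon S).obj T),
      RepWith @Etale q → RepWith @Surjective q → R q) → RepByAlgSpWith R a := fun hR =>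
    (repByAlgSpWith_iff_of_isEquivOver (f' := BasedFunctor.comp (ofOverCat W') (ofSpMap p)) (f := a)
      BasedBasic.isEquivOver_id he (Iso.refl _)).2 (IsAlg.repByAlgSpWith_atlas hpe hps hR)
  exact ⟨W', _,
    repByAlgSpWith_comp_of_detected hP hPc hd (isFibGrpd_overCat W') hK1
      (repByAlgSpWith_comp_of_detected hP hPc hd (isFibGrpd_overCat W') hK2
        (atl fun _ _ q hq _ => hPet q hq) (repByAlgSpWith_fpFst s1 hy1))
      (repByAlgSpWith_fpFst (fpFst f g) hx1),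
    comp_surjective (isFibGrpd_overCat W') hK1
      (comp_surjective (isFibGrpd_overCat W') hK2
        (atl fun _ _ q _ hq => AlgSpace.surjective_map hq) (repByAlgSpWith_fpFst s1 hy2))
      (repByAlgSpWith_fpFst (fpFst f g) hx2)⟩

theorem comp_isEtaleMor ⦃X Y Z : Sp S⦄ (_ : IsAlgSpace X) (_ : IsAlgSpace Y) (_ : IsAlgSpace Z)
    (a : X ⟶ Y) (b : Y ⟶ Z) (ha : AlgSp.IsEtaleMor a) (hb : AlgSp.IsEtaleMor b) :
    AlgSp.IsEtaleMor (a ≫ b) := fun _ φ hφ => by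
  rw [← Category.assoc]; exact hb _ (ha φ hφ)

/-- Deligne–Mumford stacks for any topology are closed under 2-fibre products. -/
theorem isDM_fp {K : Precoverage Scheme.{u}} (h𝒳 : AlgSt.IsDM K 𝒳) (h𝒴 : AlgSt.IsDM K 𝒴)
    (h𝒵 : AlgSt.IsDM K 𝒵) (f : 𝒳 ⥤ᵇ 𝒵) (g : 𝒴 ⥤ᵇ 𝒵) : AlgSt.IsDM K (fp f g) := by
  have hX := h𝒳.1.isStack.1
  have hY := h𝒴.1.isStack.1
  have hZ := h𝒵.1.isStack.1
  have hS := SourceDescent.Scheme.smooth.{u}
  refine ⟨⟨StkFp.isStack_fp h𝒳.1.isStack h𝒴.1.isStack ⟨hZ, fun _ R hR => ?_⟩,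
    DiagRel.diag_fp hX hY hZ h𝒳.1.diag h𝒴.1.diag h𝒵.1.diag f g, ?_⟩, ?_⟩
  · have : (Stk.resSieve R 𝒵).IsEquivalence := h𝒵.1.isStack.2 R hR
    exact ⟨inferInstance, inferInstance⟩
  · exact hasAtlas_fp (respectsIsoSp_locP hS)
      (fun _ _ _ hA hB hC _ _ ha hb => AlgSpMor.LocP.locP_comp hS hA hB hC ha hb) (detected_locP hS)
      (fun _ _ q hq => IsAlg.locP_smooth hq) hX hY hZ h𝒳.1.atlas h𝒴.1.atlas h𝒵.1.diag f g
  · exact hasAtlas_fp Source.respectsIsoSp_isEtaleMor comp_isEtaleMor Source.detected_isEtaleMor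
      (fun _ _ q hq => IsAlg.isEtaleMor hq) hX hY hZ h𝒳.2 h𝒴.2 h𝒵.1.diag f g

end Groth.Agent.Lib.AlgStack.FpDM
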