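import Groth.Agent.Lib.AlgStack.Descend

/-!
# Properties local on the source; etale morphisms
-/

set_option autoImplicit false
set_option backward.isDefEq.respectTransparency false
set_option backward.isDefEq.respectTransparency.types false

universe u

open CategoryTheory CategoryTheory.Limits AlgebraicGeometry Opposite

namespace Groth.Agent.Lib.AlgStack.Source

open BasedBasic FibProd Rep Space IsAlgFp CompRep
open FibCat (IsEquivOver IsFibGrpd fp fpFst fpSnd overCat toSelf)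
open AlgSt (ofSp ofSpMap spMapOfOver RepByAlgSp1 RepByAlgSpWith)
open AlgSp (Sp yon IsAlgSpace RepWith LocP IsEtaleMor)

variable {S : Scheme.{u}} {𝒳 𝒴 𝒵 : AlgSt.Cat S} {P : MorphismProperty (Sp S)}

theorem isEtaleMor_iff {X Y : Sp S} (hX : IsAlgSpace X) (hY : IsAlgSpace Y) (f : X ⟶ Y) :
    IsEtaleMor f ↔ LocP @Etale f := by
  have hE := SourceDescent.Scheme.etale.{u}
  have : MorphismProperty.ContainsIdentities (@Etale : MorphismProperty Scheme.{u}) :=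
    ⟨fun X => inferInstanceAs (Etale (𝟙 X))⟩
  refine ⟨fun hf U V a b h ha hb w => ?_, fun hl U φ hφ => ?_⟩
  · exact AlgSpMor.LocP.locP_of_repWith hE (hf a ha) (𝟙 _) b h (AlgSp.repWith_id _ U) hb
      ((Category.id_comp _).trans w)
  · exact AlgSpMor.LocP.repWith_of_locP hE hY (AlgSpace.representable_from_yon hY.diag (φ ≫ f))
      (AlgSpMor.LocP.locP_comp hE (IsAlgSpace.yon_obj U) hX hY
        (AlgSpMor.LocP.locP_of_repWith hE hφ) hl)

theorem respectsIsoSp_isEtaleMor : RespectsIsoSp (IsEtaleMor : MorphismProperty (Sp S)) :=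
  fun _ _ _ e a hF hF' hG ha => (isEtaleMor_iff hF' hG _).2
    (respectsIsoSp_locP SourceDescent.Scheme.etale e a hF hF' hG ((isEtaleMor_iff hF hG a).1 ha))

theorem detected_isEtaleMor : Detected (IsEtaleMor : MorphismProperty (Sp S)) := fun G F b hG hF h =>
  (isEtaleMor_iff hG hF b).2 (detected_locP SourceDescent.Scheme.etale b hG hF fun U ξ P' p q sq =>
    (isEtaleMor_iff (AlgSpace.isAlgSpace_of_isPullback sq hF.diag hG (IsAlgSpace.yon_obj U))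
      (IsAlgSpace.yon_obj U) q).1 (h ξ p q sq))

/-- The base change of a representable functor to a space, with all its detected properties. -/
theorem exists_rep_detected (h𝒳 : IsFibGrpd 𝒳.p) (h𝒴 : IsFibGrpd 𝒴.p) {f : 𝒳 ⥤ᵇ 𝒴}
    (hf : RepByAlgSp1 f) (F : AlgSp.Space S) (g : ofSp F.obj ⥤ᵇ 𝒴) :
    ∃ (G : AlgSp.Space S) (b : G.obj ⟶ F.obj) (t : ofSp G.obj ⥤ᵇ fp g f), IsEquivOver t ∧
      Nonempty (BasedFunctor.comp t (fpFst g f) ≅ ofSpMap b) ∧
      ∀ {Q : MorphismProperty (Sp S)}, RespectsIsoSp Q → Detected Q → RepByAlgSpWith Q f → Q b := by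
  obtain ⟨G, b, t, ht, hβ, hprop⟩ := exists_rep_toSpace h𝒳 h𝒴 hf g
  exact ⟨G, b, t, ht, hβ, fun {Q} hQ hd hQf => hd b G.property F.property
    fun U ξ P' p q sq => hprop Q hQ hQf ξ p q sq⟩

/-- If `y ∘ x` has a property local on the source for a covering notion that `x` satisfies, so has `y`. -/
theorem repByAlgSpWith_of_source (hP : RespectsIsoSp P) {τ : AlgSp.CovNotion S}
    (hl : AlgSp.IsLocalOnSource τ P) (h𝒳 : IsFibGrpd 𝒳.p) (h𝒴 : IsFibGrpd 𝒴.p)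
    {x : 𝒳 ⥤ᵇ 𝒴} {y : 𝒴 ⥤ᵇ 𝒵} (hy : RepByAlgSp1 y) (hx : RepByAlgSp1 x)
    (hτ : ∀ (F G : AlgSp.Space S) (b : G.obj ⟶ F.obj),
      (∀ {Q : MorphismProperty (Sp S)}, RespectsIsoSp Q → Detected Q → RepByAlgSpWith Q x → Q b) →
        τ (fun _ : PUnit.{u + 1} => G.obj) (fun _ => b))
    (h : RepByAlgSpWith P (BasedFunctor.comp x y)) : RepByAlgSpWith P y := by
  intro U w
  obtain ⟨F, e, he⟩ := hy U w
  refine ⟨F, e, he, ?_⟩
  obtain ⟨G, b, t, ht, ⟨β⟩, hb⟩ := exists_rep_detected h𝒳 h𝒴 hx F (BasedFunctor.comp e (fpSnd w y))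
  have : (BasedFunctor.id 𝒴).toFunctor.Full := inferInstanceAs (𝟭 𝒴.obj).Full
  have : (BasedFunctor.id 𝒴).toFunctor.Faithful := inferInstanceAs (𝟭 𝒴.obj).Faithful
  have h1 := isEquivOver_fpMap e (BasedFunctor.id 𝒳) (BasedFunctor.id 𝒴)
    (F := fpSnd w y) (G := x) (F' := BasedFunctor.comp e (fpSnd w y)) (G' := x)
    (Iso.refl _) (Iso.refl _) he BasedBasic.isEquivOver_id
  have key := prop_of_rep hP h G.property
    (BasedBasic.IsEquivOver.comp ht (BasedBasic.IsEquivOver.comp h1 (isEquivOver_pasteComp w y x)))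
  change P (spMapOfOver (BasedFunctor.comp (BasedFunctor.comp t (fpFst _ x))
    (BasedFunctor.comp e (fpFst w y)))) at key
  rw [spMapOfOver_eq_of_iso
    (BasedBasic.isoWhiskerRight β (BasedFunctor.comp e (fpFst w y))), spMapOfOver_precomp] at key
  exact (hl _ _ F.property (fun _ => G.property) (hτ F G b hb) _ (IsAlgSpace.yon_obj U)).2 fun _ => key

theorem repByAlgSpWith_of_smSource (hP : RespectsIsoSp P) (hl : AlgSp.IsLocalOnSource AlgSp.IsSmCover P)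
    (h𝒳 : IsFibGrpd 𝒳.p) (h𝒴 : IsFibGrpd 𝒴.p) {x : 𝒳 ⥤ᵇ 𝒴} {y : 𝒴 ⥤ᵇ 𝒵} (hy : RepByAlgSp1 y)
    (h₁ : RepByAlgSpWith (LocP @Smooth) x) (h₂ : RepByAlgSpWith AlgSp.IsSurjectiveMor x)
    (h : RepByAlgSpWith P (BasedFunctor.comp x y)) : RepByAlgSpWith P y :=
  repByAlgSpWith_of_source hP hl h𝒳 h𝒴 hy (repByAlgSp1_of_repByAlgSpWith h₁) (fun F G b hb =>
    ⟨fun _ => hb (respectsIsoSp_locP SourceDescent.Scheme.smooth) (detected_locP SourceDescent.Scheme.smooth) h₁,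
      fun z => ⟨⟨⟩, hb respectsIsoSp_surjective detected_surjective h₂ z⟩⟩) h

theorem repByAlgSpWith_of_etSource (hP : RespectsIsoSp P) (hl : AlgSp.IsLocalOnSource AlgSp.IsEtCover P)
    (h𝒳 : IsFibGrpd 𝒳.p) (h𝒴 : IsFibGrpd 𝒴.p) {x : 𝒳 ⥤ᵇ 𝒴} {y : 𝒴 ⥤ᵇ 𝒵} (hy : RepByAlgSp1 y)
    (h₁ : RepByAlgSpWith IsEtaleMor x) (h₂ : RepByAlgSpWith AlgSp.IsSurjectiveMor x)
    (h : RepByAlgSpWith P (BasedFunctor.comp x y)) : RepByAlgSpWith P y :=
  repByAlgSpWith_of_source hP hl h𝒳 h𝒴 hy (repByAlgSp1_of_repByAlgSpWith h₁) (fun F G b hb =>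
    ⟨fun _ => hb respectsIsoSp_isEtaleMor detected_isEtaleMor h₁,
      fun z => ⟨⟨⟩, hb respectsIsoSp_surjective detected_surjective h₂ z⟩⟩) h

theorem repByAlgSpWith_of_fppfSource (hP : RespectsIsoSp P)
    (hl : AlgSp.IsLocalOnSource AlgSp.IsFppfCover P)
    (h𝒳 : IsFibGrpd 𝒳.p) (h𝒴 : IsFibGrpd 𝒴.p) {x : 𝒳 ⥤ᵇ 𝒴} {y : 𝒴 ⥤ᵇ 𝒵} (hy : RepByAlgSp1 y)
    (h₁ : RepByAlgSpWith (LocP @Flat) x) (h₂ : RepByAlgSpWith (LocP @LocallyOfFinitePresentation) x)
    (h₃ : RepByAlgSpWith AlgSp.IsSurjectiveMor x)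
    (h : RepByAlgSpWith P (BasedFunctor.comp x y)) : RepByAlgSpWith P y :=
  repByAlgSpWith_of_source hP hl h𝒳 h𝒴 hy (repByAlgSp1_of_repByAlgSpWith h₁) (fun F G b hb =>
    ⟨fun _ => ⟨hb (respectsIsoSp_locP SourceDescent.Scheme.flat) (detected_locP SourceDescent.Scheme.flat) h₁,
        hb (respectsIsoSp_locP SourceDescent.Scheme.locallyOfFinitePresentation)
          (detected_locP SourceDescent.Scheme.locallyOfFinitePresentation) h₂⟩,
      fun z => ⟨⟨⟩, hb respectsIsoSp_surjective detected_surjective h₃ z⟩⟩) h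

end Groth.Agent.Lib.AlgStack.Source
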