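import Groth.Agent.Lib.AlgStack.SpMapProp
import Groth.Agent.Lib.AlgStack.RepOver
import Groth.Agent.Lib.AlgStack.Source
import Groth.Agent.Lib.AlgStack.FpDM

/-!
# Scheme charts of a 2-fibre product and functors between slices

* `mapOf`, `isoMapOf`: a functor between slices is a morphism of schemes.
* `prop_overMap_*`: properties of `overMap h` read on `h`.
* `exists_chart`: an étale surjective scheme chart of `fp z a`; `exists_point`: it reaches every pair.
-/

set_option autoImplicit false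
set_option backward.isDefEq.respectTransparency false
set_option backward.isDefEq.respectTransparency.types false

universe u

open CategoryTheory CategoryTheory.Limits AlgebraicGeometry Opposite

namespace Groth.Agent.Lib.AlgStack.ChartLift

open BasedBasic Yoneda FibProd Rep Space CompRep IsAlgFp OfPsh
open FibCat (IsEquivOver IsFibGrpd fp fpFst fpSnd fpLift fpIso overCat)
open AlgSt (ofSp ofSch ofSpMap ofOverCat toOverCat overMap RepByAlgSp1 RepByAlgSpWith)
open AlgSp (Sp yon IsAlgSpace RepWith)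

variable {S : Scheme.{u}} {T P : Over S}

/-- The morphism of schemes of a functor between slices. -/
noncomputable def mapOf (m : overCat T ⥤ᵇ overCat P) : T ⟶ P :=
  ((yon S).map_surjective (SpMapProp.ofPoint (BasedFunctor.comp m (ofOverCat P)))).choose

theorem yon_map_mapOf (m : overCat T ⥤ᵇ overCat P) :
    (yon S).map (mapOf m) = SpMapProp.ofPoint (BasedFunctor.comp m (ofOverCat P)) :=
  ((yon S).map_surjective (SpMapProp.ofPoint (BasedFunctor.comp m (ofOverCat P)))).choose_spec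

/-- A functor between slices is the one of its morphism. -/
noncomputable def isoMapOf (m : overCat T ⥤ᵇ overCat P) : m ≅ overMap (mapOf m) :=
  eqToIso rfl ≪≫
    BasedBasic.isoWhiskerRight (SpMapProp.isoOfPoint (BasedFunctor.comp m (ofOverCat P))) (toOverCat P) ≪≫
      eqToIso (by rw [← yon_map_mapOf]; rfl)

theorem eq_of_iso {a b : T ⟶ P} (e : overMap a ≅ overMap b) : a = b := by
  refine (yon S).map_injective ?_
  have h := SpMapProp.ofPoint_eq_of_iso (BasedBasic.isoWhiskerRight e (ofOverCat P))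
  rw [SpMapProp.ofPoint_overMap, SpMapProp.ofPoint_overMap] at h
  have h1 : SpMapProp.ofPoint (ofOverCat P) = 𝟙 ((yon S).obj P) := by
    rw [show ofOverCat P = BasedFunctor.comp (ofOverCat P) (ofSpMap (𝟙 ((yon S).obj P))) from rfl,
      SpMapProp.ofPoint_atlas]
  rwa [h1, Category.comp_id, Category.comp_id] at h

/-- Composition of slice functors. -/
noncomputable def overMapComp {Q : Over S} (a : T ⟶ P) (b : P ⟶ Q) :
    BasedFunctor.comp (overMap a) (overMap b) ≅ overMap (a ≫ b) :=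
  BasedNatIso.mkNatIso
    (NatIso.ofComponents
      (fun h : Over T => Over.isoMk (Iso.refl h.left)
        ((Category.id_comp _).trans (Category.assoc h.hom a b).symm))
      (fun f => Over.OverMorphism.ext (by exact (Category.comp_id _).trans (Category.id_comp _).symm)))
    (fun h => IsHomLift.of_fac' _ _ _ rfl rfl (by simp; rfl))

theorem prop_overMap {R : MorphismProperty (Sp S)} (hP : RespectsIsoSp R) (hd : Detected R)
    {h : T ⟶ P} (hh : RepByAlgSpWith R (overMap h)) : R ((yon S).map h) :=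
  SpMapProp.prop_of_ofSpMap hP hd (IsAlgSpace.yon_obj T) (IsAlgSpace.yon_obj P)
    ((repByAlgSpWith_iff_of_isEquivOver (f := overMap h) (f' := ofSpMap ((yon S).map h))
      (isEquivOver_toOverCat T) (isEquivOver_toOverCat P) (eqToIso rfl)).1 hh)

theorem etale_of_overMap {h : T ⟶ P} (hh : RepByAlgSpWith AlgSp.IsEtaleMor (overMap h)) :
    Etale h.left :=
  (AlgSp.isEtaleMor_yon_map_iff h).1
    (prop_overMap Source.respectsIsoSp_isEtaleMor Source.detected_isEtaleMor hh)

theorem smooth_of_overMap {h : T ⟶ P} (hh : RepByAlgSpWith (AlgSp.LocP @Smooth) (overMap h)) :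
    Smooth h.left :=
  AlgSp.locP_yon_map (prop_overMap (respectsIsoSp_locP SourceDescent.Scheme.smooth)
    (detected_locP SourceDescent.Scheme.smooth) hh)

theorem surjective_of_overMap {h : T ⟶ P} (hh : RepByAlgSpWith AlgSp.IsSurjectiveMor (overMap h)) :
    Surjective h.left := ⟨fun v => by
  obtain ⟨z, hz⟩ := prop_overMap respectsIsoSp_surjective detected_surjective hh (AlgSp.Points.ofScheme P v)
  obtain ⟨T', g, s, rfl⟩ := AlgSpace.exists_ofPt_eq z
  obtain ⟨m, rfl⟩ := (yon S).map_surjective g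
  refine ⟨m.left s, ?_⟩
  have e := congrArg (AlgSp.Points.toScheme P) hz
  erw [AlgSp.Points.map_ofPt, ← Functor.map_comp, AlgSp.Points.toScheme_ofPt,
    AlgSp.Points.toScheme_ofScheme, Over.comp_left, Scheme.Hom.comp_apply] at e
  exact e⟩

variable {𝒜 : AlgSt.Cat S}

/-- An étale surjective scheme chart of `fp z a`. -/
theorem exists_atlas (z : overCat T ⥤ᵇ 𝒜) {a : overCat P ⥤ᵇ 𝒜} (ha : RepByAlgSp1 a) :
    ∃ (W : Over S) (w : overCat W ⥤ᵇ fp z a),
      RepByAlgSpWith AlgSp.IsEtaleMor w ∧ RepByAlgSpWith AlgSp.IsSurjectiveMor w := by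
  obtain ⟨A, e, he⟩ := ha T z
  obtain ⟨W, p, hpe, hps⟩ := A.property.atlas
  have atl : ∀ {R : MorphismProperty (Sp S)}, (∀ ⦃G : Sp S⦄ ⦃X : Over S⦄ (q : G ⟶ (yon S).obj X),
      RepWith @Etale q → RepWith @Surjective q → R q) →
      RepByAlgSpWith R (BasedFunctor.comp (ofOverCat W) (BasedFunctor.comp (ofSpMap p) e)) := fun hR =>
    (repByAlgSpWith_iff_of_isEquivOver (f' := BasedFunctor.comp (ofOverCat W) (ofSpMap p))
      BasedBasic.isEquivOver_id he (Iso.refl _)).2 (IsAlg.repByAlgSpWith_atlas hpe hps hR)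
  exact ⟨W, _, atl fun _ _ q hq _ => IsAlg.isEtaleMor hq, atl fun _ _ q _ hq => AlgSpace.surjective_map hq⟩

/-- A scheme chart of `fp z a` with the properties of `a` and of `z` on its two maps. -/
theorem exists_chart (h𝒜 : IsFibGrpd 𝒜.p) (z : overCat T ⥤ᵇ 𝒜) {a : overCat P ⥤ᵇ 𝒜}
    (ha : RepByAlgSp1 a) :
    ∃ (W : Over S) (c : W ⟶ T) (l : W ⟶ P) (w : overCat W ⥤ᵇ fp z a),
      RepByAlgSpWith AlgSp.IsEtaleMor w ∧ RepByAlgSpWith AlgSp.IsSurjectiveMor w ∧
      Nonempty (BasedFunctor.comp w (fpFst z a) ≅ overMap c) ∧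
      Nonempty (BasedFunctor.comp w (fpSnd z a) ≅ overMap l) ∧
      (RepByAlgSpWith AlgSp.IsEtaleMor a → Etale c.left) ∧
      (RepByAlgSpWith (AlgSp.LocP @Smooth) a → Smooth c.left) ∧
      (RepByAlgSpWith AlgSp.IsSurjectiveMor a → Surjective c.left) ∧
      (RepByAlgSpWith AlgSp.IsEtaleMor z → Etale l.left) ∧
      (RepByAlgSpWith (AlgSp.LocP @Smooth) z → Smooth l.left) ∧
      (RepByAlgSpWith AlgSp.IsSurjectiveMor z → Surjective l.left) := by
  obtain ⟨W, w, hwe, hws⟩ := exists_atlas z ha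
  let c := mapOf (BasedFunctor.comp w (fpFst z a))
  let l := mapOf (BasedFunctor.comp w (fpSnd z a))
  have ec := isoMapOf (BasedFunctor.comp w (fpFst z a))
  have el := isoMapOf (BasedFunctor.comp w (fpSnd z a))
  have hK : IsFibGrpd (fp z a).p := isFibGrpd_fp (isFibGrpd_overCat T) (isFibGrpd_overCat P) h𝒜
  have hW := isFibGrpd_overCat W
  have hsm := SourceDescent.Scheme.smooth.{u}
  have hwsm : RepByAlgSpWith (AlgSp.LocP @Smooth) w := by
    obtain ⟨A, e, he⟩ := ha T z
    exact repByAlgSpWith_mono hwe fun F G f hF hG hf U V a b h ha hb e => by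
      have : Etale h.left := (Source.isEtaleMor_iff hF hG f).1 hf a b h ha hb e
      infer_instance
  refine ⟨W, c, l, w, hwe, hws, ⟨ec⟩, ⟨el⟩, fun h => ?_, fun h => ?_, fun h => ?_, fun h => ?_,
    fun h => ?_, fun h => ?_⟩
  · exact etale_of_overMap (repByAlgSpWith_of_iso ec (repByAlgSpWith_comp_of_detected
      Source.respectsIsoSp_isEtaleMor FpDM.comp_isEtaleMor Source.detected_isEtaleMor hW hK hwe
      (repByAlgSpWith_fpFst z h)))
  · exact smooth_of_overMap (repByAlgSpWith_of_iso ec (comp_locP hsm hW hK hwsm (repByAlgSpWith_fpFst z h)))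
  · exact surjective_of_overMap (repByAlgSpWith_of_iso ec (comp_surjective hW hK hws (repByAlgSpWith_fpFst z h)))
  · exact etale_of_overMap (repByAlgSpWith_of_iso el (repByAlgSpWith_comp_of_detected
      Source.respectsIsoSp_isEtaleMor FpDM.comp_isEtaleMor Source.detected_isEtaleMor hW hK hwe
      (RepOver.repByAlgSpWith_fpSnd a h)))
  · exact smooth_of_overMap (repByAlgSpWith_of_iso el (comp_locP hsm hW hK hwsm (RepOver.repByAlgSpWith_fpSnd a h)))
  · exact surjective_of_overMap (repByAlgSpWith_of_iso el (comp_surjective hW hK hws (RepOver.repByAlgSpWith_fpSnd a h)))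

/-- A chart of `fp z a` reaches every compatible pair of points. -/
theorem exists_point (h𝒜 : IsFibGrpd 𝒜.p) {z : overCat T ⥤ᵇ 𝒜} {a : overCat P ⥤ᵇ 𝒜}
    {W : Over S} {c : W ⟶ T} {l : W ⟶ P} {w : overCat W ⥤ᵇ fp z a}
    (hw : RepByAlgSpWith AlgSp.IsSurjectiveMor w)
    (ec : BasedFunctor.comp w (fpFst z a) ≅ overMap c) (el : BasedFunctor.comp w (fpSnd z a) ≅ overMap l)
    {T₀ : Over S} (q₁ : T₀ ⟶ T) (q₂ : T₀ ⟶ P)
    (e : BasedFunctor.comp (overMap q₁) z ≅ BasedFunctor.comp (overMap q₂) a) (t : ↥T₀.left) :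
    ∃ v : ↥W.left, c.left v = q₁.left t ∧ l.left v = q₂.left t := by
  let Z := fpLift (F := z) (G := a) (overMap q₁) (overMap q₂) e
  obtain ⟨W₀, c₀, l₀, w₀, -, -, ⟨e₁⟩, ⟨e₂⟩, -, -, hs, -⟩ := exists_chart
    (isFibGrpd_fp (isFibGrpd_overCat T) (isFibGrpd_overCat P) h𝒜) Z (repByAlgSp1_of_repByAlgSpWith hw)
  obtain ⟨v₀, hv₀⟩ := (hs hw).surj t
  have E : BasedFunctor.comp (overMap c₀) Z ≅ BasedFunctor.comp (overMap l₀) w :=
    BasedBasic.isoWhiskerRight e₁.symm Z ≪≫ BasedBasic.isoWhiskerLeft w₀ (fpIso Z w) ≪≫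
      BasedBasic.isoWhiskerRight e₂ w
  have h1 : c₀ ≫ q₁ = l₀ ≫ c := eq_of_iso ((overMapComp c₀ q₁).symm ≪≫
    BasedBasic.isoWhiskerRight E (fpFst z a) ≪≫
      BasedBasic.isoWhiskerLeft (overMap l₀) ec ≪≫ overMapComp l₀ c)
  have h2 : c₀ ≫ q₂ = l₀ ≫ l := eq_of_iso ((overMapComp c₀ q₂).symm ≪≫
    BasedBasic.isoWhiskerRight E (fpSnd z a) ≪≫
      BasedBasic.isoWhiskerLeft (overMap l₀) el ≪≫ overMapComp l₀ l)
  refine ⟨l₀.left v₀, ?_, ?_⟩
  · rw [← hv₀, ← Scheme.Hom.comp_apply, ← Scheme.Hom.comp_apply, ← Over.comp_left, ← Over.comp_left, h1]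
  · rw [← hv₀, ← Scheme.Hom.comp_apply, ← Scheme.Hom.comp_apply, ← Over.comp_left, ← Over.comp_left, h2]

end Groth.Agent.Lib.AlgStack.ChartLift
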