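import Groth.Agent.Lib.AlgStack.ChartLift
import Groth.Agent.Lib.AlgSpace.OpenSubExists
import Groth.Agent.H14.Sep.Cover

/-!
# Étale and surjective morphisms to a stack: cancellation on the source, descent along an atlas
-/

set_option autoImplicit false
set_option backward.isDefEq.respectTransparency false
set_option backward.isDefEq.respectTransparency.types false

universe u

open CategoryTheory CategoryTheory.Limits AlgebraicGeometry Opposite

namespace Groth.Agent.Lib.AlgStack.SliceEtale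

open BasedBasic Yoneda FibProd Rep Space Source IsAlgFp CompRep
open FibCat (IsEquivOver IsFibGrpd fp fpFst fpSnd fpLift fpIso overCat)
open AlgSt (ofSp ofSpMap ofOverCat toOverCat overMap spMapOfOver RepByAlgSp1 RepByAlgSpWith)
open AlgSp (Sp yon IsAlgSpace RepWith LocP IsEtaleMor Points)
open H14.Sep

variable {S : Scheme.{u}} {𝒳 𝒴 𝒵 : AlgSt.Cat S}

theorem etale_locP {f : 𝒳 ⥤ᵇ 𝒴} (h : RepByAlgSpWith IsEtaleMor f) :
    RepByAlgSpWith (LocP @Etale) f :=
  repByAlgSpWith_mono h fun _ _ a hF hG ha => (isEtaleMor_iff hF hG a).1 ha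

theorem of_locP_etale {f : 𝒳 ⥤ᵇ 𝒴} (h : RepByAlgSpWith (LocP @Etale) f) :
    RepByAlgSpWith IsEtaleMor f :=
  repByAlgSpWith_mono h fun _ _ a hF hG ha => (isEtaleMor_iff hF hG a).2 ha

theorem flat_of_smooth {f : 𝒳 ⥤ᵇ 𝒴} (h : RepByAlgSpWith (LocP @Smooth) f) :
    RepByAlgSpWith (LocP @Flat) f :=
  repByAlgSpWith_mono h fun _ _ _ _ _ ha U V a b k h1 h2 w => by
    have : Smooth k.left := ha a b k h1 h2 w
    infer_instance

theorem lfp_of_smooth {f : 𝒳 ⥤ᵇ 𝒴} (h : RepByAlgSpWith (LocP @Smooth) f) :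
    RepByAlgSpWith (LocP @LocallyOfFinitePresentation) f :=
  repByAlgSpWith_mono h fun _ _ _ _ _ ha U V a b k h1 h2 w => by
    have : Smooth k.left := ha a b k h1 h2 w
    infer_instance

theorem descends_etale : Cover.Descends (LocP @Etale (S := S)) := fun _ _ _ _ _ hG hs h =>
  Cover.locP_descend SourceDescent.Scheme.etale hG hs (fun _ _ _ _ _ _ _ _ sq h1 h2 h3 h' =>
    MorphismProperty.of_isPullback_of_descendsAlong (P := @Etale)
      (Q := @Surjective ⊓ @Flat ⊓ @LocallyOfFinitePresentation) sq.flip ⟨⟨h3, h1⟩, h2⟩ h') h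

/-- The covering map of a representation along a cover of the source. -/
theorem exists_cover_rep (h𝒳 : IsFibGrpd 𝒳.p) (h𝒴 : IsFibGrpd 𝒴.p) {x : 𝒳 ⥤ᵇ 𝒴} {y : 𝒴 ⥤ᵇ 𝒵}
    (hx : RepByAlgSp1 x) {U : Over S} {w : overCat U ⥤ᵇ 𝒵} {F : AlgSp.Space S}
    {e : ofSp F.obj ⥤ᵇ fp w y} (he : IsEquivOver e) :
    ∃ (G : AlgSp.Space S) (b : G.obj ⟶ F.obj),
      (∀ {Q : MorphismProperty (Sp S)}, RespectsIsoSp Q → Detected Q → RepByAlgSpWith Q x → Q b) ∧
      ∀ {P : MorphismProperty (Sp S)}, RespectsIsoSp P → RepByAlgSpWith P (BasedFunctor.comp x y) →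
        P (b ≫ spMapOfOver (BasedFunctor.comp e (fpFst w y))) := by
  obtain ⟨G, b, t, ht, ⟨β⟩, hb⟩ :=
    exists_rep_detected h𝒳 h𝒴 hx F (BasedFunctor.comp e (fpSnd w y))
  refine ⟨G, b, hb, fun hP h => ?_⟩
  have : (BasedFunctor.id 𝒴).toFunctor.Full := inferInstanceAs (𝟭 𝒴.obj).Full
  have : (BasedFunctor.id 𝒴).toFunctor.Faithful := inferInstanceAs (𝟭 𝒴.obj).Faithful
  have h1 := isEquivOver_fpMap e (BasedFunctor.id 𝒳) (BasedFunctor.id 𝒴)
    (F := fpSnd w y) (G := x) (F' := BasedFunctor.comp e (fpSnd w y)) (G' := x)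
    (Iso.refl _) (Iso.refl _) he BasedBasic.isEquivOver_id
  have key := prop_of_rep hP h G.property
    (BasedBasic.IsEquivOver.comp ht (BasedBasic.IsEquivOver.comp h1 (isEquivOver_pasteComp w y x)))
  rw [← spMapOfOver_precomp, ← spMapOfOver_eq_of_iso
    (BasedBasic.isoWhiskerRight β (BasedFunctor.comp e (fpFst w y)))]
  exact key

/-- Étaleness can be checked after an étale surjective cover of the source. -/
theorem etale_of_cover (h𝒳 : IsFibGrpd 𝒳.p) (h𝒴 : IsFibGrpd 𝒴.p) {x : 𝒳 ⥤ᵇ 𝒴} {y : 𝒴 ⥤ᵇ 𝒵}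
    (hy : RepByAlgSp1 y) (h₁ : RepByAlgSpWith IsEtaleMor x)
    (h₂ : RepByAlgSpWith AlgSp.IsSurjectiveMor x)
    (h : RepByAlgSpWith IsEtaleMor (BasedFunctor.comp x y)) : RepByAlgSpWith IsEtaleMor y := by
  intro U w
  obtain ⟨F, e, he⟩ := hy U w
  refine ⟨F, e, he, ?_⟩
  obtain ⟨G, b, hb, hP⟩ := exists_cover_rep h𝒳 h𝒴 (repByAlgSp1_of_repByAlgSpWith h₁) he
  have hbe := hb respectsIsoSp_isEtaleMor detected_isEtaleMor h₁
  have hbs := hb respectsIsoSp_surjective detected_surjective h₂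
  have hγ := hP respectsIsoSp_isEtaleMor h
  obtain ⟨W, c, hc, hcs⟩ := G.property.atlas
  have hE := SourceDescent.Scheme.etale.{u}
  have hW := IsAlgSpace.yon_obj (S := S) W
  have hcb : LocP @Etale (c ≫ b) := AlgSpMor.LocP.locP_comp hE hW G.property F.property
    (AlgSpMor.LocP.locP_of_repWith hE hc) ((isEtaleMor_iff G.property F.property b).1 hbe)
  have hr := AlgSpace.representable_from_yon F.property.diag (c ≫ b)
  refine (isEtaleMor_iff F.property (IsAlgSpace.yon_obj U) _).2 (AlgSpMor.LocP.locP_of_precomp hE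
    F.property (IsAlgSpace.yon_obj U) (AlgSpMor.LocP.repWith_of_locP hE F.property hr hcb)
    (AlgSpace.repWith_surjective_of_points hr fun z => ?_) ?_)
  · obtain ⟨g, rfl⟩ := hbs z
    obtain ⟨q, rfl⟩ := AlgSpace.surjective_map hcs g
    exact ⟨q, Points.map_comp _ _ _⟩
  · rw [Category.assoc]
    exact AlgSpMor.LocP.locP_comp hE hW G.property (IsAlgSpace.yon_obj U)
      (AlgSpMor.LocP.locP_of_repWith hE hc) ((isEtaleMor_iff G.property (IsAlgSpace.yon_obj U) _).1 hγ)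

/-- Surjectivity can be checked after any representable cover of the source. -/
theorem surjective_of_cover (h𝒳 : IsFibGrpd 𝒳.p) (h𝒴 : IsFibGrpd 𝒴.p) {x : 𝒳 ⥤ᵇ 𝒴} {y : 𝒴 ⥤ᵇ 𝒵}
    (hy : RepByAlgSp1 y) (hx : RepByAlgSp1 x)
    (h : RepByAlgSpWith AlgSp.IsSurjectiveMor (BasedFunctor.comp x y)) :
    RepByAlgSpWith AlgSp.IsSurjectiveMor y := by
  intro U w
  obtain ⟨F, e, he⟩ := hy U w
  refine ⟨F, e, he, fun z => ?_⟩
  obtain ⟨G, b, -, hP⟩ := exists_cover_rep h𝒳 h𝒴 hx he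
  obtain ⟨g, hg⟩ := hP respectsIsoSp_surjective h z
  exact ⟨Points.map b g, by rw [← Points.map_comp, hg]⟩

/-- A functor is étale if its base change to an atlas is. -/
theorem etale_of_atlas {W : Over S} {w : overCat W ⥤ᵇ 𝒴} (hw : RepByAlgSpWith (LocP @Smooth) w)
    (hws : RepByAlgSpWith AlgSp.IsSurjectiveMor w) {d : 𝒳 ⥤ᵇ 𝒴} (hd : RepByAlgSp1 d)
    (h : RepByAlgSpWith IsEtaleMor (fpFst w d)) : RepByAlgSpWith IsEtaleMor d := by
  have hE := SourceDescent.Scheme.etale.{u}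
  refine of_locP_etale (Cover.rep_descend (SpProps.stableBC_locP hE) (SpProps.fromSchemes_locP hE)
    descends_etale hd fun T z => ?_)
  obtain ⟨T', s, hs, u, ⟨α⟩⟩ := Cover.exists_lift (flat_of_smooth hw) (lfp_of_smooth hw) hws z
  exact ⟨T', s, hs, (repByAlgSpWith_iff_of_isEquivOver
    (f := fpFst (BasedFunctor.comp (Lft.vOf s) z) d) (f' := fpFst u (fpFst w d))
    (BasedBasic.IsEquivOver.comp (isEquivOver_pasteBase u w d) (isEquivOver_congrLeft α.symm d))
    BasedBasic.isEquivOver_id (eqToIso rfl)).2 (repByAlgSpWith_fpFst u (etale_locP h))⟩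

theorem stableBC_surjective : SpProps.StableBC (AlgSp.IsSurjectiveMor (S := S)) :=
  fun _ _ _ _ _ _ _ _ a b a' b' sq ha y => by
    obtain ⟨x, hx⟩ := ha (Points.map b y)
    obtain ⟨z, -, hz⟩ := AlgSpace.exists_of_isPullback sq x y hx
    exact ⟨z, hz⟩

theorem descends_surjective : Cover.Descends (AlgSp.IsSurjectiveMor (S := S)) :=
  fun G T' T γ s _ hs h p => by
    obtain ⟨q, rfl⟩ := AlgSpace.surjective_map hs.surj p
    obtain ⟨g, rfl⟩ := h q
    exact ⟨Points.map (pullback.fst γ _) g, by rw [← Points.map_comp, ← Points.map_comp, pullback.condition]⟩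

/-- A functor is surjective if its base change to an atlas is. -/
theorem surjective_of_atlas {W : Over S} {w : overCat W ⥤ᵇ 𝒴} (hw : RepByAlgSpWith (LocP @Smooth) w)
    (hws : RepByAlgSpWith AlgSp.IsSurjectiveMor w) {d : 𝒳 ⥤ᵇ 𝒴} (hd : RepByAlgSp1 d)
    (h : RepByAlgSpWith AlgSp.IsSurjectiveMor (fpFst w d)) :
    RepByAlgSpWith AlgSp.IsSurjectiveMor d := by
  refine Cover.rep_descend stableBC_surjective detected_surjective descends_surjective hd fun T z => ?_
  obtain ⟨T', s, hs, u, ⟨α⟩⟩ := Cover.exists_lift (flat_of_smooth hw) (lfp_of_smooth hw) hws z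
  exact ⟨T', s, hs, (repByAlgSpWith_iff_of_isEquivOver
    (f := fpFst (BasedFunctor.comp (Lft.vOf s) z) d) (f' := fpFst u (fpFst w d))
    (BasedBasic.IsEquivOver.comp (isEquivOver_pasteBase u w d) (isEquivOver_congrLeft α.symm d))
    BasedBasic.isEquivOver_id (eqToIso rfl)).2 (repByAlgSpWith_fpFst u h)⟩

end Groth.Agent.Lib.AlgStack.SliceEtale
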