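import Groth.Agent.H14.Chart.Basic
import Groth.Agent.H14.Sep.Cover
import Groth.Agent.Lib.AlgStack.ChartLift
import Groth.Agent.Lib.AlgStack.SliceEtale
import Groth.Agent.Lib.AlgSpMor.QuasiAffineDescent
import Groth.Agent.Lib.AlgSpMor.DiagCharts

/-!
# Quasi-affine diagonal

Over an affine base, the diagonal of an algebraic stack is quasi-affine exactly when some smooth
surjective chart is quasi-affine on the affine opens of its source.
-/

set_option autoImplicit false
set_option backward.isDefEq.respectTransparency false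
set_option backward.isDefEq.respectTransparency.types false

universe u

open CategoryTheory CategoryTheory.Limits AlgebraicGeometry

namespace Groth.Agent.Lib.AlgStack.QaDiag

open Groth.Agent.Lib.AlgStack Groth.Agent.Lib.AlgSpace
open Groth.Agent.H14.Sep
open Groth.Agent.Lib.AlgSpMor
open Groth.Agent.Lib.AlgSpMor.QuasiAffineDescent
open FibCat (IsEquivOver fp fpFst fpSnd fpLift fpIso diag overCat IsFibGrpd toSelf)
open AlgSt (ofSp ofSpMap ofOverCat toOverCat spMapOfOver overMap RepByAlgSp1 RepByAlgSpWith IsAlgStack)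
open AlgSp (Sp yon IsAlgSpace LocP RepWith)
open Lib.AlgStack.Diag (isoToProd overMap' prodToFp)

variable {S : Scheme.{u}}

instance : (qaHom.{u}).IsStableUnderComposition := ⟨fun f g hf hg => by
  rw [qaHom_iff] at hf hg ⊢
  have := hf.1
  have := hg.1
  exact ⟨inferInstance, H54.IndQAff.comp hf.2 hg.2⟩⟩

theorem isQuasiAffineMor_eq :
    (AlgSp.IsQuasiAffineMor (S := S)) = RepWith qaHom :=
  funext fun _ => funext fun _ => funext fun _ => propext isQuasiAffineMor_iff

/-- Being quasi-affine descends along fppf covering families of a scheme. -/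
theorem descend_family {G : Sp S} {T : Over S} (γ : G ⟶ (yon S).obj T) {ι : Type u}
    (W : ι → Over S) (w : ∀ i, W i ⟶ T) (hfl : ∀ i, Flat (w i).left)
    (hfp : ∀ i, LocallyOfFinitePresentation (w i).left)
    (hsurj : ∀ x : ↥T.left, ∃ i y, (w i).left y = x)
    (h : ∀ i, RepWith qaHom (pullback.snd γ ((yon S).map (w i)))) : RepWith qaHom γ := by
  have := isLocalAtTarget_qaHom.{u}
  choose V g c sq hg using fun i => repWith_exists (h i) (𝟙 ((yon S).obj (W i)))
  have sq' : ∀ i, IsPullback (c i ≫ pullback.fst γ ((yon S).map (w i))) ((yon S).map (g i)) γ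
      ((yon S).map (w i)) := fun i => by
    simpa using (sq i).paste_horiz (IsPullback.of_hasPullback γ ((yon S).map (w i)))
  obtain ⟨b, G', t, ht, hpb, sqb⟩ := RepDescent.exists_isPullback_sigma sq'
  have hG : qaHom G'.left := IsZariskiLocalAtTarget.of_openCover (P := qaHom)
    (sigmaOpenCover fun i ↦ (W i).left) fun i ↦ by
      show qaHom (pullback.snd G'.left (sigmaOverι W i).left)
      rw [← (IsPullback.of_hasPullback _ _).isoIsPullback_hom_snd _ _ (hpb i)]
      exact (MorphismProperty.cancel_left_of_respectsIso qaHom _ _).2 (hg i)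
  haveI : Flat t.left := by
    refine (IsZariskiLocalAtSource.iff_of_openCover (P := @Flat)
      (sigmaOpenCover fun i ↦ (W i).left)).2 fun i ↦ ?_
    show Flat ((sigmaOverι W i).left ≫ t.left)
    rw [← Over.comp_left, ht]
    exact hfl i
  haveI : LocallyOfFinitePresentation t.left := by
    refine (IsZariskiLocalAtSource.iff_of_openCover (P := @LocallyOfFinitePresentation)
      (sigmaOpenCover fun i ↦ (W i).left)).2 fun i ↦ ?_
    show LocallyOfFinitePresentation ((sigmaOverι W i).left ≫ t.left)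
    rw [← Over.comp_left, ht]
    exact hfp i
  haveI : Surjective t.left := ⟨fun x ↦ by
    obtain ⟨i, y, rfl⟩ := hsurj x
    refine ⟨(sigmaOverι W i).left y, ?_⟩
    rw [← Scheme.Hom.comp_apply, ← Over.comp_left, ht]⟩
  have hcov : fppfCover t.left := fppfCover_mk t.left
  have sq1 : IsPullback b ((yon S).map G') γ ((yon S).map t ≫ 𝟙 _) := by
    rw [Category.comp_id]; exact sqb
  obtain ⟨Z, z, fst, k, sqW, sqk⟩ := RepDescent.exists_pullback_of_cover hcov sq1
    (fun D hD ↦ effective_qaHom t.left hcov D (by rw [hD]; exact hG))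
  have hz : qaHom z.left := RepDescent.property_of_cover qaHom sqk hcov hG
  refine repWith_of_exists fun T₁ ξ => ?_
  obtain ⟨m, rfl⟩ := (yon S).map_surjective ξ
  have sqp := IsPullback.of_hasPullback z m
  refine ⟨Limits.pullback z m, Limits.pullback.snd z m,
    (yon S).map (Limits.pullback.fst z m) ≫ fst, ?_, ?_⟩
  · simpa using (isPullback_yon sqp).paste_horiz sqW
  · exact MorphismProperty.of_isPullback (P := qaHom) (sqp.map (Over.forget S)) hz

variable {𝒳 : AlgSt.Cat S} {𝒴 : AlgSt.Cat S}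

/-- A functor is quasi-affine as soon as it is so after fppf covering families of the test schemes. -/
theorem rep_of_family {d : 𝒳 ⥤ᵇ 𝒴} (hr : RepByAlgSp1 d)
    (h : ∀ (T : Over S) (z : overCat T ⥤ᵇ 𝒴), ∃ (ι : Type u) (W : ι → Over S) (w : ∀ i, W i ⟶ T),
      (∀ i, Flat (w i).left) ∧ (∀ i, LocallyOfFinitePresentation (w i).left) ∧
      (∀ x : ↥T.left, ∃ i y, (w i).left y = x) ∧
      ∀ i, RepByAlgSpWith (RepWith qaHom) (fpFst (BasedFunctor.comp (Lft.vOf (w i)) z) d)) :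
    RepByAlgSpWith (RepWith qaHom) d := fun T z => by
  obtain ⟨G, e, he⟩ := hr T z
  refine ⟨G, e, he, ?_⟩
  obtain ⟨ι, W, w, hfl, hfp, hsurj, hC⟩ := h T z
  set γ : G.obj ⟶ (yon S).obj T := spMapOfOver (BasedFunctor.comp e (fpFst z d))
  refine descend_family γ W w hfl hfp hsurj fun i => ?_
  let s := w i
  have hD : RepByAlgSpWith (RepWith qaHom) (fpFst (Lft.vOf s) (fpFst z d)) :=
    (Rep.repByAlgSpWith_iff_of_isEquivOver (f := fpFst (BasedFunctor.comp (Lft.vOf s) z) d)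
      (f' := fpFst (Lft.vOf s) (fpFst z d))
      (Rep.isEquivOver_pasteBase (Lft.vOf s) z d) BasedBasic.isEquivOver_id
      (eqToIso (Rep.pasteBase_fst (Lft.vOf s) z d).symm)).1 (hC i)
  have sq := IsPullback.of_hasPullback γ ((yon S).map s)
  have := BasedBasic.IsEquivOver.full (Rep.isEquivOver_toOverCat T)
  have := BasedBasic.IsEquivOver.faithful (Rep.isEquivOver_toOverCat T)
  have h1 := Space.isEquivOver_sqLift (sq.map (sheafToPresheaf _ _)).flip
  have h2 := FibProd.isEquivOver_fpMap (toOverCat (W i)) e (toOverCat T)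
    (F := Lft.vOf s) (G := fpFst z d) (F' := ofSpMap ((yon S).map s)) (G' := ofSpMap γ)
    (Iso.refl _) (Rep.isoSpMapOfOver (BasedFunctor.comp e (fpFst z d)))
    (Rep.isEquivOver_toOverCat (W i)) he
  have hE : RepByAlgSpWith (RepWith qaHom) (ofSpMap (pullback.snd γ ((yon S).map s))) :=
    (Rep.repByAlgSpWith_iff_of_isEquivOver (f := fpFst (Lft.vOf s) (fpFst z d))
      (f' := ofSpMap (pullback.snd γ ((yon S).map s))) (BasedBasic.IsEquivOver.comp h1 h2)
      (Rep.isEquivOver_toOverCat (W i)) (Iso.refl _)).1 hD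
  exact Rep.prop_of_ofSpMap (Rep.respectsIsoSp (SpProps2.stableBC_repWith qaHom))
    (SpProps2.fromSchemes_repWith qaHom)
    (Lib.AlgSpace.isAlgSpace_of_isPullback sq (IsAlgSpace.yon_obj T).diag G.property
      (IsAlgSpace.yon_obj (W i))) (IsAlgSpace.yon_obj (W i)) _ hE

/-- For two charts from affine schemes, the second quasi-affine, the base change of the diagonal to
the product of the charts is quasi-affine. -/
theorem rep_fpFst_pair [IsAffine S] {V V' : Over S} [IsAffine V.left] [IsAffine V'.left]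
    (a : overCat V ⥤ᵇ 𝒳) (b : overCat V' ⥤ᵇ 𝒳) (hb : RepByAlgSpWith (RepWith qaHom) b) :
    RepByAlgSpWith (RepWith qaHom)
      (fpFst (Lib.AlgStack.Diag.pair (BasedFunctor.comp (fpFst (toSelf (overCat V)) (toSelf (overCat V'))) a)
        (BasedFunctor.comp (fpSnd (toSelf (overCat V)) (toSelf (overCat V'))) b))
        (diag (toSelf 𝒳))) := by
  obtain ⟨R, e, he, hR⟩ := hb V a
  let D := Lib.AlgStack.Diag.toDiagPullback a b
  let sqab := Lib.AlgStack.Diag.pair (BasedFunctor.comp (fpFst (toSelf (overCat V)) (toSelf (overCat V'))) a)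
    (BasedFunctor.comp (fpSnd (toSelf (overCat V)) (toSelf (overCat V'))) b)
  let Φ := BasedFunctor.comp e (BasedFunctor.comp D (fpFst sqab (diag (toSelf 𝒳))))
  obtain ⟨i, hi, ⟨η⟩, ⟨ε⟩⟩ :=
    BasedBasic.IsEquivOver.exists_inverse (Lib.AlgStack.Diag.isEquivOver_prodToFp V V')
  let γ : R.obj ⟶ (yon S).obj (V ⨯ V') := spMapOfOver (BasedFunctor.comp Φ i)
  have h1 : γ ≫ (yon S).map prod.fst = spMapOfOver (BasedFunctor.comp e (fpFst a b)) := by
    rw [← Lft.spMapOfOver_overMap']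
    exact Rep.spMapOfOver_eq_of_iso (BasedBasic.isoWhiskerLeft Φ
      (BasedBasic.isoWhiskerRight ε (fpFst (toSelf (overCat V)) (toSelf (overCat V')))))
  have hR' : RepWith qaHom (γ ≫ (yon S).map prod.fst) := by rw [h1]; exact hR
  obtain ⟨Q, q, fst, sqQ, hq⟩ := repWith_exists hR' (𝟙 ((yon S).obj V))
  have : IsIso fst := sqQ.isIso_fst_of_isIso
  obtain ⟨r, hr⟩ := (yon S).map_surjective (fst ≫ γ)
  have hVV : IsAffine (V ⨯ V').left := by
    have : IsAffineHom (prod.fst : V ⨯ V' ⟶ V).left :=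
      MorphismProperty.of_isPullback (P := @IsAffineHom)
        (DiagCharts.isPullback_prod_left V V').flip inferInstance
    exact isAffine_of_isAffineHom (prod.fst : V ⨯ V' ⟶ V).left
  have hrq : qaHom r.left := qaHom_of_isQuasiAffine r.left (isQuasiAffine_of_qaHom hq)
  have hγ : RepWith qaHom γ := by
    rw [show γ = inv fst ≫ (yon S).map r by rw [hr, IsIso.inv_hom_id_assoc]]
    exact (MorphismProperty.cancel_left_of_respectsIso (RepWith qaHom) (inv fst) _).2
      ((AlgSp.repWith_yon_map_iff _ r).2 hrq)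
  have h2 : RepByAlgSpWith (RepWith qaHom) (ofSpMap γ) :=
    Rep.ofSpMap_of R.property (IsAlgSpace.yon_obj _) γ fun U ξ P' p q sq =>
      repWith_baseChange sq hγ
  have hb : IsEquivOver (BasedFunctor.comp (toOverCat (V ⨯ V')) (prodToFp V V')) :=
    BasedBasic.IsEquivOver.comp (Rep.isEquivOver_toOverCat _)
      (Lib.AlgStack.Diag.isEquivOver_prodToFp V V')
  exact (Rep.repByAlgSpWith_iff_of_isEquivOver (f := fpFst sqab (diag (toSelf 𝒳)))
    (f' := ofSpMap γ)
    (BasedBasic.IsEquivOver.comp he (Lib.AlgStack.Diag.isEquivOver_toDiagPullback a b)) hb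
    ((BasedBasic.isoWhiskerRight (Rep.isoSpMapOfOver (BasedFunctor.comp Φ i)) (prodToFp V V')).symm ≪≫
      BasedBasic.isoWhiskerLeft Φ ε)).2 h2

/-- The two presentations of the functor of slices of a morphism. -/
noncomputable def vOfIso {T' T : Over S} (s : T' ⟶ T) : Lft.vOf s ≅ overMap s := eqToIso rfl

/-- A functor between slices restricted to an open through which it factors. -/
noncomputable def restrictIso {T U O V : Over S} (u : overCat T ⥤ᵇ overCat U) (o : O ⟶ T) (v : V ⟶ U)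
    (m : O ⟶ V) (h : m ≫ v = o ≫ ChartLift.mapOf u) :
    BasedFunctor.comp (overMap m) (overMap v) ≅ BasedFunctor.comp (Lft.vOf o) u :=
  ChartLift.overMapComp m v ≪≫ eqToIso (by rw [h]) ≪≫
    (ChartLift.overMapComp o (ChartLift.mapOf u)).symm ≪≫
      (BasedBasic.isoWhiskerRight (vOfIso o) (overMap (ChartLift.mapOf u))).symm ≪≫
        BasedBasic.isoWhiskerLeft (Lft.vOf o) (ChartLift.isoMapOf u).symm

/-- If a smooth surjective chart is quasi-affine on affine opens, so is the diagonal. -/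
theorem diag_of_cover [IsAffine S] (h𝒳 : IsAlgStack Scheme.fppfPrecoverage 𝒳) {U : Over S}
    (x : overCat U ⥤ᵇ 𝒳) (hx : RepByAlgSpWith (LocP @Smooth) x)
    (hxs : RepByAlgSpWith AlgSp.IsSurjectiveMor x)
    (hV : ∀ (V : U.left.Opens), IsAffineOpen V → RepByAlgSpWith (RepWith qaHom)
      (BasedFunctor.comp (overMap (Over.homMk V.ι rfl : Over.mk (V.ι ≫ U.hom) ⟶ U)) x)) :
    RepByAlgSpWith (RepWith qaHom) (diag (toSelf 𝒳)) := by
  refine rep_of_family h𝒳.diag fun T z => ?_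
  have hfl := SliceEtale.flat_of_smooth hx
  have hlfp := SliceEtale.lfp_of_smooth hx
  obtain ⟨T₁, s₁, hs₁, u₁₀, ⟨α₁⟩⟩ :=
    Cover.exists_lift hfl hlfp hxs (BasedFunctor.comp z (fpFst (toSelf 𝒳) (toSelf 𝒳)))
  obtain ⟨T₂, s₂, hs₂, u₂, ⟨α₂⟩⟩ := Cover.exists_lift hfl hlfp hxs
    (BasedFunctor.comp (Lft.vOf s₁) (BasedFunctor.comp z (fpSnd (toSelf 𝒳) (toSelf 𝒳))))
  let s := s₂ ≫ s₁
  let u₁ := BasedFunctor.comp (Lft.vOf s₂) u₁₀
  let β₁ : BasedFunctor.comp u₁ x ≅
      BasedFunctor.comp (Lft.vOf s) (BasedFunctor.comp z (fpFst (toSelf 𝒳) (toSelf 𝒳))) :=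
    (BasedBasic.isoWhiskerLeft (Lft.vOf s₂) α₁).symm ≪≫ BasedBasic.isoWhiskerRight
      (eqToIso (Lft.vOf_comp s₂ s₁)) (BasedFunctor.comp z (fpFst (toSelf 𝒳) (toSelf 𝒳)))
  let β₂ : BasedFunctor.comp u₂ x ≅
      BasedFunctor.comp (Lft.vOf s) (BasedFunctor.comp z (fpSnd (toSelf 𝒳) (toSelf 𝒳))) :=
    α₂.symm ≪≫ BasedBasic.isoWhiskerRight (eqToIso (Lft.vOf_comp s₂ s₁))
      (BasedFunctor.comp z (fpSnd (toSelf 𝒳) (toSelf 𝒳)))
  let m₁ := ChartLift.mapOf u₁
  let m₂ := ChartLift.mapOf u₂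
  let Oc : U.left.affineOpens × U.left.affineOpens → T₂.left.Opens := fun k =>
    m₁.left ⁻¹ᵁ k.1.1 ⊓ m₂.left ⁻¹ᵁ k.2.1
  let o : ∀ k, (Over.mk ((Oc k).ι ≫ T₂.hom) : Over S) ⟶ T₂ := fun k => Over.homMk (Oc k).ι rfl
  have hs : Flat s.left ∧ LocallyOfFinitePresentation s.left ∧ Surjective s.left := by
    have := hs₁.1; have := hs₁.2.1; have := hs₁.2.2
    have := hs₂.1; have := hs₂.2.1; have := hs₂.2.2
    refine ⟨?_, ?_, ?_⟩ <;> (rw [Over.comp_left]; infer_instance)
  refine ⟨_, fun k => Over.mk ((Oc k).ι ≫ T₂.hom), fun k => o k ≫ s, fun k => ?_, fun k => ?_,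
    fun t => ?_, fun k => ?_⟩
  · have := hs.1
    show Flat ((Oc k).ι ≫ s.left)
    infer_instance
  · have := hs.2.1
    show LocallyOfFinitePresentation ((Oc k).ι ≫ s.left)
    infer_instance
  · have := hs.2.2
    obtain ⟨t₂, rfl⟩ := s.left.surjective t
    obtain ⟨V₁, hV₁, ht₁, -⟩ :=
      exists_isAffineOpen_mem_and_subset (U := ⊤) (x := m₁.left t₂) trivial
    obtain ⟨V₂, hV₂, ht₂, -⟩ :=
      exists_isAffineOpen_mem_and_subset (U := ⊤) (x := m₂.left t₂) trivial
    exact ⟨(⟨V₁, hV₁⟩, ⟨V₂, hV₂⟩), ⟨t₂, ht₁, ht₂⟩, rfl⟩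
  · obtain ⟨⟨V₁, hV₁⟩, ⟨V₂, hV₂⟩⟩ := k
    set k : U.left.affineOpens × U.left.affineOpens := (⟨V₁, hV₁⟩, ⟨V₂, hV₂⟩)
    let Vo₁ : Over S := Over.mk (V₁.ι ≫ U.hom)
    let Vo₂ : Over S := Over.mk (V₂.ι ≫ U.hom)
    let v₁ : Vo₁ ⟶ U := Over.homMk V₁.ι rfl
    let v₂ : Vo₂ ⟶ U := Over.homMk V₂.ι rfl
    have : IsAffine Vo₁.left := hV₁
    have : IsAffine Vo₂.left := hV₂
    let n₁ : Over.mk ((Oc k).ι ≫ T₂.hom) ⟶ Vo₁ :=
      Over.homMk (m₁.left.resLE V₁ (Oc k) inf_le_left) (by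
        show m₁.left.resLE V₁ (Oc k) _ ≫ V₁.ι ≫ U.hom = (Oc k).ι ≫ T₂.hom
        rw [Scheme.Hom.resLE_comp_ι_assoc]
        exact congrArg ((Oc k).ι ≫ ·) (Over.w m₁))
    let n₂ : Over.mk ((Oc k).ι ≫ T₂.hom) ⟶ Vo₂ :=
      Over.homMk (m₂.left.resLE V₂ (Oc k) inf_le_right) (by
        show m₂.left.resLE V₂ (Oc k) _ ≫ V₂.ι ≫ U.hom = (Oc k).ι ≫ T₂.hom
        rw [Scheme.Hom.resLE_comp_ι_assoc]
        exact congrArg ((Oc k).ι ≫ ·) (Over.w m₂))
    have hn₁ : n₁ ≫ v₁ = o k ≫ m₁ := Over.OverMorphism.ext (Scheme.Hom.resLE_comp_ι _ _)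
    have hn₂ : n₂ ≫ v₂ = o k ≫ m₂ := Over.OverMorphism.ext (Scheme.Hom.resLE_comp_ι _ _)
    let a₁ := BasedFunctor.comp (overMap v₁) x
    let a₂ := BasedFunctor.comp (overMap v₂) x
    let sqab := Lib.AlgStack.Diag.pair (BasedFunctor.comp (fpFst (toSelf (overCat Vo₁)) (toSelf (overCat Vo₂))) a₁)
      (BasedFunctor.comp (fpSnd (toSelf (overCat Vo₁)) (toSelf (overCat Vo₂))) a₂)
    let w : overCat (Over.mk ((Oc k).ι ≫ T₂.hom)) ⥤ᵇ
        fp (toSelf (overCat Vo₁)) (toSelf (overCat Vo₂)) := Lib.AlgStack.Diag.pair (overMap n₁) (overMap n₂)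
    let α : BasedFunctor.comp w sqab ≅ BasedFunctor.comp (Lft.vOf (o k ≫ s)) z :=
      isoToProd
        (BasedBasic.isoWhiskerRight (restrictIso u₁ (o k) v₁ n₁ hn₁) x ≪≫
          BasedBasic.isoWhiskerLeft (Lft.vOf (o k)) β₁ ≪≫
            BasedBasic.isoWhiskerRight (eqToIso (Lft.vOf_comp (o k) s))
              (BasedFunctor.comp z (fpFst (toSelf 𝒳) (toSelf 𝒳))))
        (BasedBasic.isoWhiskerRight (restrictIso u₂ (o k) v₂ n₂ hn₂) x ≪≫
          BasedBasic.isoWhiskerLeft (Lft.vOf (o k)) β₂ ≪≫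
            BasedBasic.isoWhiskerRight (eqToIso (Lft.vOf_comp (o k) s))
              (BasedFunctor.comp z (fpSnd (toSelf 𝒳) (toSelf 𝒳))))
    have hA := Rep.repByAlgSpWith_fpFst w (rep_fpFst_pair a₁ a₂ (hV V₂ hV₂))
    have hB : RepByAlgSpWith (RepWith qaHom)
        (fpFst (BasedFunctor.comp w sqab) (diag (toSelf 𝒳))) :=
      (Rep.repByAlgSpWith_iff_of_isEquivOver
        (f := fpFst (BasedFunctor.comp w sqab) (diag (toSelf 𝒳)))
        (f' := fpFst w (fpFst sqab (diag (toSelf 𝒳))))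
        (Rep.isEquivOver_pasteBase w sqab (diag (toSelf 𝒳))) BasedBasic.isEquivOver_id
        (eqToIso (Rep.pasteBase_fst w sqab (diag (toSelf 𝒳))).symm)).2 hA
    exact (Rep.repByAlgSpWith_iff_of_isEquivOver
        (f := fpFst (BasedFunctor.comp (Lft.vOf (o k ≫ s)) z) (diag (toSelf 𝒳)))
        (f' := fpFst (BasedFunctor.comp w sqab) (diag (toSelf 𝒳)))
        (FibProd.isEquivOver_congrLeft α (diag (toSelf 𝒳))) BasedBasic.isEquivOver_id
        (eqToIso (FibProd.congrLeft_fst α (diag (toSelf 𝒳))).symm)).2 hB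

/-- The structure functor of an affine scheme over an affine base is quasi-affine. -/
theorem rep_toSelf [IsAffine S] (V : Over S) [IsAffine V.left] :
    RepByAlgSpWith (RepWith qaHom) (toSelf (overCat V)) := fun T y => by
  obtain rfl : y = toSelf (overCat T) := Lib.AlgStack.Diag.toSelf_unique _ _
  refine ⟨(AlgSp.ofScheme S).obj (T ⨯ V), BasedFunctor.comp (toOverCat (T ⨯ V)) (prodToFp T V),
    BasedBasic.IsEquivOver.comp (Rep.isEquivOver_toOverCat _)
      (Lib.AlgStack.Diag.isEquivOver_prodToFp T V), ?_⟩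
  show RepWith qaHom (spMapOfOver (BasedFunctor.comp (toOverCat (T ⨯ V)) (overMap' prod.fst)))
  rw [Lft.spMapOfOver_overMap']
  have h1 : spMapOfOver (toOverCat (T ⨯ V)) = 𝟙 _ :=
    Rep.spMapOfOver_ofSpMap_toOverCat (𝟙 ((yon S).obj (T ⨯ V)))
  rw [h1, Category.id_comp]
  refine (AlgSp.repWith_yon_map_iff _ _).2 ?_
  exact MorphismProperty.of_isPullback (P := qaHom) (DiagCharts.isPullback_prod_left T V).flip
    (RepDescent.isQuasiAffine_of_isAffineHom V.hom)

/-- Functors from affine schemes over an affine base are quasi-affine if the diagonal is. -/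
theorem rep_of_diag [IsAffine S] (h𝒳 : IsFibGrpd 𝒳.p)
    (hd : RepByAlgSpWith (RepWith qaHom) (diag (toSelf 𝒳))) (V : Over S) [IsAffine V.left]
    (a : overCat V ⥤ᵇ 𝒳) : RepByAlgSpWith (RepWith qaHom) a :=
  Main.of_triangle (Yoneda.isFibGrpd_overCat V) h𝒳 Main2.isFibGrpd_self
    (SpProps2.stableBC_repWith qaHom) (SpProps2.fromSchemes_repWith qaHom)
    (SpProps2.compTo_repWith qaHom) (a := toSelf (overCat V))
    (eqToIso (Lib.AlgStack.Diag.toSelf_unique _ _)) (rep_toSelf V) hd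

end Groth.Agent.Lib.AlgStack.QaDiag
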