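import Groth.Agent.Lib.AlgStack.IsAlgFp
import Groth.Prelude.Def_AlgSt3

/-!
# Functors between spaces and slices versus maps of sheaves
-/

set_option autoImplicit false
set_option backward.isDefEq.respectTransparency false
set_option backward.isDefEq.respectTransparency.types false

universe u

open CategoryTheory CategoryTheory.Limits AlgebraicGeometry Opposite

namespace Groth.Agent.Lib.AlgStack.SpMapProp

open BasedBasic Yoneda FibProd Rep Space CompRep IsAlgFp OfPsh
open FibCat (IsEquivOver IsFibGrpd fp fpFst overCat)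
open AlgSt (ofSp ofSch ofSpMap ofOverCat toOverCat overMap spMapOfOver RepByAlgSpWith)
open AlgSp (Sp yon IsAlgSpace RepWith)

variable {S : Scheme.{u}} {P : MorphismProperty (Sp S)}

/-- The map of sheaves of a functor from a slice to a space. -/
def ofPoint {U : Over S} {G : Sp S} (x : overCat U ⥤ᵇ ofSp G) : (yon S).obj U ⟶ G :=
  spHom (BasedFunctor.comp (toOverCat U) x)

/-- A functor from a slice to a space is the one of its map of sheaves. -/
def isoOfPoint {U : Over S} {G : Sp S} (x : overCat U ⥤ᵇ ofSp G) :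
    x ≅ BasedFunctor.comp (ofOverCat U) (ofSpMap (ofPoint x)) :=
  eqToIso (by rfl) ≪≫ BasedBasic.isoWhiskerLeft (ofOverCat U)
    (isoOfPshMap (BasedFunctor.comp (toOverCat U) x))

theorem ofPoint_eq_of_iso {U : Over S} {G : Sp S} {x x' : overCat U ⥤ᵇ ofSp G} (e : x ≅ x') :
    ofPoint x = ofPoint x' :=
  spHom_eq_of_iso (BasedBasic.isoWhiskerLeft (toOverCat U) e)

theorem ofPoint_atlas {U : Over S} {G : Sp S} (p : (yon S).obj U ⟶ G) :
    ofPoint (BasedFunctor.comp (ofOverCat U) (ofSpMap p)) = p :=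
  spHom_ofSpMap p

theorem ofPoint_comp {U : Over S} {F G : Sp S} (x : overCat U ⥤ᵇ ofSp F) (a : F ⟶ G) :
    ofPoint (BasedFunctor.comp x (ofSpMap a)) = ofPoint x ≫ a :=
  (spHom_comp (BasedFunctor.comp (toOverCat U) x) (ofSpMap a)).trans (by rw [spHom_ofSpMap]; rfl)

theorem ofPoint_overMap {U V : Over S} {G : Sp S} (h : U ⟶ V) (y : overCat V ⥤ᵇ ofSp G) :
    ofPoint (BasedFunctor.comp (overMap h) y) = (yon S).map h ≫ ofPoint y := by
  have e : BasedFunctor.comp (toOverCat U) (BasedFunctor.comp (overMap h) y) =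
      BasedFunctor.comp (ofSpMap ((yon S).map h)) (BasedFunctor.comp (toOverCat V) y) := rfl
  rw [ofPoint, e, spHom_comp, spHom_ofSpMap]
  rfl

/-- A property that is detected by base changes to schemes is read off the functor of a map. -/
theorem prop_of_ofSpMap (hP : RespectsIsoSp P) (hd : Detected P) {A B : Sp S} (hA : IsAlgSpace A)
    (hB : IsAlgSpace B) {b : A ⟶ B} (h : RepByAlgSpWith P (ofSpMap b)) : P b := by
  refine hd b hA hB fun U ξ P' p q sq => ?_
  obtain ⟨t, ht, hfst⟩ := RepPsh1.exists_equiv_of_isPullback (sq.map (sheafToPresheaf _ _))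
    (BasedFunctor.comp (ofOverCat U) (ofSpMap ξ)) (pshMap_ofPshMap ξ.hom)
  have h' := prop_of_rep hP h (F := P')
    (AlgSpace.isAlgSpace_of_isPullback sq hB.diag hA (IsAlgSpace.yon_obj U)) (e := t) ht
  have hfst' : BasedFunctor.comp t (fpFst (BasedFunctor.comp (ofOverCat U) (ofSpMap ξ)) (ofSpMap b)) =
      BasedFunctor.comp (ofSpMap q) (toOverCat U) := hfst
  rw [hfst', spMapOfOver_ofSpMap_toOverCat] at h'
  exact h'

/-- The same for a functor from a slice to a space. -/
theorem prop_ofPoint (hP : RespectsIsoSp P) (hd : Detected P) {U : Over S} {G : Sp S}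
    (hG : IsAlgSpace G) {x : overCat U ⥤ᵇ ofSp G} (h : RepByAlgSpWith P x) : P (ofPoint x) :=
  prop_of_ofSpMap hP hd (IsAlgSpace.yon_obj U) hG
    ((repByAlgSpWith_iff_of_isEquivOver (f := x) (f' := ofSpMap (ofPoint x))
      (isEquivOver_toOverCat U) BasedBasic.isEquivOver_id
      (isoOfPshMap (BasedFunctor.comp (toOverCat U) x)).symm).1 h)

end Groth.Agent.Lib.AlgStack.SpMapProp
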