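import Groth.Agent.Lib.AlgStack.IsAlgFp
import Groth.Agent.Lib.AlgStack.SpMapProp
import Groth.Agent.Lib.AlgStack.RepOver
import Groth.Agent.Lib.AlgStack.Source
import Groth.Agent.Lib.AlgSpace.DescendRep
import Groth.Agent.Lib.EtaleSection.Sections
import Groth.Prelude.Def_AlgSt3

/-!
# Bootstrap: a stack with a smooth surjective chart has diagonal representable by algebraic spaces

* `isAlgSpace_of_repWith_etale_surjective`: a sheaf with a representable étale surjective map from a
  space is a space.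
* `repByAlgSp_of_etaleCover`: a setoidal stack over a scheme is a space if it is after an étale cover.
* `diag_of_atlas`, `isAlgStack_of_stack_atlas`, `isAlgStack_of_repByAlgSp_cover`.
-/

set_option autoImplicit false
set_option backward.isDefEq.respectTransparency false
set_option backward.isDefEq.respectTransparency.types false

universe u

open CategoryTheory CategoryTheory.Limits AlgebraicGeometry Opposite

namespace Groth.Agent.Lib.AlgStack.Bootstrap

open BasedBasic Yoneda FibProd Rep Space CompRep IsAlgFp OfPsh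
open FibCat (IsEquivOver IsFibGrpd fp fpFst fpSnd fpIso overCat toSelf)
open AlgSt (ofSp ofSch ofSpMap ofOverCat toOverCat overMap RepByAlgSp RepByAlgSp1 RepByAlgSpWith IsAlgStack)
open AlgSp (Sp yon IsAlgSpace RepWith)
open AlgSpace

variable {S : Scheme.{u}}

/-- A sheaf with a representable étale surjective map from an algebraic space is an algebraic space. -/
theorem isAlgSpace_of_repWith_etale_surjective (X : AlgSp.Space S) (F : Sp S) (f : X.obj ⟶ F)
    (he : RepWith @Etale f) (hs : RepWith @Surjective f) : IsAlgSpace F := by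
  obtain ⟨U, p, hpe, hps⟩ := X.property.atlas
  have : MorphismProperty.IsStableUnderComposition @Etale.{u} :=
    (inferInstance : MorphismProperty.IsMultiplicative @Etale.{u}).toIsStableUnderComposition
  have : MorphismProperty.IsStableUnderComposition @Surjective.{u} :=
    ⟨fun f g hf hg => by have := hf; have := hg; infer_instance⟩
  refine ⟨?_, U, p ≫ f, repWith_comp hpe he, repWith_comp hps hs⟩
  have sq := IsPullback.of_hasPullback f f
  have hl : RepWith @LocallyOfFiniteType (prod.lift (pullback.fst f f) (pullback.snd f f)) := by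
    have e : prod.lift (pullback.fst f f) (pullback.snd f f) =
        prod.lift (𝟙 _) (pullback.snd f f) ≫ prod.map (pullback.fst f f) (𝟙 X.obj) := by
      rw [prod.lift_map, Category.id_comp, Category.comp_id]
    rw [e]
    refine repWith_comp ?_ (repWith_baseChange (isPullback_prodMap_id _ _) ?_)
    · exact repWith_baseChange (isPullback_prodLift
        (IsPullback.of_horiz_isIso (g := 𝟙 X.obj) (f := pullback.snd f f) ⟨by simp⟩))
        (repWith_diag_locallyOfFiniteType X.property)
    · exact repWith_baseChange sq.flip (repWith_mono he fun _ _ g (_ : Etale g) ↦ inferInstance)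
  have : Sheaf.IsLocallySurjective (prod.map f f) :=
    isLocallySurjective_of_etale (repWith_prodMap he he) (repWith_prodMap hs hs)
  exact representable_of_mono_of_lft (prod.map f f) (isPullback_prodLift sq) hl

/-- A setoidal stack over a scheme is representable by an algebraic space if this holds after an
étale surjective base change. -/
theorem repByAlgSp_of_etaleCover {𝒵 : AlgSt.Cat S} (h : Stk.IsStack (AlgSp.J S) 𝒵) (hs : Setoidal 𝒵)
    {T T' : Over S} (c : T' ⟶ T) (hce : Etale c.left) (hcs : Surjective c.left) (f : 𝒵 ⥤ᵇ overCat T)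
    (hrep : RepByAlgSp (fp (overMap c) f)) : RepByAlgSp 𝒵 := by
  have hE := isEquivOver_toIsoPsh h.1 hs
  have hF : Presheaf.IsSheaf (AlgSp.J S) (isoPsh h.1) :=
    (isSheaf_iff_isSheaf_of_type _ _).2
      ((StkBasic.isStack_ofPsh_iff _ _).1 (StkBasic.isStack_of_isEquivOver hE h))
  let F : Sp S := ⟨_, hF⟩
  obtain ⟨e₀, he₀, -, -⟩ := BasedBasic.IsEquivOver.exists_inverse hE
  let e : ofSp F ⥤ᵇ 𝒵 := e₀
  let β : F ⟶ (yon S).obj T := spHom (BasedFunctor.comp (BasedFunctor.comp e f) (ofOverCat T))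
  have := BasedBasic.IsEquivOver.full (isEquivOver_toOverCat T)
  have := BasedBasic.IsEquivOver.faithful (isEquivOver_toOverCat T)
  have h1 := isEquivOver_fpMap (toOverCat T') e (toOverCat T)
    (F := overMap c) (G := f) (F' := ofSpMap ((yon S).map c)) (G' := ofSpMap β)
    (eqToIso rfl)
    (BasedBasic.isoWhiskerRight
      (isoOfPshMap (BasedFunctor.comp (BasedFunctor.comp e f) (ofOverCat T))) (toOverCat T))
    (isEquivOver_toOverCat T') he₀
  have sq := IsPullback.of_hasPullback ((yon S).map c) β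
  have h2 := BasedBasic.IsEquivOver.comp (isEquivOver_sqLift (sq.map (sheafToPresheaf _ _))) h1
  obtain ⟨A, eA, hA⟩ := hrep
  obtain ⟨g, hg, -, -⟩ := BasedBasic.IsEquivOver.exists_inverse h2
  let Φ : ofSp A.obj ⥤ᵇ ofSp (pullback ((yon S).map c) β) := BasedFunctor.comp eA g
  have := isIso_spHom (Φ := Φ) (BasedBasic.IsEquivOver.comp hA hg)
  have hF' : IsAlgSpace (pullback ((yon S).map c) β) :=
    IsAlgSpace.of_iso A.property (asIso (spHom Φ))
  exact ⟨⟨F, isAlgSpace_of_repWith_etale_surjective ⟨_, hF'⟩ F (pullback.snd ((yon S).map c) β)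
    (repWith_baseChange sq ((AlgSp.repWith_yon_map_iff _ c).2 hce))
    (repWith_baseChange sq ((AlgSp.repWith_yon_map_iff _ c).2 hcs))⟩, e, he₀⟩

variable {𝒳 : AlgSt.Cat S}

/-- A stack with a smooth surjective chart by a scheme has diagonal representable by algebraic spaces. -/
theorem diag_of_atlas (h𝒳 : Stk.IsStack (AlgSp.J S) 𝒳) {U : Over S} {u : overCat U ⥤ᵇ 𝒳}
    (hsm : RepByAlgSpWith (AlgSp.LocP @Smooth) u) (hsurj : RepByAlgSpWith AlgSp.IsSurjectiveMor u) :
    RepByAlgSp1 (FibCat.diag (toSelf 𝒳)) := by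
  have hS := SourceDescent.Scheme.smooth.{u}
  refine Diag.repByAlgSp1_diag_iff.2 fun U₁ x V y => ?_
  have hu := repByAlgSp1_of_repByAlgSpWith hsm
  obtain ⟨A, a, t, ht, ⟨β⟩, hprop⟩ := Source.exists_rep_detected (isFibGrpd_overCat U) h𝒳.1 hu
    ((AlgSp.ofScheme S).obj V) (BasedFunctor.comp (toOverCat V) y)
  have hasm : AlgSp.LocP @Smooth a := hprop (respectsIsoSp_locP hS) (detected_locP hS) hsm
  have hasurj : AlgSp.IsSurjectiveMor a := hprop respectsIsoSp_surjective detected_surjective hsurj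
  obtain ⟨W, p, hpe, hps⟩ := A.property.atlas
  obtain ⟨w, hw⟩ := (yon S).map_surjective (p ≫ a)
  have hwsm : Smooth w.left := AlgSp.locP_yon_map (hw ▸
    AlgSpMor.LocP.locP_comp hS (IsAlgSpace.yon_obj W) A.property (IsAlgSpace.yon_obj V)
      (IsAlg.locP_smooth hpe) hasm)
  have hwsurj : Surjective w.left := ⟨fun v => by
    obtain ⟨z, hz⟩ := surjective_comp (surjective_map hps) hasurj
      (AlgSp.Points.ofScheme V v)
    obtain ⟨T, g, s, rfl⟩ := exists_ofPt_eq z
    obtain ⟨m, rfl⟩ := (yon S).map_surjective g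
    refine ⟨m.left s, ?_⟩
    have h := congrArg (AlgSp.Points.toScheme V) hz
    erw [AlgSp.Points.map_ofPt, ← hw, ← Functor.map_comp, AlgSp.Points.toScheme_ofPt,
      AlgSp.Points.toScheme_ofScheme, Over.comp_left, Scheme.Hom.comp_apply] at h
    exact h⟩
  obtain ⟨V', g, l, hge, hgs, hl⟩ := EtaleSection.Sections.exists_etale_surjective_section w.left
  let l' : Over.mk (g ≫ V.hom) ⟶ W := Over.homMk l (by rw [← Over.w w, ← Category.assoc, hl]; rfl)
  let c : Over.mk (g ≫ V.hom) ⟶ V := Over.homMk g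
  have hc : l' ≫ w = c := Over.OverMorphism.ext hl
  let P : overCat (Over.mk (g ≫ V.hom)) ⥤ᵇ fp (BasedFunctor.comp (toOverCat V) y) u :=
    BasedFunctor.comp (ofOverCat _) (BasedFunctor.comp (ofSpMap ((yon S).map l' ≫ p)) t)
  let m : overCat (Over.mk (g ≫ V.hom)) ⥤ᵇ overCat U := BasedFunctor.comp P (fpSnd _ _)
  let E : BasedFunctor.comp (overMap c) y ≅ BasedFunctor.comp m u :=
    eqToIso (by
      have h' : ((yon S).map l' ≫ p) ≫ a = (yon S).map c := by
        rw [Category.assoc, ← hw, ← Functor.map_comp, hc]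
      change _ = _
      exact (show BasedFunctor.comp (overMap c) y =
        BasedFunctor.comp (BasedFunctor.comp (ofOverCat _) (ofSpMap (((yon S).map l' ≫ p) ≫ a)))
          (BasedFunctor.comp (toOverCat V) y) by rw [h']; rfl)) ≪≫
    BasedBasic.isoWhiskerRight
      (BasedBasic.isoWhiskerLeft (BasedFunctor.comp (ofOverCat _) (ofSpMap ((yon S).map l' ≫ p)))
        β.symm) (BasedFunctor.comp (toOverCat V) y) ≪≫
    BasedBasic.isoWhiskerLeft P (fpIso (BasedFunctor.comp (toOverCat V) y) u)
  have hU₁ : IsFibGrpd (overCat U₁).p := isFibGrpd_overCat U₁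
  have hxu : RepByAlgSp (fp u x) :=
    repByAlgSp_of_equiv (isEquivOver_swap x u) (hu U₁ x)
  have hmu : RepByAlgSp (fp (BasedFunctor.comp m u) x) :=
    repByAlgSp_of_equiv (isEquivOver_pasteBase m u x)
      (Diag.repByAlgSp_fp (Diag.repByAlgSp_overCat _) hxu (Diag.repByAlgSp_overCat U) m (fpFst u x))
  have hcy : RepByAlgSp (fp (BasedFunctor.comp (overMap c) y) x) :=
    repByAlgSp_of_equiv' (isEquivOver_congrLeft E x) hmu
  have : (overCat U₁).p.Faithful := inferInstanceAs (Over.forget U₁).Faithful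
  have hx : x.toFunctor.Faithful := Functor.Faithful.of_comp_eq x.w
  refine repByAlgSp_of_etaleCover
    (StkFp.isStack_fp (StkRep.isStack_of_repByAlgSp (Diag.repByAlgSp_overCat V))
      (StkRep.isStack_of_repByAlgSp (Diag.repByAlgSp_overCat U₁)) ⟨h𝒳.1, fun U R hR => by have : (Stk.resSieve R 𝒳).IsEquivalence := h𝒳.2 R hR; exact ⟨inferInstance, inferInstance⟩⟩)
    (setoidal_fp_of_faithful fun a φ h => Over.OverMorphism.ext h) c hge hgs (fpFst y x)
    (repByAlgSp_of_equiv' (isEquivOver_pasteBase (overMap c) y x) hcy)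

/-- A stack with a smooth surjective chart by a scheme is an algebraic stack. -/
theorem isAlgStack_of_stack_atlas (h𝒳 : Stk.IsStack (AlgSp.J S) 𝒳)
    (h : AlgSt.HasAtlas (AlgSp.LocP @Smooth) 𝒳) : IsAlgStack Scheme.fppfPrecoverage 𝒳 := by
  obtain ⟨U, u, h1, h2⟩ := h
  exact ⟨h𝒳, diag_of_atlas h𝒳 h1 h2, U, u, h1, h2⟩

/-- A stack with a smooth surjective cover by a category representable by an algebraic space is an
algebraic stack. -/
theorem isAlgStack_of_repByAlgSp_cover {𝒰 : AlgSt.Cat S} (h𝒰 : IsFibGrpd 𝒰.p)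
    (h𝒳 : Stk.IsStack (AlgSp.J S) 𝒳) (hU : RepByAlgSp 𝒰) (u : 𝒰 ⥤ᵇ 𝒳)
    (hsm : RepByAlgSpWith (AlgSp.LocP @Smooth) u) (hsurj : RepByAlgSpWith AlgSp.IsSurjectiveMor u) :
    IsAlgStack Scheme.fppfPrecoverage 𝒳 := by
  obtain ⟨A, e, he⟩ := hU
  obtain ⟨W, p, hpe, hps⟩ := A.property.atlas
  let a := BasedFunctor.comp (ofOverCat W) (BasedFunctor.comp (ofSpMap p) e)
  have atl : ∀ {P : MorphismProperty (Sp S)}, (∀ ⦃G : Sp S⦄ ⦃T : Over S⦄ (q : G ⟶ (yon S).obj T),
      RepWith @Etale q → RepWith @Surjective q → P q) → RepByAlgSpWith P a := fun hP =>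
    (repByAlgSpWith_iff_of_isEquivOver (f' := BasedFunctor.comp (ofOverCat W) (ofSpMap p)) (f := a)
      BasedBasic.isEquivOver_id he (Iso.refl _)).2 (IsAlg.repByAlgSpWith_atlas hpe hps hP)
  exact isAlgStack_of_stack_atlas h𝒳 ⟨W, _,
    comp_locP SourceDescent.Scheme.smooth (isFibGrpd_overCat W) h𝒰
      (atl fun _ _ q hq _ => IsAlg.locP_smooth hq) hsm,
    comp_surjective (isFibGrpd_overCat W) h𝒰 (atl fun _ _ q _ hq => surjective_map hq) hsurj⟩

end Groth.Agent.Lib.AlgStack.Bootstrap
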