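import Groth.Agent.Lib.AlgStack.RepOver
import Groth.Prelude.Def_AlgSt3

/-!
# Descent of properties of representable functors along coverings
-/

set_option autoImplicit false
set_option backward.isDefEq.respectTransparency false
set_option backward.isDefEq.respectTransparency.types false

universe u

open CategoryTheory CategoryTheory.Limits AlgebraicGeometry Opposite

namespace Groth.Agent.Lib.AlgStack.Descend

open BasedBasic Yoneda OfPsh FibProd Rep Space IsAlgFp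
open FibCat (IsEquivOver IsFibGrpd fp fpFst fpSnd fpIso overCat toSelf)
open AlgSt (ofSp ofSch ofSpMap spMapOfOver ofOverCat toOverCat RepByAlgSp RepByAlgSp1 RepByAlgSpWith)
open AlgSp (Sp yon IsAlgSpace RepWith)

variable {S : Scheme.{u}} {𝒳 𝒴 𝒵 : AlgSt.Cat S} {P : MorphismProperty (Sp S)}

/-- Two representations of the same base change are isomorphic over the base. -/
theorem prop_of_equiv (hP : RespectsIsoSp P) {F : Sp S} (hF : IsAlgSpace F) {g : ofSp F ⥤ᵇ 𝒴}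
    {f : 𝒳 ⥤ᵇ 𝒴} {A A' : Sp S} (hA : IsAlgSpace A) (hA' : IsAlgSpace A') {b : A ⟶ F} {b' : A' ⟶ F}
    {t : ofSp A ⥤ᵇ fp g f} {t' : ofSp A' ⥤ᵇ fp g f} (ht : IsEquivOver t) (ht' : IsEquivOver t')
    (β : BasedFunctor.comp t (fpFst g f) ≅ ofSpMap b)
    (β' : BasedFunctor.comp t' (fpFst g f) ≅ ofSpMap b') (hb : P b) : P b' := by
  obtain ⟨s, hs, -, ⟨ε⟩⟩ := BasedBasic.IsEquivOver.exists_inverse ht
  have := isIso_spHom (BasedBasic.IsEquivOver.comp ht' hs)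
  have key : (asIso (spHom (BasedFunctor.comp t' s))).hom ≫ b = b' := by
    have e : BasedFunctor.comp (BasedFunctor.comp t' s) (ofSpMap b) ≅ ofSpMap b' :=
      BasedBasic.isoWhiskerLeft (BasedFunctor.comp t' s) β.symm ≪≫
        BasedBasic.isoWhiskerRight (BasedBasic.isoWhiskerLeft t' ε) (fpFst g f) ≪≫ β'
    have h := spHom_eq_of_iso e
    rw [spHom_comp] at h
    have h' : ∀ {G H : Sp S} (a : G ⟶ H), spHom (ofSpMap a) = a := fun a =>
      ObjectProperty.hom_ext _ (pshMap_ofPshMap a.hom)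
    simpa [h'] using h
  rw [← key]
  exact hP _ _ hA hA' hF hb

/-- Base change of a representation along a map into the scheme. -/
theorem prop_pullback (hP : RespectsIsoSp P) (hl : AlgSp.IsLocalOnBase AlgSp.IsFppfCover P)
    (h𝒳 : IsFibGrpd 𝒳.p) (h𝒴 : IsFibGrpd 𝒴.p) (h𝒵 : IsFibGrpd 𝒵.p) {f : 𝒳 ⥤ᵇ 𝒴} {z : 𝒵 ⥤ᵇ 𝒴}
    (h' : RepByAlgSpWith P (fpFst z f)) {U : Over S} {y : overCat U ⥤ᵇ 𝒴} {F : AlgSp.Space S}
    {e : ofSp F.obj ⥤ᵇ fp y f} (he : IsEquivOver e) (G : AlgSp.Space S) (q : G.obj ⟶ (yon S).obj U)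
    (g' : ofSp G.obj ⥤ᵇ 𝒵)
    (α : BasedFunctor.comp g' z ≅ BasedFunctor.comp (BasedFunctor.comp (ofSpMap q) (toOverCat U)) y)
    {Q : Sp S} {fst : Q ⟶ F.obj} {snd : Q ⟶ G.obj}
    (sq : IsPullback fst snd (spMapOfOver (BasedFunctor.comp e (fpFst y f))) q) : P snd := by
  obtain ⟨A, b, t, ht, ⟨β⟩, hb⟩ :=
    Comp.exists_rep_toSpace_prop hP hl (isFibGrpd_fp h𝒵 h𝒳 h𝒴) h𝒵 h' G g'
  have ht2 := BasedBasic.IsEquivOver.comp
    (BasedBasic.IsEquivOver.comp ht (isEquivOver_pasteBase g' z f)) (isEquivOver_congrLeft α f)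
  have := BasedBasic.IsEquivOver.full (isEquivOver_toOverCat U)
  have := BasedBasic.IsEquivOver.faithful (isEquivOver_toOverCat U)
  have h1 := isEquivOver_sqLift (sq.flip.map (sheafToPresheaf _ _))
  have h2 := isEquivOver_fpMap (F := BasedFunctor.comp (ofSpMap q) (toOverCat U)) (G := fpFst y f)
    (F' := ofSpMap q) (G' := ofSpMap (spMapOfOver (BasedFunctor.comp e (fpFst y f))))
    (BasedFunctor.id (ofSp G.obj)) e (toOverCat U) (Iso.refl _) (isoSpMapOfOver _)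
    BasedBasic.isEquivOver_id he
  have h3 := BasedBasic.IsEquivOver.comp (BasedBasic.IsEquivOver.comp h1 h2)
    (isEquivOver_pasteBase (BasedFunctor.comp (ofSpMap q) (toOverCat U)) y f)
  have hQ : IsAlgSpace Q :=
    AlgSpace.isAlgSpace_of_isPullback sq (IsAlgSpace.yon_obj U).diag F.property G.property
  exact prop_of_equiv hP G.property A.property hQ ht2 h3
    (show _ ≅ ofSpMap b from β) (show _ ≅ ofSpMap snd from eqToIso rfl) hb

/-- A property fppf local on the base descends along flat surjective maps of finite presentation. -/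
theorem repByAlgSpWith_of_cover (hP : RespectsIsoSp P) (hl : AlgSp.IsLocalOnBase AlgSp.IsFppfCover P)
    (h𝒳 : IsFibGrpd 𝒳.p) (h𝒴 : IsFibGrpd 𝒴.p) (h𝒵 : IsFibGrpd 𝒵.p) {f : 𝒳 ⥤ᵇ 𝒴}
    (hf : RepByAlgSp1 f) {z : 𝒵 ⥤ᵇ 𝒴} (h₁ : RepByAlgSpWith (AlgSp.LocP @Flat) z)
    (h₂ : RepByAlgSpWith (AlgSp.LocP @LocallyOfFinitePresentation) z)
    (h₃ : RepByAlgSpWith AlgSp.IsSurjectiveMor z) (h' : RepByAlgSpWith P (fpFst z f)) :
    RepByAlgSpWith P f := by
  intro U y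
  obtain ⟨F, e, he⟩ := hf U y
  obtain ⟨G, eG, hG, h1⟩ := h₁ U y
  refine ⟨F, e, he, ?_⟩
  let q := spMapOfOver (BasedFunctor.comp eG (fpFst y z))
  have h2 : AlgSp.LocP @LocallyOfFinitePresentation q :=
    prop_of_rep (respectsIsoSp_locP SourceDescent.Scheme.locallyOfFinitePresentation) h₂ G.property hG
  have h3 : AlgSp.IsSurjectiveMor q := prop_of_rep respectsIsoSp_surjective h₃ G.property hG
  let α : BasedFunctor.comp (BasedFunctor.comp eG (fpSnd y z)) z ≅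
      BasedFunctor.comp (BasedFunctor.comp (ofSpMap q) (toOverCat U)) y :=
    (BasedBasic.isoWhiskerLeft eG (fpIso y z)).symm ≪≫
      BasedBasic.isoWhiskerRight (isoSpMapOfOver (BasedFunctor.comp eG (fpFst y z))) y
  have sq := IsPullback.of_hasPullback (spMapOfOver (BasedFunctor.comp e (fpFst y f))) q
  exact (hl (fun _ : PUnit.{u + 1} => G.obj) (fun _ => q) (IsAlgSpace.yon_obj U) (fun _ => G.property)
    ⟨fun _ => ⟨h1, h2⟩, fun x => ⟨⟨⟩, h3 x⟩⟩ _ F.property _ _ _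
    (fun _ => AlgSpace.isAlgSpace_of_isPullback sq (IsAlgSpace.yon_obj U).diag F.property G.property)
    (fun _ => sq)).2 fun _ => prop_pullback hP hl h𝒳 h𝒴 h𝒵 h' he G q _ α sq

/-- A property fppf local on the base can be checked after base change along a locally surjective
functor. -/
theorem repByAlgSpWith_of_locallyEssSurj (hP : RespectsIsoSp P)
    (hl : AlgSp.IsLocalOnBase AlgSp.IsFppfCover P)
    (h𝒳 : IsFibGrpd 𝒳.p) (h𝒴 : IsFibGrpd 𝒴.p) (h𝒵 : IsFibGrpd 𝒵.p) {f : 𝒳 ⥤ᵇ 𝒴}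
    (hf : RepByAlgSp1 f) {g : 𝒵 ⥤ᵇ 𝒴}
    (hg : ∀ (U : Over S) (y : overCat U ⥤ᵇ 𝒴), ∃ R ∈ (AlgSp.J S) U,
      ∀ ⦃V : Over S⦄ (h : V ⟶ U), R.arrows h →
        ∃ z : overCat V ⥤ᵇ 𝒵, Nonempty (BasedFunctor.comp z g ≅ BasedFunctor.comp (AlgSt.overMap h) y))
    (h' : RepByAlgSpWith P (fpFst g f)) : RepByAlgSpWith P f := by
  intro U y
  obtain ⟨F, e, he⟩ := hf U y
  refine ⟨F, e, he, ?_⟩
  obtain ⟨R, hR, hloc⟩ := hg U y
  rw [AlgSp.J_eq, GrothendieckTopology.mem_over_iff] at hR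
  haveI : LocallyOfFinitePresentation.{u} (𝟙 S) := inferInstance
  haveI : MorphismProperty.IsMultiplicative @LocallyOfFinitePresentation.{u} :=
    { id_mem := fun X ↦ (inferInstance : LocallyOfFinitePresentation (𝟙 X)) }
  obtain ⟨𝒰, hle⟩ := Scheme.exists_cover_of_mem_grothendieckTopology
    (P := @Flat ⊓ @LocallyOfFinitePresentation) hR
  let Z : 𝒰.I₀ → Over S := fun i ↦ Over.mk (𝒰.f i ≫ U.hom)
  let h : ∀ i, Z i ⟶ U := fun i ↦ Over.homMk (𝒰.f i)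
  have hmem : ∀ i, R.arrows (h i) := fun i ↦
    (Sieve.overEquiv_iff _ _).1 (hle _ _ (Presieve.ofArrows.mk i))
  have hcov : AlgSp.IsFppfCover (fun i => (yon S).obj (Z i)) (fun i => (yon S).map (h i)) := by
    refine ⟨fun i => ⟨AlgSpMor.LocP.locP_of_repWith SourceDescent.Scheme.flat ?_,
      AlgSpMor.LocP.locP_of_repWith SourceDescent.Scheme.locallyOfFinitePresentation ?_⟩, fun x => ?_⟩
    · exact (AlgSp.repWith_yon_map_iff _ _).2 (𝒰.map_prop i).1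
    · exact (AlgSp.repWith_yon_map_iff _ _).2 (𝒰.map_prop i).2
    · obtain ⟨T, a, t, rfl⟩ := AlgSpace.exists_ofPt_eq x
      obtain ⟨k, rfl⟩ := (yon S).map_surjective a
      obtain ⟨i, w, hw⟩ := 𝒰.exists_eq (k.left t)
      refine ⟨i, AlgSp.Points.ofPt (𝟙 _) w, ?_⟩
      have e1 := AlgSpace.ofPt_yon_map_comp (h i) (𝟙 ((yon S).obj U)) w
      have e2 := AlgSpace.ofPt_yon_map_comp k (𝟙 ((yon S).obj U)) t
      rw [Category.comp_id] at e1 e2
      rw [AlgSp.Points.map_ofPt, Category.id_comp, e1, e2]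
      exact congrArg _ hw
  refine (hl _ _ (IsAlgSpace.yon_obj U) (fun i => IsAlgSpace.yon_obj (Z i)) hcov _ F.property
    (fun i => pullback (spMapOfOver (BasedFunctor.comp e (fpFst y f))) ((yon S).map (h i)))
    (fun i => pullback.snd _ _) (fun i => pullback.fst _ _)
    (fun i => AlgSpace.isAlgSpace_of_isPullback (IsPullback.of_hasPullback _ _)
      (IsAlgSpace.yon_obj U).diag F.property (IsAlgSpace.yon_obj (Z i)))
    (fun i => IsPullback.of_hasPullback _ _)).2 fun i => ?_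
  obtain ⟨z, ⟨ζ⟩⟩ := hloc (h i) (hmem i)
  exact prop_pullback hP hl h𝒳 h𝒴 h𝒵 h' he ((AlgSp.ofScheme S).obj (Z i)) ((yon S).map (h i))
    (BasedFunctor.comp (toOverCat (Z i)) z)
    (BasedBasic.isoWhiskerLeft (toOverCat (Z i)) ζ) (IsPullback.of_hasPullback _ _)

/-- A functor of spaces with a property stable under base change has it as a representable functor. -/
theorem repByAlgSpWith_ofSpMap
    (hPb : ∀ ⦃X₁ Y₁ X₂ Y₂ : Sp S⦄, IsAlgSpace X₁ → IsAlgSpace Y₁ → IsAlgSpace X₂ →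
      IsAlgSpace Y₂ → ∀ (a : X₁ ⟶ Y₁) (b : Y₂ ⟶ Y₁) (a' : X₂ ⟶ Y₂) (b' : X₂ ⟶ X₁),
      IsPullback b' a' a b → P a → P a')
    {V W : Sp S} (hV : IsAlgSpace V) (hW : IsAlgSpace W) {a : V ⟶ W} (ha : P a) :
    RepByAlgSpWith P (ofSpMap a) :=
  RepPsh1.repByAlgSpWith_ofPshMap ((AlgSp.repBySpWith_hom_iff P a).2 fun U ξ F' fst snd sq =>
    have hF' := AlgSpace.isAlgSpace_of_isPullback sq hW.diag hV (IsAlgSpace.yon_obj U)
    ⟨hF', hPb hV hW hF' (IsAlgSpace.yon_obj U) a ξ snd fst sq ha⟩)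

/-- A property fppf local on the base is read off one flat surjective chart by an algebraic space. -/
theorem repByAlgSpWith_iff_of_spaceCover
    (hPb : ∀ ⦃X₁ Y₁ X₂ Y₂ : Sp S⦄, IsAlgSpace X₁ → IsAlgSpace Y₁ → IsAlgSpace X₂ →
      IsAlgSpace Y₂ → ∀ (a : X₁ ⟶ Y₁) (b : Y₂ ⟶ Y₁) (a' : X₂ ⟶ Y₂) (b' : X₂ ⟶ X₁),
      IsPullback b' a' a b → P a → P a')
    (hl : AlgSp.IsLocalOnBase AlgSp.IsFppfCover P) (h𝒳 : IsFibGrpd 𝒳.p) (h𝒴 : IsFibGrpd 𝒴.p)
    {f : 𝒳 ⥤ᵇ 𝒴} (hf : RepByAlgSp1 f) (W : AlgSp.Space S) (w : ofSp W.obj ⥤ᵇ 𝒴)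
    (hw₁ : RepByAlgSpWith (AlgSp.LocP @Flat) w)
    (hw₂ : RepByAlgSpWith (AlgSp.LocP @LocallyOfFinitePresentation) w)
    (hw₃ : RepByAlgSpWith AlgSp.IsSurjectiveMor w) :
    RepByAlgSpWith P f ↔
      ∃ (V : AlgSp.Space S) (a : V ⟶ W) (e : ofSp V.obj ⥤ᵇ fp w f),
        IsEquivOver e ∧ Nonempty (BasedFunctor.comp e (fpFst w f) ≅ ofSpMap a.hom) ∧ P a.hom := by
  have hP := respectsIsoSp_of_baseChange hPb
  refine ⟨fun h => (RepOver.repByAlgSpWith_iff_toSpace hP hl h𝒳 h𝒴 f).1 h W w, ?_⟩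
  rintro ⟨V, a, e, he, ⟨β⟩, ha⟩
  exact repByAlgSpWith_of_cover hP hl h𝒳 h𝒴 (Stk.isFibGrpd_ofPsh W.obj.obj) hf hw₁ hw₂ hw₃
    ((repByAlgSpWith_iff_of_isEquivOver (f := fpFst w f) (f' := ofSpMap a.hom) he
      BasedBasic.isEquivOver_id β.symm).2 (repByAlgSpWith_ofSpMap hPb V.property W.property ha))

end Groth.Agent.Lib.AlgStack.Descend
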