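import Groth.Agent.Lib.AlgStack.StabilizerApps
import Groth.Agent.S10109

/-!
# Algebraic stacks for the etale topology with trivial stabilizers
-/

set_option autoImplicit false
set_option backward.isDefEq.respectTransparency false
set_option backward.isDefEq.respectTransparency.types false

universe u

open CategoryTheory CategoryTheory.Limits AlgebraicGeometry Opposite

namespace Groth.Agent.Lib.AlgStack.EtaleTop

open BasedBasic Yoneda FibProd Rep Space
open FibCat (IsEquivOver overCat)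
open AlgSt (ofSp ofSpMap toOverCat RepByAlgSp RepByAlgSpWith IsAlgStack)
open AlgSp (Sp PSp yon IsAlgSpace IsEtaleMor)

variable {S : Scheme.{u}} {𝒳 : AlgSt.Cat S}

/-- An algebraic stack in setoids for the etale topology is representable by an algebraic space. -/
theorem repByAlgSp_of_setoidal (h𝒳 : IsAlgStack Scheme.etalePrecoverage 𝒳) (hs : Setoidal 𝒳) :
    RepByAlgSp 𝒳 := by
  obtain ⟨V, v, hve, hvs⟩ := Slice.hasEtaleAtlas h𝒳 (Setoidal.isDMOver_of_setoidal h𝒳 hs)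
  have hE := isEquivOver_toIsoPsh h𝒳.isStack.1 hs
  let F : PSp S := isoPsh h𝒳.isStack.1
  have hF : Presheaf.IsSheaf (QuotSh.J Scheme.etalePrecoverage S) F :=
    (isSheaf_iff_isSheaf_of_type _ _).2
      ((StkBasic.isStack_ofPsh_iff _ _).1 (StkBasic.isStack_of_isEquivOver hE h𝒳.isStack))
  obtain ⟨e₀, he₀, -, -⟩ := BasedBasic.IsEquivOver.exists_inverse hE
  obtain ⟨E, hE', -, -⟩ := BasedBasic.IsEquivOver.exists_inverse he₀
  let w : ofSp ((yon S).obj V) ⥤ᵇ Stk.ofPsh F :=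
    BasedFunctor.comp (BasedFunctor.comp (toOverCat V) v) E
  have key : ∀ {P : MorphismProperty (Sp S)} [P.RespectsIso],
      RepByAlgSpWith P v → AlgSp.RepBySpWith P (OfPsh.pshMap w) := by
    intro P _ hv
    have h1 : RepByAlgSpWith P w :=
      (repByAlgSpWith_iff_of_isEquivOver (f := v) (f' := BasedFunctor.comp (toOverCat V) v)
        (isEquivOver_toOverCat V) BasedBasic.isEquivOver_id (Iso.refl _)).1 hv |> fun h =>
      (repByAlgSpWith_iff_of_isEquivOver (f := w) (f' := BasedFunctor.comp (toOverCat V) v)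
        BasedBasic.isEquivOver_id hE' (Iso.refl _)).2 h
    exact RepPsh1.repBySpWith_of_ofPshMap (repByAlgSpWith_of_iso (OfPsh.isoOfPshMap w) h1)
  obtain ⟨hsh, hA⟩ := Groth.Agent.S10109.result S F hF ⟨(yon S).obj V, IsAlgSpace.yon_obj V⟩
    (OfPsh.pshMap w) fun U ξ F' fst snd sq => by
      obtain ⟨hF', hA', h1⟩ := key (P := AlgSp.IsSurjectiveMor) hvs ξ fst snd sq
      obtain ⟨_, -, h2⟩ := key (P := IsEtaleMor) hve ξ fst snd sq
      exact ⟨hF', hA', h1, h2⟩
  exact ⟨⟨⟨F, hsh⟩, hA⟩, e₀, he₀⟩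

/-- Trivial stabilizers at geometric points, for the etale topology. -/
theorem repByAlgSp_of_trivial (h𝒳 : IsAlgStack Scheme.etalePrecoverage 𝒳)
    (htriv : ∀ (K : Type u) [Field K] [IsAlgClosed K] (s : Spec (CommRingCat.of K) ⟶ S) (x : 𝒳.obj)
      (_ : 𝒳.p.obj x = Over.mk s) (b : 𝒳.obj) (_ : b ⟶ x) (θ : b ⟶ b),
      𝒳.p.map θ = 𝟙 (𝒳.p.obj b) → θ = 𝟙 b) : RepByAlgSp 𝒳 :=
  repByAlgSp_of_setoidal h𝒳 fun a θ hθ => Stabilizer.eq_id_of_geometric h𝒳.isStack.1
    (Stabilizer.isDMOver_of_trivial h𝒳 htriv) θ hθ fun K _ _ s c _ θ' hc hθ' _ =>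
      htriv K s c hc c (𝟙 c) θ' ((IsHomLift.fac' 𝒳.p (𝟙 (𝒳.p.obj c)) θ').trans (by simp))

end Groth.Agent.Lib.AlgStack.EtaleTop
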