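import Groth.Agent.Lib.AlgStack.Bootstrap
import Groth.Agent.Lib.AlgStack.EtaleTop
import Groth.Agent.Lib.TorsorSch.Descent
import Groth.Agent.Lib.AlgSpMor.RepPresheaf
import Groth.Agent.S10109

/-!
# Stacks for the etale topology with smooth charts
-/

set_option autoImplicit false
set_option backward.isDefEq.respectTransparency false
set_option backward.isDefEq.respectTransparency.types false

universe u

open CategoryTheory CategoryTheory.Limits AlgebraicGeometry Opposite

namespace Groth.Agent.Lib.AlgStack.EtaleBoot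

open BasedBasic Yoneda FibProd Rep Space CompRep IsAlgFp OfPsh
open FibCat (IsEquivOver IsFibGrpd fp fpFst fpSnd fpIso overCat toSelf)
open AlgSt (ofSp ofSch ofSpMap ofOverCat toOverCat overMap RepByAlgSp RepByAlgSp1 RepByAlgSpWith IsAlgStack)
open AlgSp (Sp yon IsAlgSpace RepWith)
open AlgSpace

variable {S : Scheme.{u}}

/-- The etale topology is coarser than the fppf topology. -/
theorem etale_le_fppf : QuotSh.J Scheme.etalePrecoverage S ≤ AlgSp.J S := fun _ R hR => by
  rw [GrothendieckTopology.mem_over_iff] at hR ⊢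
  exact Precoverage.toGrothendieck_mono TorsorSch.Descent.etalePrecoverage_le_fppfPrecoverage _ hR

theorem isStack_etale {𝒳 : AlgSt.Cat S} (h : Stk.IsStack (AlgSp.J S) 𝒳) :
    Stk.IsStack (QuotSh.J Scheme.etalePrecoverage S) 𝒳 :=
  ⟨h.1, fun U R hR => h.2 R (etale_le_fppf U hR)⟩

/-- A setoidal etale stack over a scheme is representable by an algebraic space if this holds after
an étale surjective base change. -/
theorem repByAlgSp_of_etaleCover {𝒵 : AlgSt.Cat S}
    (h : Stk.IsStack (QuotSh.J Scheme.etalePrecoverage S) 𝒵) (hs : Setoidal 𝒵)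
    {T T' : Over S} (c : T' ⟶ T) (hce : Etale c.left) (hcs : Surjective c.left) (f : 𝒵 ⥤ᵇ overCat T)
    (hrep : RepByAlgSp (fp (overMap c) f)) : RepByAlgSp 𝒵 := by
  have hE := isEquivOver_toIsoPsh h.1 hs
  let F : AlgSp.PSp S := isoPsh h.1
  have hF : Presheaf.IsSheaf (QuotSh.J Scheme.etalePrecoverage S) F :=
    (isSheaf_iff_isSheaf_of_type _ _).2
      ((StkBasic.isStack_ofPsh_iff _ _).1 (StkBasic.isStack_of_isEquivOver hE h))
  obtain ⟨e, he, -, -⟩ := BasedBasic.IsEquivOver.exists_inverse hE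
  let β : F ⟶ ((yon S).obj T).obj :=
    pshMap (BasedFunctor.comp (BasedFunctor.comp e f) (ofOverCat T))
  have := BasedBasic.IsEquivOver.full (isEquivOver_toOverCat T)
  have := BasedBasic.IsEquivOver.faithful (isEquivOver_toOverCat T)
  have h1 := isEquivOver_fpMap (toOverCat T') e (toOverCat T)
    (F := overMap c) (G := f) (F' := ofSpMap ((yon S).map c)) (G' := Stk.ofPshMap β)
    (eqToIso rfl)
    (BasedBasic.isoWhiskerRight
      (isoOfPshMap (BasedFunctor.comp (BasedFunctor.comp e f) (ofOverCat T))) (toOverCat T))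
    (isEquivOver_toOverCat T') he
  have sq := IsPullback.of_hasPullback ((yon S).map c).hom β
  have h2 := BasedBasic.IsEquivOver.comp (isEquivOver_sqLift sq) h1
  obtain ⟨A, eA, hA⟩ := hrep
  obtain ⟨g, hg, -, -⟩ := BasedBasic.IsEquivOver.exists_inverse h2
  have := isIso_pshMap (BasedBasic.IsEquivOver.comp hA hg)
  obtain ⟨hsh, hAlg⟩ : AlgSp.IsAlgSpaceP (pullback ((yon S).map c).hom β) :=
    AlgSp.IsAlgSpaceP.of_iso ⟨A.obj.property, A.property⟩ (asIso (pshMap (BasedFunctor.comp eA g)))
  obtain ⟨hsF, hAF⟩ := Groth.Agent.S10109.result S F hF ⟨⟨_, hsh⟩, hAlg⟩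
    (pullback.snd ((yon S).map c).hom β) fun V ξ F' fst snd sq' => by
      obtain ⟨m, hm⟩ := (yon S).map_surjective
        (ObjectProperty.homMk (ξ ≫ β) : (yon S).obj V ⟶ (yon S).obj T)
      have hm' : ((yon S).map m).hom = ξ ≫ β := congrArg (fun k => k.hom) hm
      have sq3 : IsPullback (fst ≫ pullback.fst ((yon S).map c).hom β) snd ((yon S).map c).hom
          ((yon S).map m).hom := by
        rw [hm']
        exact sq'.paste_horiz sq
      have hI : IsPullback ((yon S).map (pullback.fst c m)).hom ((yon S).map (pullback.snd c m)).hom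
          ((yon S).map c).hom ((yon S).map m).hom :=
        (AlgSpace.isPullback_yon (IsPullback.of_hasPullback c m)).map (sheafToPresheaf _ _)
      let i := sq3.isoIsPullback _ _ hI
      have hF' : Presheaf.IsSheaf (AlgSp.J S) F' :=
        (Presheaf.isSheaf_of_iso_iff i).2 ((yon S).obj (pullback c m)).property
      let i' : (⟨F', hF'⟩ : Sp S) ≅ (yon S).obj (pullback c m) :=
        (fullyFaithfulSheafToPresheaf _ _).preimageIso i
      refine ⟨hF', IsAlgSpace.of_iso (IsAlgSpace.yon_obj _) i'.symm, ?_⟩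
      have hsnd : (ObjectProperty.homMk snd : (⟨F', hF'⟩ : Sp S) ⟶ (yon S).obj V) =
          i'.hom ≫ (yon S).map (pullback.snd c m) :=
        InducedCategory.hom_ext (sq3.isoIsPullback_hom_snd _ _ hI).symm
      rw [hsnd]
      have he' : Etale (pullback.snd c m).left := MorphismProperty.of_isPullback (P := @Etale)
        ((IsPullback.of_hasPullback c m).map (Over.forget S)) hce
      have hs' : Surjective (pullback.snd c m).left := MorphismProperty.of_isPullback (P := @Surjective)
        ((IsPullback.of_hasPullback c m).map (Over.forget S)) hcs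
      exact ⟨AlgSpace.surjective_map ((MorphismProperty.cancel_left_of_respectsIso (RepWith @Surjective) i'.hom _).2
        ((AlgSp.repWith_yon_map_iff _ _).2 hs')),
        IsAlg.isEtaleMor ((MorphismProperty.cancel_left_of_respectsIso (RepWith @Etale) i'.hom _).2
        ((AlgSp.repWith_yon_map_iff _ _).2 he'))⟩
  exact ⟨⟨⟨F, hsF⟩, hAF⟩, e, he⟩



variable {𝒳 : AlgSt.Cat S}

/-- A stack with a smooth surjective chart by a scheme has diagonal representable by algebraic spaces. -/
theorem diag_of_atlas (h𝒳 : Stk.IsStack (QuotSh.J Scheme.etalePrecoverage S) 𝒳) {U : Over S} {u : overCat U ⥤ᵇ 𝒳}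
    (hsm : RepByAlgSpWith (AlgSp.LocP @Smooth) u) (hsurj : RepByAlgSpWith AlgSp.IsSurjectiveMor u) :
    RepByAlgSp1 (FibCat.diag (toSelf 𝒳)) := by
  have hS := SourceDescent.Scheme.smooth.{u}
  refine Diag.repByAlgSp1_diag_iff.2 fun U₁ x V y => ?_
  have hu := repByAlgSp1_of_repByAlgSpWith hsm
  obtain ⟨A, a, t, ht, ⟨β⟩, hprop⟩ := Source.exists_rep_detected (isFibGrpd_overCat U) h𝒳.1 hu
    ((AlgSp.ofScheme S).obj V) (BasedFunctor.comp (toOverCat V) y)
  have hasm : AlgSp.LocP @Smooth a := hprop (respectsIsoSp_locP hS) (detected_locP hS) hsm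
  have hasurj : AlgSp.IsSurjectiveMor a := hprop respectsIsoSp_surjective detected_surjective hsurj
  obtain ⟨W, p, hpe, hps⟩ := A.property.atlas
  obtain ⟨w, hw⟩ := (yon S).map_surjective (p ≫ a)
  have hwsm : Smooth w.left := AlgSp.locP_yon_map (hw ▸
    AlgSpMor.LocP.locP_comp hS (IsAlgSpace.yon_obj W) A.property (IsAlgSpace.yon_obj V)
      (IsAlg.locP_smooth hpe) hasm)
  have hwsurj : Surjective w.left := ⟨fun v => by
    obtain ⟨z, hz⟩ := surjective_comp (surjective_map hps) hasurj
      (AlgSp.Points.ofScheme V v)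
    obtain ⟨T, g, s, rfl⟩ := exists_ofPt_eq z
    obtain ⟨m, rfl⟩ := (yon S).map_surjective g
    refine ⟨m.left s, ?_⟩
    have h := congrArg (AlgSp.Points.toScheme V) hz
    erw [AlgSp.Points.map_ofPt, ← hw, ← Functor.map_comp, AlgSp.Points.toScheme_ofPt,
      AlgSp.Points.toScheme_ofScheme, Over.comp_left, Scheme.Hom.comp_apply] at h
    exact h⟩
  obtain ⟨V', g, l, hge, hgs, hl⟩ := EtaleSection.Sections.exists_etale_surjective_section w.left
  let l' : Over.mk (g ≫ V.hom) ⟶ W := Over.homMk l (by rw [← Over.w w, ← Category.assoc, hl]; rfl)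
  let c : Over.mk (g ≫ V.hom) ⟶ V := Over.homMk g
  have hc : l' ≫ w = c := Over.OverMorphism.ext hl
  let P : overCat (Over.mk (g ≫ V.hom)) ⥤ᵇ fp (BasedFunctor.comp (toOverCat V) y) u :=
    BasedFunctor.comp (ofOverCat _) (BasedFunctor.comp (ofSpMap ((yon S).map l' ≫ p)) t)
  let m : overCat (Over.mk (g ≫ V.hom)) ⥤ᵇ overCat U := BasedFunctor.comp P (fpSnd _ _)
  let E : BasedFunctor.comp (overMap c) y ≅ BasedFunctor.comp m u :=
    eqToIso (by
      have h' : ((yon S).map l' ≫ p) ≫ a = (yon S).map c := by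
        rw [Category.assoc, ← hw, ← Functor.map_comp, hc]
      change _ = _
      exact (show BasedFunctor.comp (overMap c) y =
        BasedFunctor.comp (BasedFunctor.comp (ofOverCat _) (ofSpMap (((yon S).map l' ≫ p) ≫ a)))
          (BasedFunctor.comp (toOverCat V) y) by rw [h']; rfl)) ≪≫
    BasedBasic.isoWhiskerRight
      (BasedBasic.isoWhiskerLeft (BasedFunctor.comp (ofOverCat _) (ofSpMap ((yon S).map l' ≫ p)))
        β.symm) (BasedFunctor.comp (toOverCat V) y) ≪≫
    BasedBasic.isoWhiskerLeft P (fpIso (BasedFunctor.comp (toOverCat V) y) u)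
  have hU₁ : IsFibGrpd (overCat U₁).p := isFibGrpd_overCat U₁
  have hxu : RepByAlgSp (fp u x) :=
    repByAlgSp_of_equiv (isEquivOver_swap x u) (hu U₁ x)
  have hmu : RepByAlgSp (fp (BasedFunctor.comp m u) x) :=
    repByAlgSp_of_equiv (isEquivOver_pasteBase m u x)
      (Diag.repByAlgSp_fp (Diag.repByAlgSp_overCat _) hxu (Diag.repByAlgSp_overCat U) m (fpFst u x))
  have hcy : RepByAlgSp (fp (BasedFunctor.comp (overMap c) y) x) :=
    repByAlgSp_of_equiv' (isEquivOver_congrLeft E x) hmu
  have : (overCat U₁).p.Faithful := inferInstanceAs (Over.forget U₁).Faithful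
  have hx : x.toFunctor.Faithful := Functor.Faithful.of_comp_eq x.w
  refine repByAlgSp_of_etaleCover
    (StkFp.isStack_fp (isStack_etale (StkRep.isStack_of_repByAlgSp (Diag.repByAlgSp_overCat V)))
      (isStack_etale (StkRep.isStack_of_repByAlgSp (Diag.repByAlgSp_overCat U₁))) ⟨h𝒳.1, fun U R hR => by have : (Stk.resSieve R 𝒳).IsEquivalence := h𝒳.2 R hR; exact ⟨inferInstance, inferInstance⟩⟩)
    (setoidal_fp_of_faithful fun a φ h => Over.OverMorphism.ext h) c hge hgs (fpFst y x)
    (repByAlgSp_of_equiv' (isEquivOver_pasteBase (overMap c) y x) hcy)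

/-- An etale stack with a smooth surjective chart by a scheme is an algebraic stack. -/
theorem isAlgStack_of_stack_atlas (h𝒳 : Stk.IsStack (QuotSh.J Scheme.etalePrecoverage S) 𝒳)
    (h : AlgSt.HasAtlas (AlgSp.LocP @Smooth) 𝒳) : IsAlgStack Scheme.etalePrecoverage 𝒳 := by
  obtain ⟨U, u, h1, h2⟩ := h
  exact ⟨h𝒳, diag_of_atlas h𝒳 h1 h2, U, u, h1, h2⟩

end Groth.Agent.Lib.AlgStack.EtaleBoot
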