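import Groth.Agent.Lib.AlgStack.Space

/-!
# Monomorphisms are fully faithful
-/

set_option autoImplicit false
set_option backward.isDefEq.respectTransparency false
set_option backward.isDefEq.respectTransparency.types false

universe u

open CategoryTheory CategoryTheory.Limits AlgebraicGeometry Opposite

namespace Groth.Agent.Lib.AlgStack.Mono

open BasedBasic OfPsh Yoneda FibProd Rep Space
open FibCat (IsEquivOver IsFibGrpd fp fpFst overCat)
open AlgSt (ofSp ofSpMap spMapOfOver toOverCat RepByAlgSpWith)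

variable {S : Scheme.{u}}

theorem full_ofSpMap {F G : AlgSp.Sp S} (a : F ⟶ G) [CategoryTheory.Mono a] :
    (ofSpMap a).toFunctor.Full := ⟨fun {x y} m => by
  have : CategoryTheory.Mono a.hom := (sheafToPresheaf _ _).map_mono a
  have inj : Function.Injective (a.hom.app (op x.base)) :=
    (CategoryTheory.mono_iff_injective _).1 ((NatTrans.mono_iff_mono_app a.hom).1 inferInstance _)
  have h := m.map_sec
  refine ⟨⟨m.hom, inj ?_⟩, Stk.EltObj.hom_ext rfl⟩
  exact (NatTrans.naturality_apply a.hom m.hom.op y.sec).trans h⟩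

variable {𝒳 𝒴 : BasedCategory.{u, u + 1} (Over S)}

/-- A monomorphism of categories fibred in groupoids is full. -/
theorem full_of_mono (h𝒳 : IsFibGrpd 𝒳.p) (h𝒴 : IsFibGrpd 𝒴.p) {f : 𝒳 ⥤ᵇ 𝒴}
    (hf : RepByAlgSpWith (MorphismProperty.monomorphisms (AlgSp.Sp S)) f) : f.toFunctor.Full := by
  refine ⟨fun {x x'} g => ?_⟩
  let U := 𝒳.p.obj x'
  let V := 𝒳.p.obj x
  let y := fromObj h𝒴 (f.w_obj x')
  obtain ⟨ι, hι⟩ := exists_fromObj_iso h𝒴 (f.w_obj x')
  let h₀ : V ⟶ U := eqToHom (f.w_obj x).symm ≫ 𝒴.p.map g ≫ eqToHom (f.w_obj x')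
  have hg : 𝒴.p.IsHomLift h₀ g := IsHomLift.of_fac' _ _ _ (f.w_obj x) (f.w_obj x') (by simp [h₀])
  let o : Over U := Over.mk h₀
  have hy : 𝒴.p.IsHomLift h₀ (y.map (toId o)) := map_toId_isHomLift y o
  have hχ : 𝒴.p.IsHomLift h₀ (y.map (toId o) ≫ ι.hom) := by
    have h : 𝒴.p.IsHomLift (h₀ ≫ 𝟙 U) (y.map (toId o) ≫ ι.hom) := inferInstance
    rwa [Category.comp_id] at h
  have hg' : 𝒴.p.IsHomLift (eqToHom (f.w_obj x).symm ≫ 𝒴.p.map g) (y.map (toId o) ≫ ι.hom) :=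
    IsHomLift.of_fac' _ _ _ (y.w_obj o) rfl (by
      rw [IsHomLift.fac' 𝒴.p h₀ (y.map (toId o) ≫ ι.hom)]; simp [h₀])
  obtain ⟨θ, hθ, e⟩ := exists_lift_through h𝒴 g (y.map (toId o) ≫ ι.hom) (eqToHom (f.w_obj x).symm)
  have hθ' : 𝒴.p.IsHomLift (𝟙 V) θ :=
    IsHomLift.of_fac' _ _ _ (y.w_obj o) (f.w_obj x) (by
      rw [IsHomLift.fac' 𝒴.p (eqToHom (f.w_obj x).symm) θ]; simp)
  have := isIso_of_isHomLift_id h𝒴 (R := V) θ
  let z : (fp y f).obj := FibProd.objMk o x (asIso θ) hθ'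
  let z' : (fp y f).obj := FibProd.objMk (Over.mk (𝟙 U)) x' ι hι
  obtain ⟨F, E, hE, hP⟩ := hf U y
  have : CategoryTheory.Mono (spMapOfOver (BasedFunctor.comp E (fpFst y f))) := hP
  have h1 := full_ofSpMap (spMapOfOver (BasedFunctor.comp E (fpFst y f)))
  have h2 := BasedBasic.IsEquivOver.full (isEquivOver_toOverCat U)
  have h3 : ((ofSpMap (spMapOfOver (BasedFunctor.comp E (fpFst y f)))).toFunctor ⋙
      (toOverCat U).toFunctor).Full := inferInstance
  have h4 : (E.toFunctor ⋙ (fpFst y f).toFunctor).Full :=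
    @Functor.Full.of_iso _ _ _ _ _ _ h3 ((BasedNatTrans.forgetful _ _).mapIso
      (isoSpMapOfOver (BasedFunctor.comp E (fpFst y f)))).symm
  obtain ⟨a, ea, -⟩ := BasedBasic.IsEquivOver.exists_iso hE z
  obtain ⟨b, eb, -⟩ := BasedBasic.IsEquivOver.exists_iso hE z'
  obtain ⟨m, hm⟩ := h4.map_surjective
    ((fpFst y f).map ea.hom ≫ (toId o : z.obj.fst ⟶ z'.obj.fst) ≫ (fpFst y f).map eb.inv)
  let k : z ⟶ z' := ea.inv ≫ E.map m ≫ eb.hom
  have hk : k.hom.fst = toId o := by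
    change (fpFst y f).map (ea.inv ≫ E.map m ≫ eb.hom) = _
    rw [Functor.map_comp, Functor.map_comp]
    change (fpFst y f).map ea.inv ≫ (E.toFunctor ⋙ (fpFst y f).toFunctor).map m ≫ (fpFst y f).map eb.hom = _
    rw [hm]
    simp [← Functor.map_comp, ← Functor.map_comp_assoc]
    exact Category.comp_id _
  refine ⟨k.hom.snd, (cancel_epi θ).1 ?_⟩
  have w : y.map k.hom.fst ≫ ι.hom = θ ≫ f.map k.hom.snd := k.hom.w
  rw [hk] at w
  rw [← w, e]

end Groth.Agent.Lib.AlgStack.Mono
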