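import Groth.Prelude.Def_AlgSt4
import Groth.Agent.Lib.AlgStack.Yoneda
import Groth.Agent.Lib.AlgStack.Mono

/-!
# Field-valued points of categories fibred in groupoids
-/

set_option autoImplicit false
set_option backward.isDefEq.respectTransparency false
set_option backward.isDefEq.respectTransparency.types false

universe u

open CategoryTheory CategoryTheory.Limits AlgebraicGeometry Opposite

namespace Groth.Agent.Lib.AlgStack.Points

open BasedBasic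
open FibCat (IsFibGrpd)
open AlgSt (FPt)

variable {S : Scheme.{u}} {𝒳 𝒴 : AlgSt.Cat S}

/-- Two field-valued points of a scheme over a third have a common refinement. -/
theorem exists_common_field {K₁ K₂ K : Type u} [Field K₁] [Field K₂] [Field K]
    (g₁ : Spec (CommRingCat.of K₁) ⟶ Spec (CommRingCat.of K))
    (g₂ : Spec (CommRingCat.of K₂) ⟶ Spec (CommRingCat.of K)) :
    ∃ (L : Type u) (_ : Field L) (a : Spec (CommRingCat.of L) ⟶ Spec (CommRingCat.of K₁))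
      (b : Spec (CommRingCat.of L) ⟶ Spec (CommRingCat.of K₂)), a ≫ g₁ = b ≫ g₂ := by
  let x₁ : ↥(Spec (CommRingCat.of K₁)) := Classical.arbitrary _
  let x₂ : ↥(Spec (CommRingCat.of K₂)) := Classical.arbitrary _
  have : Subsingleton ↥(Spec (CommRingCat.of K)) := (inferInstance : Subsingleton (PrimeSpectrum K))
  obtain ⟨z, -, -⟩ := Scheme.Pullback.exists_preimage_pullback x₁ x₂ (Subsingleton.elim (g₁ x₁) (g₂ x₂))
  let w := (pullback g₁ g₂).fromSpecResidueField z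
  exact ⟨_, inferInstance, w ≫ pullback.fst g₁ g₂, w ≫ pullback.snd g₁ g₂,
    by rw [Category.assoc, Category.assoc, pullback.condition]⟩

theorem rel_refl (p : FPt 𝒳) : FPt.Rel p p := ⟨p, 𝟙 _, 𝟙 _, trivial⟩

theorem rel_symm {p q : FPt 𝒳} : FPt.Rel p q → FPt.Rel q p := fun ⟨r, a, b, _⟩ => ⟨r, b, a, trivial⟩

theorem rel_trans (h : IsFibGrpd 𝒳.p) {p q t : FPt 𝒳} (h₁ : FPt.Rel p q) (h₂ : FPt.Rel q t) :
    FPt.Rel p t := by
  obtain ⟨r, a, b, -⟩ := h₁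
  obtain ⟨s, c, d, -⟩ := h₂
  let g₁ : Over.mk r.str ⟶ 𝒳.p.obj q.obj := eqToHom r.lies.symm ≫ 𝒳.p.map b
  let g₂ : Over.mk s.str ⟶ 𝒳.p.obj q.obj := eqToHom s.lies.symm ≫ 𝒳.p.map c
  let e : 𝒳.p.obj q.obj ⟶ Over.mk q.str := eqToHom q.lies
  obtain ⟨L, hL, u₁, u₂, w⟩ := exists_common_field (g₁ ≫ e).left (g₂ ≫ e).left
  let str := u₁ ≫ r.str
  let k₁ : Over.mk str ⟶ Over.mk r.str := Over.homMk u₁
  have hstr : u₂ ≫ s.str = str := by
    have e1 : (g₁ ≫ e).left ≫ q.str = r.str := Over.w (g₁ ≫ e)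
    have e2 : (g₂ ≫ e).left ≫ q.str = s.str := Over.w (g₂ ≫ e)
    rw [← e2, ← Category.assoc, ← w, Category.assoc, e1]
  let k₂ : Over.mk str ⟶ Over.mk s.str := Over.homMk u₂ hstr
  obtain ⟨z, ψ, hψ⟩ := exists_lift' h k₁ r.lies
  have hk : k₁ ≫ g₁ = k₂ ≫ g₂ := by
    rw [← cancel_mono e, Category.assoc, Category.assoc]
    exact Over.OverMorphism.ext w
  have hb : 𝒳.p.IsHomLift (k₁ ≫ g₁) (ψ ≫ b) := by
    have h1 : 𝒳.p.IsHomLift g₁ b := IsHomLift.of_fac' _ _ _ r.lies rfl (by simp [g₁])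
    infer_instance
  have hc : 𝒳.p.IsHomLift ((k₂ ≫ eqToHom s.lies.symm) ≫ 𝒳.p.map c) (ψ ≫ b) := by
    rw [Category.assoc]
    exact hk ▸ hb
  obtain ⟨ψ', -, -⟩ := exists_lift_through h c (ψ ≫ b) (k₂ ≫ eqToHom s.lies.symm)
  exact ⟨{ K := L, field := hL, str := str, obj := z, lies := IsHomLift.domain_eq 𝒳.p k₁ ψ },
    ψ ≫ a, ψ' ≫ d, trivial⟩

theorem rel_equivalence (h : IsFibGrpd 𝒳.p) : _root_.Equivalence (@FPt.Rel S 𝒳) :=
  ⟨rel_refl, rel_symm, rel_trans h⟩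

theorem rel_of_mk_eq (h : IsFibGrpd 𝒳.p) {p q : FPt 𝒳}
    (e : AlgSt.Points.mk p = AlgSt.Points.mk q) : FPt.Rel p q :=
  (rel_equivalence h).eqvGen_iff.1 (Quot.eqvGen_exact e)

/-- A fully faithful functor is injective on points. -/
theorem injective_map (h𝒳 : IsFibGrpd 𝒳.p) (h𝒴 : IsFibGrpd 𝒴.p) (f : 𝒳 ⥤ᵇ 𝒴) [f.toFunctor.Full] :
    Function.Injective (AlgSt.Points.map f) := by
  intro x y e
  obtain ⟨p, rfl⟩ := AlgSt.Points.mk_surjective x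
  obtain ⟨q, rfl⟩ := AlgSt.Points.mk_surjective y
  obtain ⟨r, a, b, -⟩ := rel_of_mk_eq h𝒴 e
  let ga : Over.mk r.str ⟶ 𝒳.p.obj p.obj :=
    eqToHom r.lies.symm ≫ 𝒴.p.map a ≫ eqToHom (f.w_obj p.obj)
  let gb : Over.mk r.str ⟶ 𝒳.p.obj q.obj :=
    eqToHom r.lies.symm ≫ 𝒴.p.map b ≫ eqToHom (f.w_obj q.obj)
  obtain ⟨z, φ, hφ⟩ := exists_lift' h𝒳 ga (rfl : 𝒳.p.obj p.obj = _)
  obtain ⟨z', φ', hφ'⟩ := exists_lift' h𝒳 gb (rfl : 𝒳.p.obj q.obj = _)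
  have hz : 𝒳.p.obj z = Over.mk r.str := IsHomLift.domain_eq 𝒳.p ga φ
  have hz' : 𝒳.p.obj z' = Over.mk r.str := IsHomLift.domain_eq 𝒳.p gb φ'
  have ha : 𝒴.p.IsHomLift ((eqToHom ((f.w_obj z).trans (hz.trans r.lies.symm))) ≫ 𝒴.p.map a) (f.map φ) := by
    have h1 : 𝒴.p.IsHomLift ga (f.map φ) := inferInstance
    refine IsHomLift.of_fac' _ _ _ rfl rfl ?_
    rw [IsHomLift.fac' 𝒴.p ga (f.map φ)]
    simp [ga]
  obtain ⟨α, hα, -⟩ := exists_lift_through h𝒴 a (f.map φ) (eqToHom ((f.w_obj z).trans (hz.trans r.lies.symm)))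
  have hb : 𝒴.p.IsHomLift ((eqToHom ((f.w_obj z').trans (hz'.trans r.lies.symm))) ≫ 𝒴.p.map b) (f.map φ') := by
    have h1 : 𝒴.p.IsHomLift gb (f.map φ') := inferInstance
    refine IsHomLift.of_fac' _ _ _ rfl rfl ?_
    rw [IsHomLift.fac' 𝒴.p gb (f.map φ')]
    simp [gb]
  obtain ⟨β, hβ, -⟩ := exists_lift_through h𝒴 b (f.map φ') (eqToHom ((f.w_obj z').trans (hz'.trans r.lies.symm)))
  have : IsIso β := isIso_of_isHomLift_iso h𝒴 (eqToHom ((f.w_obj z').trans (hz'.trans r.lies.symm))) β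
  obtain ⟨γ, -⟩ := f.toFunctor.map_surjective (α ≫ inv β)
  exact AlgSt.Points.sound
    ⟨{ K := r.K, str := r.str, obj := z, lies := hz }, φ, γ ≫ φ', trivial⟩

end Groth.Agent.Lib.AlgStack.Points
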