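import Groth.Agent.Lib.AlgStack.Comp
import Groth.Agent.Lib.AlgStack.Diag
import Groth.Prelude.Def_AlgSt3

/-!
# Composition for properties detected after base change to schemes; cancellation
-/

set_option autoImplicit false
set_option backward.isDefEq.respectTransparency false
set_option backward.isDefEq.respectTransparency.types false

universe u

open CategoryTheory CategoryTheory.Limits AlgebraicGeometry Opposite

namespace Groth.Agent.Lib.AlgStack.CompRep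

open BasedBasic OfPsh FibProd Rep Space
open FibCat (IsEquivOver IsFibGrpd fp fpFst fpSnd fpLift fpIso overCat toSelf)
open AlgSt (ofSp ofSpMap spMapOfOver RepByAlgSp RepByAlgSp1 RepByAlgSpWith)
open AlgSp (Sp yon IsAlgSpace RepWith)

variable {S : Scheme.{u}}

/-- `P` of a morphism of algebraic spaces can be tested after base change to schemes. -/
def Detected (P : MorphismProperty (Sp S)) : Prop :=
  ∀ ⦃G F : Sp S⦄ (b : G ⟶ F), IsAlgSpace G → IsAlgSpace F →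
    (∀ ⦃U : Over S⦄ (ξ : (yon S).obj U ⟶ F) ⦃P' : Sp S⦄ (p : P' ⟶ G) (q : P' ⟶ (yon S).obj U),
      IsPullback p q b ξ → P q) → P b

theorem detected_monomorphisms : Detected (MorphismProperty.monomorphisms (Sp S)) := by
  intro G F b _ _ h
  refine AlgSpace.mono_of_yon b fun T a₁ a₂ w => ?_
  have sq := IsPullback.of_hasPullback b (a₁ ≫ b)
  have : CategoryTheory.Mono (pullback.snd b (a₁ ≫ b)) := h _ _ _ sq
  have e : pullback.lift a₁ (𝟙 _) (by simp) = pullback.lift (f := b) (g := a₁ ≫ b) a₂ (𝟙 _) (by simp [w]) := by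
    rw [← cancel_mono (pullback.snd b (a₁ ≫ b))]
    simp
  simpa using congrArg (· ≫ pullback.fst b (a₁ ≫ b)) e

theorem detected_repWith (Q : MorphismProperty Scheme.{u}) [Q.IsStableUnderBaseChange] :
    Detected (RepWith Q : MorphismProperty (Sp S)) := by
  intro G F b _ _ h
  refine AlgSpace.repWith_of_exists fun U ξ => ?_
  have sq := IsPullback.of_hasPullback b ξ
  obtain ⟨V, g, fst, sq', hg⟩ := AlgSpace.repWith_exists (h ξ _ _ sq) (𝟙 _)
  refine ⟨V, g, fst ≫ pullback.fst b ξ, ?_, hg⟩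
  simpa using sq'.paste_horiz sq

variable {𝒳 𝒴 𝒵 : AlgSt.Cat S}

/-- Composition, for detected properties stable under composition. -/
theorem repByAlgSpWith_comp_of_detected {P : MorphismProperty (Sp S)} (hP : RespectsIsoSp P)
    (hPc : ∀ ⦃X Y Z : Sp S⦄, IsAlgSpace X → IsAlgSpace Y → IsAlgSpace Z →
      ∀ (a : X ⟶ Y) (b : Y ⟶ Z), P a → P b → P (a ≫ b))
    (hd : Detected P) (h𝒳 : IsFibGrpd 𝒳.p) (h𝒴 : IsFibGrpd 𝒴.p) {f : 𝒳 ⥤ᵇ 𝒴}
    (hf : RepByAlgSpWith P f) {g : 𝒴 ⥤ᵇ 𝒵} (hg : RepByAlgSpWith P g) :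
    RepByAlgSpWith P (BasedFunctor.comp f g) := by
  intro U y
  obtain ⟨A, e, he, hA⟩ := hg U y
  obtain ⟨G, b, t, ht, ⟨β⟩, hprop⟩ :=
    exists_rep_toSpace h𝒳 h𝒴 (repByAlgSp1_of_repByAlgSpWith hf) (BasedFunctor.comp e (fpSnd y g))
  have hb : P b := hd b G.property A.property fun U' ξ P' p q sq => hprop P hP hf ξ p q sq
  have : (BasedFunctor.id 𝒴).toFunctor.Full := inferInstanceAs (𝟭 𝒴.obj).Full
  have : (BasedFunctor.id 𝒴).toFunctor.Faithful := inferInstanceAs (𝟭 𝒴.obj).Faithful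
  have h1 := isEquivOver_fpMap e (BasedFunctor.id 𝒳) (BasedFunctor.id 𝒴)
    (F := fpSnd y g) (G := f) (F' := BasedFunctor.comp e (fpSnd y g)) (G' := f)
    (Iso.refl _) (Iso.refl _) he BasedBasic.isEquivOver_id
  refine ⟨G, _, BasedBasic.IsEquivOver.comp ht
    (BasedBasic.IsEquivOver.comp h1 (isEquivOver_pasteComp y g f)), ?_⟩
  change P (spMapOfOver (BasedFunctor.comp (BasedFunctor.comp t (fpFst _ f))
    (BasedFunctor.comp e (fpFst y g))))
  rw [spMapOfOver_eq_of_iso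
    (BasedBasic.isoWhiskerRight β (BasedFunctor.comp e (fpFst y g))), spMapOfOver_precomp]
  exact hPc G.property A.property (IsAlgSpace.yon_obj U) _ _ hb hA

theorem repByAlgSpWith_comp_repWith (Q : MorphismProperty Scheme.{u}) [Q.IsStableUnderBaseChange]
    [Q.IsStableUnderComposition] (h𝒳 : IsFibGrpd 𝒳.p) (h𝒴 : IsFibGrpd 𝒴.p) {f : 𝒳 ⥤ᵇ 𝒴}
    (hf : RepByAlgSpWith (RepWith Q) f) {g : 𝒴 ⥤ᵇ 𝒵} (hg : RepByAlgSpWith (RepWith Q) g) :
    RepByAlgSpWith (RepWith Q) (BasedFunctor.comp f g) :=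
  repByAlgSpWith_comp_of_detected respectsIsoSp_of_respectsIso
    (fun _ _ _ _ _ _ _ _ ha hb => AlgSpace.repWith_comp ha hb) (detected_repWith Q) h𝒳 h𝒴 hf hg

theorem repByAlgSpWith_comp_mono (h𝒳 : IsFibGrpd 𝒳.p) (h𝒴 : IsFibGrpd 𝒴.p) {f : 𝒳 ⥤ᵇ 𝒴}
    (hf : AlgSt.IsMono f) {g : 𝒴 ⥤ᵇ 𝒵} (hg : AlgSt.IsMono g) :
    AlgSt.IsMono (BasedFunctor.comp f g) :=
  repByAlgSpWith_comp_of_detected respectsIsoSp_of_respectsIso
    (fun _ _ _ _ _ _ a b (ha : CategoryTheory.Mono a) (hb : CategoryTheory.Mono b) =>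
      (mono_comp a b : CategoryTheory.Mono (a ≫ b))) detected_monomorphisms h𝒳 h𝒴 hf hg

section Cancel

universe v₂ u₂ v₃ u₃ v₄ u₄ v u₀

variable {C : Type u₀} [Category.{v} C] {𝒰 : BasedCategory.{v₂, u₂} C}
  {𝒱 : BasedCategory.{v₃, u₃} C} {ℰ ℱ : BasedCategory.{v₄, u₄} C}

/-- The 2-cell comparing the two ways into `ℱ ×_ℰ ℱ`. -/
def relDiagIso (g : ℱ ⥤ᵇ ℰ) (y : 𝒰 ⥤ᵇ ℱ) (f : 𝒱 ⥤ᵇ ℱ) :
    fpLift (BasedFunctor.comp (fpFst y f) y) (BasedFunctor.comp (fpSnd y f) f)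
        (BasedBasic.isoWhiskerRight (fpIso y f) g) ≅
      BasedFunctor.comp (BasedFunctor.comp (fpSnd y f) f) (FibCat.diag g) :=
  BasedNatIso.mkNatIso (NatIso.ofComponents
    (fun a =>
      { hom := FibProd.homMk a.obj.iso.hom (𝟙 (f.obj a.obj.snd)) (by
          change g.map a.obj.iso.hom ≫ 𝟙 _ = g.map a.obj.iso.hom ≫ g.map (𝟙 _)
          simp)
        inv := FibProd.homMk a.obj.iso.inv (𝟙 (f.obj a.obj.snd)) (by
          change g.map a.obj.iso.inv ≫ g.map a.obj.iso.hom = 𝟙 _ ≫ g.map (𝟙 _)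
          simp [← Functor.map_comp])
        hom_inv_id := FibProd.hom_ext a.obj.iso.hom_inv_id (Category.id_comp _)
        inv_hom_id := FibProd.hom_ext a.obj.iso.inv_hom_id (Category.id_comp _) })
    (fun {a b} m => FibProd.hom_ext m.hom.w
      ((Category.comp_id _).trans (Category.id_comp _).symm)))
    (fun a => by
      have h : ℱ.p.IsHomLift (𝟙 (𝒰.p.obj a.obj.fst)) a.obj.iso.hom := a.property
      exact IsHomLift.of_fac' _ _ _ (y.w_obj _) ((f.w_obj _).trans (FibProd.snd_obj a))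
        (IsHomLift.fac' ℱ.p (𝟙 (𝒰.p.obj a.obj.fst)) a.obj.iso.hom))

/-- A fibre product as a base change of a relative diagonal. -/
def toRelDiag (g : ℱ ⥤ᵇ ℰ) (y : 𝒰 ⥤ᵇ ℱ) (f : 𝒱 ⥤ᵇ ℱ) :
    fp y f ⥤ᵇ fp (fpLift (BasedFunctor.comp (fpFst (BasedFunctor.comp y g) (BasedFunctor.comp f g)) y)
      (BasedFunctor.comp (fpSnd (BasedFunctor.comp y g) (BasedFunctor.comp f g)) f)
      (fpIso (BasedFunctor.comp y g) (BasedFunctor.comp f g))) (FibCat.diag g) :=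
  fpLift (fpLift (fpFst y f) (fpSnd y f) (BasedBasic.isoWhiskerRight (fpIso y f) g))
    (BasedFunctor.comp (fpSnd y f) f) (relDiagIso g y f)

theorem isEquivOver_toRelDiag (g : ℱ ⥤ᵇ ℰ) (y : 𝒰 ⥤ᵇ ℱ) (f : 𝒱 ⥤ᵇ ℱ) :
    IsEquivOver (toRelDiag g y f) := by
  have : (toRelDiag g y f).toFunctor.Faithful := ⟨fun {a b φ ψ} h =>
    FibProd.hom_ext (congrArg (fun m => m.hom.fst.hom.fst) h)
      (congrArg (fun m => m.hom.fst.hom.snd) h)⟩
  have : (toRelDiag g y f).toFunctor.Full := ⟨fun {a b} m => by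
    have w1 : y.map m.hom.fst.hom.fst ≫ b.obj.iso.hom = a.obj.iso.hom ≫ m.hom.snd :=
      congrArg (fun m => m.hom.fst) m.hom.w
    have w2 : f.map m.hom.fst.hom.snd ≫ 𝟙 _ = 𝟙 _ ≫ m.hom.snd :=
      congrArg (fun m => m.hom.snd) m.hom.w
    have e : f.map m.hom.fst.hom.snd = m.hom.snd :=
      (Category.comp_id _).symm.trans (w2.trans (Category.id_comp _))
    exact ⟨FibProd.homMk m.hom.fst.hom.fst m.hom.fst.hom.snd (by rw [w1, ← e]),
      FibProd.hom_ext (FibProd.hom_ext rfl rfl) e⟩⟩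
  refine isEquivOver_of _ fun η => ?_
  let v := η.obj.fst.obj.fst
  let t := η.obj.fst.obj.snd
  let j₁ : y.obj v ≅ η.obj.snd := (fpFst g g).toFunctor.mapIso η.obj.iso
  let j₂ : f.obj t ≅ η.obj.snd := (fpSnd g g).toFunctor.mapIso η.obj.iso
  let T := 𝒰.p.obj v
  have hη : (fp g g).p.IsHomLift (𝟙 T) η.obj.iso.hom := η.property
  have hj₁ : ℱ.p.IsHomLift (𝟙 T) j₁.hom := BasedFunctor.preserves_isHomLift (fpFst g g) _ _
  have hj₂ : ℱ.p.IsHomLift (𝟙 T) j₂.hom := BasedFunctor.preserves_isHomLift (fpSnd g g) _ _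
  have hj₂' : ℱ.p.IsHomLift (𝟙 T) j₂.inv := IsHomLift.lift_id_inv ℱ.p T j₂
  have hl : ℱ.p.IsHomLift (𝟙 T) (j₁ ≪≫ j₂.symm).hom := by
    change ℱ.p.IsHomLift (𝟙 T) (j₁.hom ≫ j₂.inv); infer_instance
  let a : (fp y f).obj := FibProd.objMk v t (j₁ ≪≫ j₂.symm) hl
  have hw : g.map j₁.hom ≫ 𝟙 _ = η.obj.fst.obj.iso.hom ≫ g.map j₂.hom := η.obj.iso.hom.hom.w
  have hφ : g.map (j₁.hom ≫ j₂.inv) = η.obj.fst.obj.iso.hom := by
    rw [Category.comp_id] at hw
    rw [Functor.map_comp, hw, Category.assoc, ← Functor.map_comp, Iso.hom_inv_id]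
    simp
    exact Category.comp_id η.obj.fst.obj.iso.hom
  let E : ((toRelDiag g y f).obj a).obj.fst ≅ η.obj.fst :=
    { hom := FibProd.homMk (𝟙 v) (𝟙 t) (by
        change g.map (y.map (𝟙 v)) ≫ η.obj.fst.obj.iso.hom = g.map (j₁.hom ≫ j₂.inv) ≫ g.map (f.map (𝟙 t))
        have h1 : g.map (y.map (𝟙 v)) = 𝟙 _ := (congrArg g.map (CategoryTheory.Functor.map_id y.toFunctor v)).trans (CategoryTheory.Functor.map_id g.toFunctor _)
        have h2 : g.map (f.map (𝟙 t)) = 𝟙 _ := (congrArg g.map (CategoryTheory.Functor.map_id f.toFunctor t)).trans (CategoryTheory.Functor.map_id g.toFunctor _)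
        rw [hφ, h1, h2]
        exact (Category.id_comp _).trans (Category.comp_id _).symm)
      inv := FibProd.homMk (𝟙 v) (𝟙 t) (by
        change g.map (y.map (𝟙 v)) ≫ g.map (j₁.hom ≫ j₂.inv) = η.obj.fst.obj.iso.hom ≫ g.map (f.map (𝟙 t))
        have h1 : g.map (y.map (𝟙 v)) = 𝟙 _ := (congrArg g.map (CategoryTheory.Functor.map_id y.toFunctor v)).trans (CategoryTheory.Functor.map_id g.toFunctor _)
        have h2 : g.map (f.map (𝟙 t)) = 𝟙 _ := (congrArg g.map (CategoryTheory.Functor.map_id f.toFunctor t)).trans (CategoryTheory.Functor.map_id g.toFunctor _)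
        rw [hφ, h1, h2]
        exact (Category.id_comp _).trans (Category.comp_id _).symm)
      hom_inv_id := FibProd.hom_ext (Category.id_comp _) (Category.id_comp _)
      inv_hom_id := FibProd.hom_ext (Category.id_comp _) (Category.id_comp _) }
  refine ⟨a, exists_iso_over E j₂ (FibProd.hom_ext ?_ ?_)
    (IsHomLift.of_fac' _ _ _ rfl rfl (IsHomLift.fac' 𝒰.p (𝟙 T) (𝟙 v)))⟩
  · change y.map (𝟙 v) ≫ j₁.hom = (j₁.hom ≫ j₂.inv) ≫ j₂.hom
    simp
  · change f.map (𝟙 t) ≫ j₂.hom = 𝟙 _ ≫ j₂.hom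
    simp

end Cancel

/-- Cancellation: `f` is representable if `g ∘ f` and the diagonal of `g` are. -/
theorem repByAlgSp1_of_comp (h𝒴 : IsFibGrpd 𝒴.p) (h𝒵 : IsFibGrpd 𝒵.p) {f : 𝒳 ⥤ᵇ 𝒴} {g : 𝒴 ⥤ᵇ 𝒵}
    (hgf : RepByAlgSp1 (BasedFunctor.comp f g)) (hΔ : RepByAlgSp1 (FibCat.diag g)) :
    RepByAlgSp1 f := fun U y => by
  obtain ⟨A, e, he⟩ := hgf U (BasedFunctor.comp y g)
  let z := fpLift (BasedFunctor.comp (fpFst (BasedFunctor.comp y g) (BasedFunctor.comp f g)) y)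
    (BasedFunctor.comp (fpSnd (BasedFunctor.comp y g) (BasedFunctor.comp f g)) f)
    (fpIso (BasedFunctor.comp y g) (BasedFunctor.comp f g))
  have h2 := repByAlgSp_fp_ofSp h𝒴 (isFibGrpd_fp h𝒴 h𝒴 h𝒵) hΔ (BasedFunctor.comp e z)
  have : (BasedFunctor.id (fp g g)).toFunctor.Full := inferInstanceAs (𝟭 (fp g g).obj).Full
  have : (BasedFunctor.id (fp g g)).toFunctor.Faithful := inferInstanceAs (𝟭 (fp g g).obj).Faithful
  have h1 := isEquivOver_fpMap e (BasedFunctor.id 𝒴) (BasedFunctor.id (fp g g))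
    (F := z) (G := FibCat.diag g) (F' := BasedFunctor.comp e z) (G' := FibCat.diag g)
    (Iso.refl _) (Iso.refl _) he BasedBasic.isEquivOver_id
  exact repByAlgSp_of_equiv' (isEquivOver_toRelDiag g y f) (repByAlgSp_of_equiv h1 h2)

end Groth.Agent.Lib.AlgStack.CompRep
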