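import Groth.Agent.Lib.AlgStack.StkBasic
import Groth.Agent.Lib.AlgStack.FibProd

/-!
# 2-fibre products of stacks; stacks relatively given by stacks
-/

set_option autoImplicit false
set_option backward.isDefEq.respectTransparency false
set_option backward.isDefEq.respectTransparency.types false

universe v₄ u₄ v₃ u₃ v₂ u₂ v₁ u₁ v u

open CategoryTheory Opposite

namespace Groth.Agent.Lib.AlgStack.StkFp

open BasedBasic FibProd StkBasic
open FibCat (IsEquivOver IsFibGrpd overCat fp fpFst fpSnd fpLift fpIso)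
open Stk (sieveCat sieveIncl resSieve restr IsStack IsPrestack IsStackFor IsPrestackFor)

variable {C : Type u} [Category.{v} C]

section Hom

variable {𝒜 : BasedCategory.{v₁, u₁} C} {𝒳 : BasedCategory.{v₂, u₂} C}
  {𝒴 : BasedCategory.{v₃, u₃} C} {𝒮 : BasedCategory.{v₄, u₄} C} {F : 𝒳 ⥤ᵇ 𝒮} {G : 𝒴 ⥤ᵇ 𝒮}

/-- Morphisms of functors into a 2-fibre product from components. -/
def fpHom {Φ Ψ : 𝒜 ⥤ᵇ fp F G}
    (a : BasedFunctor.comp Φ (fpFst F G) ⟶ BasedFunctor.comp Ψ (fpFst F G))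
    (b : BasedFunctor.comp Φ (fpSnd F G) ⟶ BasedFunctor.comp Ψ (fpSnd F G))
    (w : ∀ x, F.map (a.toNatTrans.app x) ≫ (Ψ.obj x).obj.iso.hom =
      (Φ.obj x).obj.iso.hom ≫ G.map (b.toNatTrans.app x)) : Φ ⟶ Ψ where
  toNatTrans :=
    { app := fun x => FibProd.homMk (a.toNatTrans.app x) (b.toNatTrans.app x) (w x)
      naturality := fun _ _ f => FibProd.hom_ext (a.toNatTrans.naturality f) (b.toNatTrans.naturality f) }
  isHomLift' := fun x => by
    have h : 𝒳.p.IsHomLift (𝟙 (𝒜.p.obj x)) (a.toNatTrans.app x) := BasedNatTrans.isHomLift a rfl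
    exact IsHomLift.of_fac' _ _ _ (Φ.w_obj x) (Ψ.w_obj x)
      (IsHomLift.fac' 𝒳.p (𝟙 (𝒜.p.obj x)) (a.toNatTrans.app x))

theorem fpHom_ext {Φ Ψ : 𝒜 ⥤ᵇ fp F G} {α β : Φ ⟶ Ψ}
    (h1 : BasedCategory.whiskerRight α (fpFst F G) = BasedCategory.whiskerRight β (fpFst F G))
    (h2 : BasedCategory.whiskerRight α (fpSnd F G) = BasedCategory.whiskerRight β (fpSnd F G)) :
    α = β :=
  StkBasic.hom_ext fun a => FibProd.hom_ext (congrArg (fun t => t.toNatTrans.app a) h1)
    (congrArg (fun t => t.toNatTrans.app a) h2)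

end Hom

section Fp

variable {𝒳 : BasedCategory.{v₂, u₂} C} {𝒴 : BasedCategory.{v₃, u₃} C}
  {𝒮 : BasedCategory.{v₄, u₄} C} {F : 𝒳 ⥤ᵇ 𝒮} {G : 𝒴 ⥤ᵇ 𝒮} {U : C} {R : Sieve U}

theorem isPrestackFor_fp (hX : IsPrestackFor R 𝒳) (hY : IsPrestackFor R 𝒴)
    (hS : (resSieve R 𝒮).Faithful) : IsPrestackFor R (fp F G) := by
  have := hX.1; have := hX.2; have := hY.1; have := hY.2
  refine ⟨⟨fun {Φ Ψ} m => ?_⟩, ⟨fun {Φ Ψ α β} h => fpHom_ext ?_ ?_⟩⟩
  · let m₁ : (resSieve R 𝒳).obj (BasedFunctor.comp Φ (fpFst F G)) ⟶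
        (resSieve R 𝒳).obj (BasedFunctor.comp Ψ (fpFst F G)) := BasedCategory.whiskerRight m (fpFst F G)
    let m₂ : (resSieve R 𝒴).obj (BasedFunctor.comp Φ (fpSnd F G)) ⟶
        (resSieve R 𝒴).obj (BasedFunctor.comp Ψ (fpSnd F G)) := BasedCategory.whiskerRight m (fpSnd F G)
    obtain ⟨a, ha⟩ := (resSieve R 𝒳).map_surjective m₁
    obtain ⟨b, hb⟩ := (resSieve R 𝒴).map_surjective m₂
    let l : BasedFunctor.comp (BasedFunctor.comp Φ (fpFst F G)) F ⟶ BasedFunctor.comp (BasedFunctor.comp Ψ (fpSnd F G)) G :=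
      BasedCategory.whiskerRight a F ≫ BasedCategory.whiskerLeft Ψ (fpIso F G).hom
    let r : BasedFunctor.comp (BasedFunctor.comp Φ (fpFst F G)) F ⟶ BasedFunctor.comp (BasedFunctor.comp Ψ (fpSnd F G)) G :=
      BasedCategory.whiskerLeft Φ (fpIso F G).hom ≫ BasedCategory.whiskerRight b G
    have hlr : l = r := (resSieve R 𝒮).map_injective (StkBasic.hom_ext fun x => by
      have e1 : a.toNatTrans.app ((sieveIncl R).obj x) = (m.toNatTrans.app x).hom.fst :=
        congrArg (fun t => t.toNatTrans.app x) ha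
      have e2 : b.toNatTrans.app ((sieveIncl R).obj x) = (m.toNatTrans.app x).hom.snd :=
        congrArg (fun t => t.toNatTrans.app x) hb
      change F.map (a.toNatTrans.app ((sieveIncl R).obj x)) ≫ (Ψ.obj ((sieveIncl R).obj x)).obj.iso.hom =
        (Φ.obj ((sieveIncl R).obj x)).obj.iso.hom ≫ G.map (b.toNatTrans.app ((sieveIncl R).obj x))
      rw [e1, e2]
      exact (m.toNatTrans.app x).hom.w)
    exact ⟨fpHom a b (fun x => congrArg (fun t => t.toNatTrans.app x) hlr),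
      StkBasic.hom_ext fun x => FibProd.hom_ext (congrArg (fun t => t.toNatTrans.app x) ha)
        (congrArg (fun t => t.toNatTrans.app x) hb)⟩
  · exact (resSieve R 𝒳).map_injective (StkBasic.hom_ext fun x =>
      congrArg (fun t => (t.toNatTrans.app x).hom.fst) h)
  · exact (resSieve R 𝒴).map_injective (StkBasic.hom_ext fun x =>
      congrArg (fun t => (t.toNatTrans.app x).hom.snd) h)

theorem isStackFor_fp (hX : IsStackFor R 𝒳) (hY : IsStackFor R 𝒴) (hS : IsPrestackFor R 𝒮)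
    (hg : IsFibGrpd (fp F G).p) : IsStackFor R (fp F G) := by
  have : (resSieve R 𝒳).IsEquivalence := hX
  have : (resSieve R 𝒴).IsEquivalence := hY
  have := hS.1; have := hS.2
  obtain ⟨hfull, hfaith⟩ := isPrestackFor_fp (F := F) (G := G) (R := R) ⟨inferInstance, inferInstance⟩
    ⟨inferInstance, inferInstance⟩ hS.2
  have hess : (resSieve R (fp F G)).EssSurj := ⟨fun Θ => by
    let A := (resSieve R 𝒳).objPreimage (BasedFunctor.comp Θ (fpFst F G))
    let α : (resSieve R 𝒳).obj A ≅ BasedFunctor.comp Θ (fpFst F G) := (resSieve R 𝒳).objObjPreimageIso _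
    let B := (resSieve R 𝒴).objPreimage (BasedFunctor.comp Θ (fpSnd F G))
    let β : (resSieve R 𝒴).obj B ≅ BasedFunctor.comp Θ (fpSnd F G) := (resSieve R 𝒴).objObjPreimageIso _
    let e' : (resSieve R 𝒮).obj (BasedFunctor.comp A F) ≅ (resSieve R 𝒮).obj (BasedFunctor.comp B G) :=
      BasedBasic.isoWhiskerRight α F ≪≫ BasedBasic.isoWhiskerLeft Θ (fpIso F G) ≪≫
        (BasedBasic.isoWhiskerRight β G).symm
    let e := (resSieve R 𝒮).preimageIso e'
    let h : (resSieve R (fp F G)).obj (fpLift A B e) ⟶ Θ := fpHom α.hom β.hom (fun x => by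
      have e1 : e.hom.toNatTrans.app ((sieveIncl R).obj x) = F.map (α.hom.toNatTrans.app x) ≫
          (Θ.obj x).obj.iso.hom ≫ G.map (β.inv.toNatTrans.app x) :=
        congrArg (fun t => t.toNatTrans.app x) ((resSieve R 𝒮).map_preimage e'.hom)
      change F.map (α.hom.toNatTrans.app x) ≫ (Θ.obj x).obj.iso.hom =
        e.hom.toNatTrans.app ((sieveIncl R).obj x) ≫ G.map (β.hom.toNatTrans.app x)
      rw [e1]
      have e2 : β.inv.toNatTrans.app x ≫ β.hom.toNatTrans.app x = 𝟙 _ :=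
        congrArg (fun t => t.toNatTrans.app x) β.inv_hom_id
      simp only [Category.assoc]
      erw [← CategoryTheory.Functor.map_comp, e2, CategoryTheory.Functor.map_id, Category.comp_id])
    have := StkBasic.isIso_hom hg h
    exact ⟨fpLift A B e, ⟨asIso h⟩⟩⟩
  exact { }

theorem isStack_fp {J : GrothendieckTopology C} (hX : IsStack J 𝒳) (hY : IsStack J 𝒴)
    (hS : IsPrestack J 𝒮) : IsStack J (fp F G) :=
  ⟨isFibGrpd_fp hX.1 hY.1 hS.1, fun _ R hR =>
    isStackFor_fp (hX.2 R hR) (hY.2 R hR) (hS.2 R hR) (isFibGrpd_fp hX.1 hY.1 hS.1)⟩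

end Fp

section Relative

variable {𝒳 : BasedCategory.{v₂, u₂} C} {𝒴 : BasedCategory.{v₃, u₃} C} {U : C} {R : Sieve U}

/-- A category over a stack all of whose base changes to slices are stacks is a stack. -/
theorem isStackFor_of_relative (hX : IsFibGrpd 𝒳.p) (hY' : IsFibGrpd 𝒴.p) (j : 𝒳 ⥤ᵇ 𝒴)
    [j.toFunctor.Faithful] (hY : IsStackFor R 𝒴)
    (h : ∀ y : overCat U ⥤ᵇ 𝒴, IsStackFor R (fp y j)) : IsStackFor R 𝒳 := by
  have : (resSieve R 𝒴).IsEquivalence := hY
  have hfaith : (resSieve R 𝒳).Faithful := ⟨fun {Φ Ψ α β} e => by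
    have e' : BasedCategory.whiskerRight α j = BasedCategory.whiskerRight β j :=
      (resSieve R 𝒴).map_injective (StkBasic.hom_ext fun x =>
        congrArg (fun t : (resSieve R 𝒳).obj Φ ⟶ (resSieve R 𝒳).obj Ψ => j.map (t.toNatTrans.app x)) e)
    exact StkBasic.hom_ext fun a => j.toFunctor.map_injective (congrArg (fun t => t.toNatTrans.app a) e')⟩
  have hfull : (resSieve R 𝒳).Full := ⟨fun {Φ Ψ} m => by
    obtain ⟨n, hn⟩ := (resSieve R 𝒴).map_surjective
      (X := BasedFunctor.comp Φ j) (Y := BasedFunctor.comp Ψ j) (BasedCategory.whiskerRight m j)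
    have := StkBasic.isIso_hom hY' n
    let y := BasedFunctor.comp Ψ j
    let Φ' : overCat U ⥤ᵇ fp y j := fpLift (BasedFunctor.id _) Φ (asIso n).symm
    let Ψ' : overCat U ⥤ᵇ fp y j := fpLift (BasedFunctor.id _) Ψ (Iso.refl y)
    have hf : (resSieve R (fp y j)).IsEquivalence := h y
    let m' : (resSieve R (fp y j)).obj Φ' ⟶ (resSieve R (fp y j)).obj Ψ' :=
      fpHom (𝟙 (sieveIncl R)) m (fun x => by
        have e1 : n.toNatTrans.app ((sieveIncl R).obj x) = j.map (m.toNatTrans.app x) :=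
          congrArg (fun t => t.toNatTrans.app x) hn
        change y.map (𝟙 ((sieveIncl R).obj x)) ≫ 𝟙 _ =
          (inv n).toNatTrans.app ((sieveIncl R).obj x) ≫ j.map (m.toNatTrans.app x)
        rw [← e1]
        have e2 : (inv n).toNatTrans.app ((sieveIncl R).obj x) ≫ n.toNatTrans.app ((sieveIncl R).obj x) = 𝟙 _ :=
          congrArg (fun t => t.toNatTrans.app ((sieveIncl R).obj x)) (IsIso.inv_hom_id n)
        rw [e2]
        exact (Category.comp_id _).trans (CategoryTheory.Functor.map_id _ _))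
    obtain ⟨k, hk⟩ := (resSieve R (fp y j)).map_surjective m'
    exact ⟨BasedCategory.whiskerRight k (fpSnd y j),
      StkBasic.hom_ext fun x => congrArg (fun t => (t.toNatTrans.app x).hom.snd) hk⟩⟩
  have hess : (resSieve R 𝒳).EssSurj := ⟨fun Θ => by
    let y := (resSieve R 𝒴).objPreimage (BasedFunctor.comp Θ j)
    let e : (resSieve R 𝒴).obj y ≅ BasedFunctor.comp Θ j := (resSieve R 𝒴).objObjPreimageIso _
    have hf : (resSieve R (fp y j)).IsEquivalence := h y
    let Θ' : sieveCat R ⥤ᵇ fp y j := fpLift (sieveIncl R) Θ e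
    let Φ' := (resSieve R (fp y j)).objPreimage Θ'
    let i : (resSieve R (fp y j)).obj Φ' ≅ Θ' := (resSieve R (fp y j)).objObjPreimageIso _
    exact ⟨BasedFunctor.comp Φ' (fpSnd y j), ⟨BasedBasic.isoWhiskerRight i (fpSnd y j)⟩⟩⟩
  exact { }

end Relative

end Groth.Agent.Lib.AlgStack.StkFp
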