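import Groth.Agent.Lib.AlgStack.Diag
import Groth.Agent.Lib.AlgStack.CompRep
import Groth.Agent.Lib.AlgStack.Prod
import Groth.Agent.Lib.AlgStack.StkFp
import Groth.Agent.Lib.Fibred.SelfOver

/-!
# Diagonals of representable functors, products, 2-fibre products
-/

set_option autoImplicit false
set_option backward.isDefEq.respectTransparency false
set_option backward.isDefEq.respectTransparency.types false

universe u

open CategoryTheory CategoryTheory.Limits AlgebraicGeometry Opposite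

namespace Groth.Agent.Lib.AlgStack.DiagRel

open BasedBasic Yoneda FibProd Rep Space
open FibCat (IsEquivOver IsFibGrpd fp fpFst fpSnd fpLift fpIso overCat toSelf)
open AlgSt (RepByAlgSp RepByAlgSp1 RepByAlgSpWith)

section Generic

universe v₂ u₂ v₄ u₄ v u₀

variable {C : Type u₀} [Category.{v} C] {𝒲 : BasedCategory.{v₂, u₂} C}
  {ℰ ℱ : BasedCategory.{v₄, u₄} C} (g : ℱ ⥤ᵇ ℰ) (z : 𝒲 ⥤ᵇ fp g g)

/-- The first point. -/
abbrev ptFst : 𝒲 ⥤ᵇ fp (BasedFunctor.comp (BasedFunctor.comp z (fpFst g g)) g) g :=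
  fpLift (BasedFunctor.id 𝒲) (BasedFunctor.comp z (fpFst g g)) (Iso.refl _)

/-- The second point. -/
abbrev ptSnd : 𝒲 ⥤ᵇ fp (BasedFunctor.comp (BasedFunctor.comp z (fpFst g g)) g) g :=
  fpLift (BasedFunctor.id 𝒲) (BasedFunctor.comp z (fpSnd g g))
    (BasedBasic.isoWhiskerLeft z (fpIso g g))

/-- The comparison of the two components over the diagonal. -/
abbrev midIso : BasedFunctor.comp (fpFst z (FibCat.diag g)) (BasedFunctor.comp z (fpFst g g)) ≅
    BasedFunctor.comp (fpFst z (FibCat.diag g)) (BasedFunctor.comp z (fpSnd g g)) :=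
  BasedBasic.isoWhiskerRight (fpIso z (FibCat.diag g)) (fpFst g g) ≪≫
    (BasedBasic.isoWhiskerRight (fpIso z (FibCat.diag g)) (fpSnd g g)).symm

theorem map_midIso (η : (fp z (FibCat.diag g)).obj) :
    g.map ((midIso g z).hom.toNatTrans.app η) = (z.obj η.obj.fst).obj.iso.hom := by
  have hw : g.map η.obj.iso.hom.hom.fst ≫ 𝟙 _ =
      (z.obj η.obj.fst).obj.iso.hom ≫ g.map η.obj.iso.hom.hom.snd := η.obj.iso.hom.hom.w
  change g.map (η.obj.iso.hom.hom.fst ≫ η.obj.iso.inv.hom.snd) = _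
  rw [Category.comp_id] at hw
  rw [CategoryTheory.Functor.map_comp, hw, Category.assoc, ← CategoryTheory.Functor.map_comp]
  have e : η.obj.iso.hom.hom.snd ≫ η.obj.iso.inv.hom.snd = 𝟙 _ :=
    congrArg (fun m => m.hom.snd) η.obj.iso.hom_inv_id
  rw [e]
  simp

/-- The 2-cell between the two points over the diagonal. -/
def pointsIso : BasedFunctor.comp (fpFst z (FibCat.diag g)) (ptFst g z) ≅
    BasedFunctor.comp (fpFst z (FibCat.diag g)) (ptSnd g z) where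
  hom := StkFp.fpHom (𝟙 (fpFst z (FibCat.diag g))) (midIso g z).hom (fun η => by
    change g.map ((z.map (𝟙 η.obj.fst)).hom.fst) ≫ (z.obj η.obj.fst).obj.iso.hom =
      𝟙 _ ≫ g.map ((midIso g z).hom.toNatTrans.app η)
    rw [map_midIso]; simp)
  inv := StkFp.fpHom (𝟙 (fpFst z (FibCat.diag g))) (midIso g z).inv (fun η => by
    change g.map ((z.map (𝟙 η.obj.fst)).hom.fst) ≫ 𝟙 _ =
      (z.obj η.obj.fst).obj.iso.hom ≫ g.map ((midIso g z).inv.toNatTrans.app η)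
    rw [← map_midIso, ← CategoryTheory.Functor.map_comp]
    have e : (midIso g z).hom.toNatTrans.app η ≫ (midIso g z).inv.toNatTrans.app η = 𝟙 _ :=
      congrArg (fun t => t.toNatTrans.app η) (midIso g z).hom_inv_id
    rw [e]; simp; rfl)
  hom_inv_id := StkBasic.hom_ext fun η => FibProd.hom_ext (Category.comp_id _)
    (congrArg (fun t => t.toNatTrans.app η) (midIso g z).hom_inv_id)
  inv_hom_id := StkBasic.hom_ext fun η => FibProd.hom_ext (Category.comp_id _)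
    (congrArg (fun t => t.toNatTrans.app η) (midIso g z).inv_hom_id)

/-- A base change of the diagonal of `g` as the equaliser of two points. -/
def toPoints : fp z (FibCat.diag g) ⥤ᵇ fp (ptFst g z) (ptSnd g z) :=
  fpLift (fpFst z (FibCat.diag g)) (fpFst z (FibCat.diag g)) (pointsIso g z)

theorem toPoints_fst (η : (fp z (FibCat.diag g)).obj) :
    ((toPoints g z).obj η).obj.iso.hom.hom.fst = 𝟙 η.obj.fst := rfl

theorem toPoints_snd (η : (fp z (FibCat.diag g)).obj) :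
    ((toPoints g z).obj η).obj.iso.hom.hom.snd = η.obj.iso.hom.hom.fst ≫ η.obj.iso.inv.hom.snd := rfl

theorem isEquivOver_toPoints : IsEquivOver (toPoints g z) := by
  have : (toPoints g z).toFunctor.Faithful := ⟨fun {a b φ ψ} h => by
    have h1 : φ.hom.fst = ψ.hom.fst := congrArg (fun m => m.hom.fst) h
    refine FibProd.hom_ext h1 ?_
    have w1 : (z.map φ.hom.fst).hom.fst ≫ b.obj.iso.hom.hom.fst = a.obj.iso.hom.hom.fst ≫ φ.hom.snd :=
      congrArg (fun m => m.hom.fst) φ.hom.w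
    have w2 : (z.map ψ.hom.fst).hom.fst ≫ b.obj.iso.hom.hom.fst = a.obj.iso.hom.hom.fst ≫ ψ.hom.snd :=
      congrArg (fun m => m.hom.fst) ψ.hom.w
    rw [h1, w2] at w1
    have hff : a.obj.iso.inv.hom.fst ≫ a.obj.iso.hom.hom.fst = 𝟙 _ :=
      congrArg (fun m => m.hom.fst) a.obj.iso.inv_hom_id
    have := congrArg (fun m => a.obj.iso.inv.hom.fst ≫ m) w1
    simp only [← Category.assoc, hff] at this
    simpa using this.symm⟩
  have : (toPoints g z).toFunctor.Full := ⟨fun {a b} m => by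
    have e : m.hom.fst = m.hom.snd := by
      have w : m.hom.fst ≫ 𝟙 _ = 𝟙 _ ≫ m.hom.snd := congrArg (fun t => t.hom.fst) m.hom.w
      exact (Category.comp_id _).symm.trans (w.trans (Category.id_comp _))
    have w : (z.map m.hom.fst).hom.fst ≫ (b.obj.iso.hom.hom.fst ≫ b.obj.iso.inv.hom.snd) =
        (a.obj.iso.hom.hom.fst ≫ a.obj.iso.inv.hom.snd) ≫ (z.map m.hom.snd).hom.snd :=
      congrArg (fun t => t.hom.snd) m.hom.w
    rw [← e] at w
    let k : a.obj.snd ⟶ b.obj.snd :=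
      a.obj.iso.inv.hom.fst ≫ (z.map m.hom.fst).hom.fst ≫ b.obj.iso.hom.hom.fst
    refine ⟨FibProd.homMk m.hom.fst k (FibProd.hom_ext ?_ ?_), FibProd.hom_ext rfl e⟩
    · change (z.map m.hom.fst).hom.fst ≫ b.obj.iso.hom.hom.fst = a.obj.iso.hom.hom.fst ≫ k
      have hfs : a.obj.iso.hom.hom.fst ≫ a.obj.iso.inv.hom.fst = 𝟙 _ :=
        congrArg (fun m => m.hom.fst) a.obj.iso.hom_inv_id
      simp only [k, reassoc_of% hfs]
    · change (z.map m.hom.fst).hom.snd ≫ b.obj.iso.hom.hom.snd = a.obj.iso.hom.hom.snd ≫ k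
      have hf2 : a.obj.iso.inv.hom.fst ≫ a.obj.iso.hom.hom.fst = 𝟙 _ :=
        congrArg (fun m => m.hom.fst) a.obj.iso.inv_hom_id
      have hs2 : a.obj.iso.hom.hom.snd ≫ a.obj.iso.inv.hom.snd = 𝟙 _ :=
        congrArg (fun m => m.hom.snd) a.obj.iso.hom_inv_id
      have hss : b.obj.iso.inv.hom.snd ≫ b.obj.iso.hom.hom.snd = 𝟙 _ :=
        congrArg (fun m => m.hom.snd) b.obj.iso.inv_hom_id
      have := congrArg
        (fun t => a.obj.iso.hom.hom.snd ≫ a.obj.iso.inv.hom.fst ≫ t ≫ b.obj.iso.hom.hom.snd) w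
      simp only [Category.assoc, reassoc_of% hf2, reassoc_of% hs2] at this
      erw [hss, Category.comp_id] at this
      exact this.symm⟩
  refine isEquivOver_of _ fun η => ?_
  let t := η.obj.fst
  let t' := η.obj.snd
  let c := BasedFunctor.comp z (fpSnd g g)
  let d := BasedFunctor.comp z (fpFst g g)
  let E' := fp (BasedFunctor.comp d g) g
  let k : t ≅ t' := (fpFst (BasedFunctor.comp d g) g).toFunctor.mapIso η.obj.iso
  let φ : d.obj t ≅ c.obj t' := (fpSnd (BasedFunctor.comp d g) g).toFunctor.mapIso η.obj.iso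
  let T := 𝒲.p.obj t
  have hη : E'.p.IsHomLift (𝟙 T) η.obj.iso.hom := η.property
  have hk : 𝒲.p.IsHomLift (𝟙 T) k.hom :=
    BasedFunctor.preserves_isHomLift (fpFst (BasedFunctor.comp d g) g) _ _
  have hk' : 𝒲.p.IsHomLift (𝟙 T) k.inv := IsHomLift.lift_id_inv 𝒲.p T k
  have hφ : ℱ.p.IsHomLift (𝟙 T) φ.hom :=
    BasedFunctor.preserves_isHomLift (fpSnd (BasedFunctor.comp d g) g) _ _
  have hw : g.map (d.map k.hom) ≫ (z.obj t').obj.iso.hom = 𝟙 _ ≫ g.map φ.hom := η.obj.iso.hom.hom.w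
  have hz : g.map (d.map k.hom) ≫ (z.obj t').obj.iso.hom = (z.obj t).obj.iso.hom ≫ g.map (c.map k.hom) :=
    (z.map k.hom).hom.w
  let ψ : d.obj t ≅ c.obj t := φ ≪≫ (c.toFunctor.mapIso k).symm
  have hgψ : g.map ψ.hom = (z.obj t).obj.iso.hom := by
    change g.map (φ.hom ≫ c.map k.inv) = _
    rw [hz, Category.id_comp] at hw
    rw [CategoryTheory.Functor.map_comp, ← hw, Category.assoc, ← CategoryTheory.Functor.map_comp,
      ← CategoryTheory.Functor.map_comp, Iso.hom_inv_id]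
    simp
    exact (congrArg ((z.obj t).obj.iso.hom ≫ ·) (CategoryTheory.Functor.map_id g.toFunctor _)).trans
      (Category.comp_id (z.obj t).obj.iso.hom)
  have hgψ' : (z.obj t).obj.iso.hom ≫ g.map ψ.inv = 𝟙 _ := by
    rw [← hgψ, ← CategoryTheory.Functor.map_comp]; simp; rfl
  let θ : z.obj t ≅ (FibCat.diag g).obj (d.obj t) :=
    { hom := FibProd.homMk (𝟙 (d.obj t)) ψ.inv (by
        change g.map (𝟙 (d.obj t)) ≫ 𝟙 _ = (z.obj t).obj.iso.hom ≫ g.map ψ.inv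
        rw [hgψ']; simp; rfl)
      inv := FibProd.homMk (𝟙 (d.obj t)) ψ.hom (by
        change g.map (𝟙 (d.obj t)) ≫ (z.obj t).obj.iso.hom = 𝟙 _ ≫ g.map ψ.hom
        rw [hgψ]; simp)
      hom_inv_id := FibProd.hom_ext (Category.id_comp _) ψ.inv_hom_id
      inv_hom_id := FibProd.hom_ext (Category.id_comp _) ψ.hom_inv_id }
  have hid : ℱ.p.IsHomLift (𝟙 T) (𝟙 (d.obj t)) := IsHomLift.id (d.w_obj t)
  have hθ : (fp g g).p.IsHomLift (𝟙 T) θ.hom :=
    IsHomLift.of_fac' _ _ _ (z.w_obj t) (d.w_obj t) (IsHomLift.fac' ℱ.p (𝟙 T) (𝟙 (d.obj t)))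
  refine ⟨FibProd.objMk t (d.obj t) θ hθ, exists_iso_over (Iso.refl t) k (FibProd.hom_ext ?_ ?_)
    (IsHomLift.id rfl)⟩
  · change (𝟙 t : t ⟶ t) ≫ η.obj.iso.hom.hom.fst = 𝟙 t ≫ k.hom
    rfl
  · change d.map (𝟙 t) ≫ φ.hom = (𝟙 (d.obj t) ≫ ψ.hom) ≫ c.map k.hom
    simp [ψ, ← CategoryTheory.Functor.map_comp]

end Generic

variable {S : Scheme.{u}} {𝒳 𝒴 𝒵 : AlgSt.Cat S}

/-- The diagonal of a functor representable by algebraic spaces is representable. -/
theorem repByAlgSp1_diag_of_rep {f : 𝒳 ⥤ᵇ 𝒴} (hf : RepByAlgSp1 f) :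
    RepByAlgSp1 (FibCat.diag f) := fun T z =>
  repByAlgSp_of_equiv' (isEquivOver_toPoints f z)
    (Diag.repByAlgSp_fp (Diag.repByAlgSp_overCat T) (Diag.repByAlgSp_overCat T) (hf T _) _ _)

/-- If `f` is representable and the diagonal of the target is, so is the diagonal of the source. -/
theorem diag_of_repByAlgSp1 (h𝒳 : IsFibGrpd 𝒳.p) (h𝒴 : IsFibGrpd 𝒴.p) {f : 𝒳 ⥤ᵇ 𝒴}
    (hf : RepByAlgSp1 f) (hΔ : RepByAlgSp1 (FibCat.diag (toSelf 𝒴))) :
    RepByAlgSp1 (FibCat.diag (toSelf 𝒳)) :=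
  Diag.repByAlgSp1_diag_iff.2 fun U x =>
    CompRep.repByAlgSp1_of_comp h𝒳 h𝒴 (Diag.repByAlgSp1_diag_iff.1 hΔ U (BasedFunctor.comp x f))
      (repByAlgSp1_diag_of_rep hf)

/-- The product of categories with representable diagonals has representable diagonal. -/
theorem diag_prod (h𝒳 : IsFibGrpd 𝒳.p) (h𝒴 : IsFibGrpd 𝒴.p)
    (h1 : RepByAlgSp1 (FibCat.diag (toSelf 𝒳))) (h2 : RepByAlgSp1 (FibCat.diag (toSelf 𝒴))) :
    RepByAlgSp1 (FibCat.diag (toSelf (fp (toSelf 𝒳) (toSelf 𝒴)))) := by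
  refine Diag.repByAlgSp1_diag_iff.2 fun U x => ?_
  let x₁ := BasedFunctor.comp x (fpFst _ _)
  let x₂ := BasedFunctor.comp x (fpSnd _ _)
  have hp : RepByAlgSp1 (Prod.prodMap x₁ x₂) := repByAlgSpWith_top_iff.1
    (Prod.repByAlgSpWith_prodMap (P := ⊤) (fun _ _ _ _ _ _ _ _ _ _ _ _ _ _ => trivial)
      (fun _ _ _ _ _ _ _ _ _ _ => trivial)
      (repByAlgSpWith_top_iff.2 (Diag.repByAlgSp1_diag_iff.1 h1 U x₁))
      (repByAlgSpWith_top_iff.2 (Diag.repByAlgSp1_diag_iff.1 h2 U x₂)))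
  have hU : IsFibGrpd (overCat U).p := isFibGrpd_overCat U
  have hd : RepByAlgSp1 (Diag.pair (BasedFunctor.id (overCat U)) (BasedFunctor.id (overCat U))) :=
    fun V y => Diag.repByAlgSp_fp (Diag.repByAlgSp_overCat V) (Diag.repByAlgSp_overCat U)
      (repByAlgSp_of_equiv (Diag.isEquivOver_prodToFp U U) (Diag.repByAlgSp_overCat (U ⨯ U))) y _
  have hc := repByAlgSp1_comp (𝒵 := fp (toSelf 𝒳) (toSelf 𝒴)) hU
    (isFibGrpd_fp hU hU Fibred.SelfOver.selfOver_grpd) hd hp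
  exact repByAlgSp1_of_iso
    (show BasedFunctor.comp (Diag.pair (BasedFunctor.id (overCat U)) (BasedFunctor.id (overCat U)))
        (Prod.prodMap x₁ x₂) ≅ x from Diag.isoToProd (eqToIso rfl) (eqToIso rfl)) hc

/-- A 2-fibre product of categories with representable diagonals has representable diagonal. -/
theorem diag_fp (h𝒳 : IsFibGrpd 𝒳.p) (h𝒴 : IsFibGrpd 𝒴.p) (h𝒵 : IsFibGrpd 𝒵.p)
    (h1 : RepByAlgSp1 (FibCat.diag (toSelf 𝒳))) (h2 : RepByAlgSp1 (FibCat.diag (toSelf 𝒴)))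
    (h3 : RepByAlgSp1 (FibCat.diag (toSelf 𝒵))) (f : 𝒳 ⥤ᵇ 𝒵) (g : 𝒴 ⥤ᵇ 𝒵) :
    RepByAlgSp1 (FibCat.diag (toSelf (fp f g))) := by
  let z := Diag.pair (BasedFunctor.comp (fpFst (toSelf 𝒳) (toSelf 𝒴)) f)
    (BasedFunctor.comp (fpSnd (toSelf 𝒳) (toSelf 𝒴)) g)
  have hπ : RepByAlgSp1 (Diag.pair (fpFst f g) (fpSnd f g)) :=
    (repByAlgSp1_iff_of_isEquivOver (f := fpFst z (FibCat.diag (toSelf 𝒵)))
      (f' := Diag.pair (fpFst f g) (fpSnd f g)) (Diag.isEquivOver_toDiagPullback f g)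
      BasedBasic.isEquivOver_id (eqToIso rfl)).1 (repByAlgSp1_fpFst z h3)
  exact diag_of_repByAlgSp1 (isFibGrpd_fp h𝒳 h𝒴 h𝒵)
    (isFibGrpd_fp h𝒳 h𝒴 Fibred.SelfOver.selfOver_grpd) hπ (diag_prod h𝒳 h𝒴 h1 h2)

end Groth.Agent.Lib.AlgStack.DiagRel
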