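import Groth.Agent.Lib.AlgStack.IsAlg
import Groth.Agent.Lib.AlgStack.DiagRel
import Groth.Agent.Lib.AlgSpMor.LocP

/-!
# Smooth surjective atlases; 2-fibre products of algebraic stacks
-/

set_option autoImplicit false
set_option backward.isDefEq.respectTransparency false
set_option backward.isDefEq.respectTransparency.types false

universe u

open CategoryTheory CategoryTheory.Limits AlgebraicGeometry Opposite

namespace Groth.Agent.Lib.AlgStack.IsAlgFp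

open BasedBasic Yoneda FibProd Rep Space CompRep
open FibCat (IsEquivOver IsFibGrpd fp fpFst fpSnd fpLift overCat toSelf selfOver)
open AlgSt (ofSp ofSpMap ofOverCat toOverCat RepByAlgSp RepByAlgSp1 RepByAlgSpWith IsAlgStack)
open AlgSp (Sp yon IsAlgSpace RepWith Points)

variable {S : Scheme.{u}} {𝒳 𝒴 𝒵 : AlgSt.Cat S}

theorem detected_locP {P : MorphismProperty Scheme.{u}}
    (hP : SourceDescent.Scheme.EtaleLocalST P) :
    Detected (AlgSp.LocP P : MorphismProperty (Sp S)) := by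
  intro G F b hG hF h
  obtain ⟨V, p, hp, hps⟩ := hF.atlas
  exact AlgSpMor.LocP.locP_of_isPullback_of_cover hP hG hF hp hps (IsPullback.of_hasPullback b p)
    (h p _ _ (IsPullback.of_hasPullback b p))

theorem detected_surjective : Detected (AlgSp.IsSurjectiveMor : MorphismProperty (Sp S)) := by
  intro G F b hG hF h y
  obtain ⟨T, g, t, rfl⟩ := AlgSpace.exists_ofPt_eq y
  have sq := IsPullback.of_hasPullback b g
  obtain ⟨x, hx⟩ := h g _ _ sq (Points.ofPt (𝟙 ((yon S).obj T)) t)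
  obtain ⟨V, a, v, rfl⟩ := AlgSpace.exists_ofPt_eq x
  refine ⟨Points.ofPt (a ≫ pullback.fst b g) v, ?_⟩
  have := congrArg (Points.map g) hx
  rw [Points.map_ofPt, Points.map_ofPt, Points.map_ofPt] at this
  rw [Points.map_ofPt, Category.assoc, sq.w, ← Category.assoc]
  simpa using this

theorem surjective_comp {X Y Z : Sp S} {a : X ⟶ Y} {b : Y ⟶ Z}
    (ha : AlgSp.IsSurjectiveMor a) (hb : AlgSp.IsSurjectiveMor b) : AlgSp.IsSurjectiveMor (a ≫ b) := by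
  intro z
  obtain ⟨y, rfl⟩ := hb z
  obtain ⟨x, rfl⟩ := ha y
  obtain ⟨V, c, v, rfl⟩ := AlgSpace.exists_ofPt_eq x
  exact ⟨Points.ofPt c v, by rw [Points.map_ofPt, Points.map_ofPt, Points.map_ofPt, Category.assoc]⟩

theorem respectsIsoSp_locP {P : MorphismProperty Scheme.{u}}
    (hP : SourceDescent.Scheme.EtaleLocalST P) :
    RespectsIsoSp (AlgSp.LocP P : MorphismProperty (Sp S)) :=
  respectsIsoSp_of_baseChange fun _ _ _ _ hX₁ hY₁ _ hY₂ _ _ _ _ sq ha =>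
    AlgSpMor.LocP.locP_of_isPullback hP hX₁ hY₁ hY₂ sq ha

theorem respectsIsoSp_surjective : RespectsIsoSp (AlgSp.IsSurjectiveMor : MorphismProperty (Sp S)) := by
  intro F F' G e a _ _ _ ha z
  obtain ⟨y, rfl⟩ := ha z
  obtain ⟨V, c, v, rfl⟩ := AlgSpace.exists_ofPt_eq y
  refine ⟨Points.ofPt (c ≫ e.inv) v, ?_⟩
  rw [Points.map_ofPt, Points.map_ofPt, Category.assoc, Iso.inv_hom_id_assoc]

theorem comp_locP {P : MorphismProperty Scheme.{u}} (hP : SourceDescent.Scheme.EtaleLocalST P)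
    (h𝒳 : IsFibGrpd 𝒳.p) (h𝒴 : IsFibGrpd 𝒴.p) {f : 𝒳 ⥤ᵇ 𝒴}
    (hf : RepByAlgSpWith (AlgSp.LocP P) f) {g : 𝒴 ⥤ᵇ 𝒵} (hg : RepByAlgSpWith (AlgSp.LocP P) g) :
    RepByAlgSpWith (AlgSp.LocP P) (BasedFunctor.comp f g) :=
  repByAlgSpWith_comp_of_detected (respectsIsoSp_locP hP)
    (fun _ _ _ hX hY hZ _ _ ha hb => AlgSpMor.LocP.locP_comp hP hX hY hZ ha hb) (detected_locP hP)
    h𝒳 h𝒴 hf hg

theorem comp_surjective (h𝒳 : IsFibGrpd 𝒳.p) (h𝒴 : IsFibGrpd 𝒴.p) {f : 𝒳 ⥤ᵇ 𝒴}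
    (hf : RepByAlgSpWith AlgSp.IsSurjectiveMor f) {g : 𝒴 ⥤ᵇ 𝒵}
    (hg : RepByAlgSpWith AlgSp.IsSurjectiveMor g) :
    RepByAlgSpWith AlgSp.IsSurjectiveMor (BasedFunctor.comp f g) :=
  repByAlgSpWith_comp_of_detected respectsIsoSp_surjective
    (fun _ _ _ _ _ _ _ _ ha hb => surjective_comp ha hb) detected_surjective h𝒳 h𝒴 hf hg

/-- A 2-fibre product of algebraic stacks over a category with representable diagonal has an atlas. -/
theorem hasAtlas_fp (h𝒳 : IsAlgStack Scheme.fppfPrecoverage 𝒳) (h𝒴 : IsAlgStack Scheme.fppfPrecoverage 𝒴)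
    (h𝒵 : IsFibGrpd 𝒵.p) (hΔ : RepByAlgSp1 (FibCat.diag (toSelf 𝒵))) (f : 𝒳 ⥤ᵇ 𝒵) (g : 𝒴 ⥤ᵇ 𝒵) :
    AlgSt.HasAtlas (AlgSp.LocP @Smooth) (fp f g) := by
  obtain ⟨U, x, hx1, hx2⟩ := h𝒳.atlas
  obtain ⟨V, y, hy1, hy2⟩ := h𝒴.atlas
  have hU : IsFibGrpd (overCat U).p := isFibGrpd_overCat U
  have hV : IsFibGrpd (overCat V).p := isFibGrpd_overCat V
  have hP := isFibGrpd_fp (F := f) (G := g) h𝒳.isStack.1 h𝒴.isStack.1 h𝒵
  let r1 := fpFst (fpFst f g) x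
  let s1 := BasedFunctor.comp r1 (fpSnd f g)
  let r2 := fpFst s1 y
  have hK1 : IsFibGrpd (fp (fpFst f g) x).p := isFibGrpd_fp hP hU h𝒳.isStack.1
  have hK2 : IsFibGrpd (fp s1 y).p := isFibGrpd_fp hK1 hV h𝒴.isStack.1
  let xf := BasedFunctor.comp x f
  let yg := BasedFunctor.comp y g
  obtain ⟨A, eA, hA⟩ := Diag.repByAlgSp1_diag_iff.1 hΔ V yg U xf
  have : (BasedFunctor.id 𝒴).toFunctor.Full := inferInstanceAs (𝟭 𝒴.obj).Full
  have : (BasedFunctor.id 𝒴).toFunctor.Faithful := inferInstanceAs (𝟭 𝒴.obj).Faithful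
  let e1 := BasedFunctor.comp (FibProd.swap (fpFst f g) x) (Rep.pasteBase x f g)
  have he1 : IsEquivOver e1 :=
    BasedBasic.IsEquivOver.comp (isEquivOver_swap _ _) (isEquivOver_pasteBase x f g)
  have h2 := isEquivOver_fpMap e1 (BasedFunctor.id (overCat V)) (BasedFunctor.id 𝒴)
    (F := fpSnd xf g) (G := y) (F' := s1) (G' := y) (eqToIso rfl) (Iso.refl _) he1
    BasedBasic.isEquivOver_id
  have h3 := BasedBasic.IsEquivOver.comp h2 (isEquivOver_pasteComp xf g y)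
  obtain ⟨W, e, he⟩ := repByAlgSp_of_equiv' h3 ⟨A, eA, hA⟩
  obtain ⟨W', p, hpe, hps⟩ := W.property.atlas
  let a := BasedFunctor.comp (ofOverCat W') (BasedFunctor.comp (ofSpMap p) e)
  have atl : ∀ {P : MorphismProperty (Sp S)}, (∀ ⦃G : Sp S⦄ ⦃T : Over S⦄ (q : G ⟶ (yon S).obj T),
      RepWith @Etale q → RepWith @Surjective q → P q) → RepByAlgSpWith P a := fun hP =>
    (repByAlgSpWith_iff_of_isEquivOver (f' := BasedFunctor.comp (ofOverCat W') (ofSpMap p)) (f := a)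
      BasedBasic.isEquivOver_id he (Iso.refl _)).2 (IsAlg.repByAlgSpWith_atlas hpe hps hP)
  have hS := SourceDescent.Scheme.smooth.{u}
  exact ⟨W', _,
    comp_locP hS (isFibGrpd_overCat W') hK1
      (comp_locP hS (isFibGrpd_overCat W') hK2 (atl fun _ _ q hq _ => IsAlg.locP_smooth hq)
        (repByAlgSpWith_fpFst s1 hy1))
      (repByAlgSpWith_fpFst (fpFst f g) hx1),
    comp_surjective (isFibGrpd_overCat W') hK1
      (comp_surjective (isFibGrpd_overCat W') hK2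
        (atl fun _ _ q _ hq => AlgSpace.surjective_map hq) (repByAlgSpWith_fpFst s1 hy2))
      (repByAlgSpWith_fpFst (fpFst f g) hx2)⟩

theorem isAlgStack_fp (h𝒵 : Stk.IsStack (AlgSp.J S) 𝒵) (hΔ : RepByAlgSp1 (FibCat.diag (toSelf 𝒵)))
    (h𝒳 : IsAlgStack Scheme.fppfPrecoverage 𝒳) (h𝒴 : IsAlgStack Scheme.fppfPrecoverage 𝒴)
    (f : 𝒳 ⥤ᵇ 𝒵) (g : 𝒴 ⥤ᵇ 𝒵) : IsAlgStack Scheme.fppfPrecoverage (fp f g) :=
  ⟨StkFp.isStack_fp h𝒳.isStack h𝒴.isStack
      ⟨h𝒵.1, fun _ R hR => by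
        have : (Stk.resSieve R 𝒵).IsEquivalence := h𝒵.2 R hR
        exact ⟨inferInstance, inferInstance⟩⟩,
    DiagRel.diag_fp h𝒳.isStack.1 h𝒴.isStack.1 h𝒵.1 h𝒳.diag h𝒴.diag hΔ f g,
    hasAtlas_fp h𝒳 h𝒴 h𝒵.1 hΔ f g⟩

theorem isEquivOver_toSelf_overCat {T : Over S} (hT : IsTerminal T) :
    IsEquivOver (toSelf (overCat T)) := by
  have : (toSelf (overCat T)).toFunctor.Faithful := inferInstanceAs (Over.forget T).Faithful
  have : (toSelf (overCat T)).toFunctor.Full :=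
    ⟨fun {a b} m => ⟨Over.homMk m (hT.hom_ext _ _), rfl⟩⟩
  exact isEquivOver_of _ fun η => ⟨Over.mk (hT.from η), Iso.refl _, IsHomLift.id rfl⟩

theorem repByAlgSp_selfOver : RepByAlgSp (selfOver (Over S)) :=
  repByAlgSp_of_equiv (isEquivOver_toSelf_overCat Over.mkIdTerminal) (Diag.repByAlgSp_overCat _)

theorem isAlgStack_prod (h𝒳 : IsAlgStack Scheme.fppfPrecoverage 𝒳)
    (h𝒴 : IsAlgStack Scheme.fppfPrecoverage 𝒴) :
    IsAlgStack Scheme.fppfPrecoverage (fp (toSelf 𝒳) (toSelf 𝒴)) :=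
  isAlgStack_fp (StkRep.isStack_of_repByAlgSp repByAlgSp_selfOver)
    (IsAlg.diag_of_repByAlgSp repByAlgSp_selfOver) h𝒳 h𝒴 _ _

end Groth.Agent.Lib.AlgStack.IsAlgFp
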