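import Groth.Agent.Lib.AlgStack.Setoidal
import Groth.Agent.Lib.AlgSpMor.EtaleMono
import Groth.Agent.Lib.GrpSch.UnramifiedFibre
import Groth.Agent.H14.Sep.Cover
import Groth.Agent.Lib.Fibred.Descent
import Mathlib.AlgebraicGeometry.Morphisms.LocalFlatDescent

/-!
# Automorphisms of objects of algebraic stacks detected at geometric points
-/

set_option autoImplicit false
set_option backward.isDefEq.respectTransparency false
set_option backward.isDefEq.respectTransparency.types false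

universe u

open CategoryTheory CategoryTheory.Limits AlgebraicGeometry Opposite

namespace Groth.Agent.Lib.AlgStack.Stabilizer

open BasedBasic Yoneda FibProd
open FibCat (IsEquivOver IsFibGrpd fp fpFst fpSnd overCat toSelf diag)
open AlgSt (ofSp ofSpMap ofOverCat toOverCat RepByAlgSp RepByAlgSp1 RepByAlgSpWith IsAlgStack IsDM)
open AlgSp (Sp yon IsAlgSpace RepWith LocP)

variable {S : Scheme.{u}} {𝒳 𝒴 : AlgSt.Cat S}

/-- Formal unramifiedness can be tested at geometric points. -/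
theorem formallyUnramified_of_algClosed {X Y : Scheme.{u}} (f : X ⟶ Y) [LocallyOfFiniteType f]
    (h : ∀ (K : Type u) [Field K] [IsAlgClosed K] (y : Spec (CommRingCat.of K) ⟶ Y),
      FormallyUnramified (pullback.snd f y)) : FormallyUnramified f := by
  refine GrpSch.formallyUnramified_of_field_points f fun K _ y => ?_
  let j : Spec (CommRingCat.of (AlgebraicClosure K)) ⟶ Spec (CommRingCat.of K) :=
    Spec.map (CommRingCat.ofHom (algebraMap K (AlgebraicClosure K)))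
  have hj : (@Surjective ⊓ @Flat ⊓ @QuasiCompact : MorphismProperty Scheme.{u}) j := by
    refine ⟨⟨⟨fun x => ⟨IsLocalRing.closedPoint _, Subsingleton.elim (α := PrimeSpectrum K) _ _⟩⟩, ?_⟩, inferInstance⟩
    rw [HasRingHomProperty.Spec_iff (P := @Flat)]
    exact RingHom.flat_algebraMap_iff.2 inferInstance
  refine MorphismProperty.of_isPullback_of_descendsAlong (P := @FormallyUnramified)
    (Q := @Surjective ⊓ @Flat ⊓ @QuasiCompact)
    (IsPullback.of_hasPullback (pullback.snd f y) j).flip hj ?_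
  rw [← pullbackLeftPullbackSndIso_hom_snd]
  have := h _ (j ≫ y)
  exact MorphismProperty.comp_mem _ _ _ inferInstance this

theorem app_eq_of_hom {F H : Sp S} (f : F ⟶ H) {ξ₁ ξ₂ : (ofSp F).obj}
    (k : (ofSpMap f).obj ξ₁ ⟶ (ofSpMap f).obj ξ₂) (e : ξ₁.base ⟶ ξ₂.base) (hk : k.hom = e) :
    f.hom.app (op ξ₁.base) ξ₁.sec = f.hom.app (op ξ₁.base) (F.obj.map e.op ξ₂.sec) := by
  subst hk
  exact k.map_sec.symm.trans (NatTrans.naturality_apply f.hom k.hom.op ξ₂.sec).symm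

section Sections

variable {T : Over S} {z : overCat T ⥤ᵇ fp (toSelf 𝒳) (toSelf 𝒳)} {G : Sp S}
  {E : ofSp G ⥤ᵇ fp z (diag (toSelf 𝒳))}

/-- The functor of the structure map of a representing space. -/
noncomputable def fstIso (E : ofSp G ⥤ᵇ fp z (diag (toSelf 𝒳))) :
    BasedFunctor.comp (BasedFunctor.comp E (fpFst z (diag (toSelf 𝒳)))) (ofOverCat T) ≅
      ofSpMap (AlgSt.spMapOfOver (BasedFunctor.comp E (fpFst z (diag (toSelf 𝒳))))) :=
  OfPsh.isoOfPshMap _ ≪≫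
    eqToIso (congrArg ofSpMap (Space.spMapOfOver_eq_spHom (BasedFunctor.comp E (fpFst z _))).symm)

/-- Sections with the same image in the base are equal if first components of morphisms lift. -/
theorem sec_eq_of_lift (hE : IsEquivOver E) {B : Over S} {x₁ x₂ : G.obj.obj (op B)}
    (h : (AlgSt.spMapOfOver (BasedFunctor.comp E (fpFst z (diag (toSelf 𝒳))))).hom.app (op B) x₁ =
      (AlgSt.spMapOfOver (BasedFunctor.comp E (fpFst z (diag (toSelf 𝒳))))).hom.app (op B) x₂)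
    (hl : ∀ g : (E.obj ⟨B, x₁⟩).obj.fst ⟶ (E.obj ⟨B, x₂⟩).obj.fst,
      ∃ m : E.obj ⟨B, x₁⟩ ⟶ E.obj ⟨B, x₂⟩, m.hom.fst = g) : x₁ = x₂ := by
  let γ := AlgSt.spMapOfOver (BasedFunctor.comp E (fpFst z (diag (toSelf 𝒳))))
  have := BasedBasic.IsEquivOver.full hE
  have := BasedBasic.IsEquivOver.full (Rep.isEquivOver_ofOverCat T)
  let a : (ofSp G).obj := ⟨B, x₁⟩
  let b : (ofSp G).obj := ⟨B, x₂⟩
  let g : (ofSpMap γ).obj a ⟶ (ofSpMap γ).obj b := ⟨𝟙 _, by
    change ((yon S).obj T).obj.map _ (γ.hom.app (op B) x₂) = γ.hom.app (op B) x₁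
    rw [op_id]
    erw [CategoryTheory.Functor.map_id]
    exact h.symm⟩
  obtain ⟨k, hk⟩ := (ofOverCat T).toFunctor.map_surjective
    ((appIso (fstIso E) a).hom ≫ g ≫ (appIso (fstIso E) b).inv)
  obtain ⟨m', hm'⟩ := hl k
  obtain ⟨m, rfl⟩ := E.toFunctor.map_surjective m'
  have hn := (fstIso E).hom.toNatTrans.naturality m
  have hmg : (ofSpMap γ).map m = g := by
    rw [← cancel_epi (appIso (fstIso E) a).hom]
    refine hn.symm.trans ?_
    change (ofOverCat T).map (E.map m).hom.fst ≫ (appIso (fstIso E) b).hom = _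
    rw [hm', hk, Category.assoc, Category.assoc, Iso.inv_hom_id, Category.comp_id]
  have h3 : m.hom = 𝟙 _ := congrArg (fun k => k.hom) hmg
  have h4 := m.map_sec
  rw [h3, op_id] at h4
  erw [CategoryTheory.Functor.map_id] at h4
  exact h4.symm

set_option maxHeartbeats 1000000 in
/-- Objects with isomorphic first components have the same image in the base. -/
theorem map_eq_of_hom {ξ₁ ξ₂ : (ofSp G).obj} (e : ξ₁.base ⟶ ξ₂.base)
    (g : (E.obj ξ₁).obj.fst ⟶ (E.obj ξ₂).obj.fst)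
    (hg : (fp z (diag (toSelf 𝒳))).p.obj (E.obj ξ₁) = ξ₁.base)
    (hg' : (fp z (diag (toSelf 𝒳))).p.obj (E.obj ξ₂) = ξ₂.base)
    (he : g.left = eqToHom hg ≫ e ≫ eqToHom hg'.symm) :
    (AlgSt.spMapOfOver (BasedFunctor.comp E (fpFst z (diag (toSelf 𝒳))))).hom.app (op ξ₁.base) ξ₁.sec =
      (AlgSt.spMapOfOver (BasedFunctor.comp E (fpFst z (diag (toSelf 𝒳))))).hom.app (op ξ₁.base)
        (G.obj.map e.op ξ₂.sec) := by
  let γ := AlgSt.spMapOfOver (BasedFunctor.comp E (fpFst z (diag (toSelf 𝒳))))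
  let k : (ofSpMap γ).obj ξ₁ ⟶ (ofSpMap γ).obj ξ₂ :=
    (appIso (fstIso E) ξ₁).inv ≫ (ofOverCat T).map g ≫ (appIso (fstIso E) ξ₂).hom
  have hk : k.hom = e := by
    have h1 := appIso_isHomLift (fstIso E) ξ₁
    have h2 := appIso_isHomLift (fstIso E) ξ₂
    have h1' : (ofSp ((yon S).obj T)).p.IsHomLift (𝟙 ξ₁.base) (appIso (fstIso E) ξ₁).inv :=
      haveI : (ofSp ((yon S).obj T)).p.IsHomLift (𝟙 ξ₁.base) (appIso (fstIso E) ξ₁).hom := h1
      IsHomLift.lift_id_inv _ _ _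
    have h4 : (ofSp ((yon S).obj T)).p.IsHomLift (𝟙 ξ₂.base) (appIso (fstIso E) ξ₂).hom := h2
    have f1 := IsHomLift.fac' (ofSp ((yon S).obj T)).p (𝟙 ξ₁.base) (appIso (fstIso E) ξ₁).inv
    have f2 := IsHomLift.fac' (ofSp ((yon S).obj T)).p (𝟙 ξ₂.base) (appIso (fstIso E) ξ₂).hom
    change (appIso (fstIso E) ξ₁).inv.hom = _ at f1
    change (appIso (fstIso E) ξ₂).hom.hom = _ at f2
    change (appIso (fstIso E) ξ₁).inv.hom ≫ g.left ≫ (appIso (fstIso E) ξ₂).hom.hom = e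
    rw [f1, f2, he]
    simp
  exact app_eq_of_hom γ k e hk

end Sections

set_option maxHeartbeats 1000000 in
/-- An automorphism over the identity which is trivial at a point above every point is trivial, when
the diagonal is unramified. -/
theorem eq_id_of_pointwise (h : IsFibGrpd 𝒳.p) (hΔ : AlgSt.IsDMOver 𝒳) {a : 𝒳.obj} (θ : a ⟶ a)
    (hθ : 𝒳.p.map θ = 𝟙 (𝒳.p.obj a))
    (hpt : ∀ t : ↥(𝒳.p.obj a).left, ∃ (T' : Over S) (e : T' ⟶ 𝒳.p.obj a) (c : 𝒳.obj) (χ : c ⟶ a),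
      t ∈ Set.range e.left ∧ 𝒳.p.IsHomLift e χ ∧ χ ≫ θ = χ) : θ = 𝟙 a := by
  let T := 𝒳.p.obj a
  have hθl : 𝒳.p.IsHomLift (𝟙 T) θ := hθ ▸ IsHomLift.map 𝒳.p θ
  have := isIso_of_isHomLift_id h (R := T) θ
  let y := fromObj h (rfl : 𝒳.p.obj a = T)
  obtain ⟨i, hi⟩ := exists_fromObj_iso h (rfl : 𝒳.p.obj a = T)
  let z := BasedFunctor.comp y (diag (toSelf 𝒳))
  let τ : (diag (toSelf 𝒳)).obj a ≅ (diag (toSelf 𝒳)).obj a :=
    { hom := FibProd.homMk (𝟙 a) θ (by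
        change 𝒳.p.map (𝟙 a) ≫ 𝟙 _ = 𝟙 _ ≫ 𝒳.p.map θ
        rw [hθ, CategoryTheory.Functor.map_id])
      inv := FibProd.homMk (𝟙 a) (inv θ) (by
        change 𝒳.p.map (𝟙 a) ≫ 𝟙 _ = 𝟙 _ ≫ 𝒳.p.map (inv θ)
        rw [Functor.map_inv, CategoryTheory.Functor.map_id]
        simp [hθ])
      hom_inv_id := FibProd.hom_ext (Category.id_comp _) (IsIso.hom_inv_id θ)
      inv_hom_id := FibProd.hom_ext (Category.id_comp _) (IsIso.inv_hom_id θ) }
  let i₁ := (diag (toSelf 𝒳)).toFunctor.mapIso i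
  have hi₁ : (fp (toSelf 𝒳) (toSelf 𝒳)).p.IsHomLift (𝟙 T) i₁.hom :=
    BasedFunctor.preserves_isHomLift (diag (toSelf 𝒳)) (𝟙 T) i.hom
  have hτ : (fp (toSelf 𝒳) (toSelf 𝒳)).p.IsHomLift (𝟙 T) τ.hom :=
    IsHomLift.of_fac' _ _ _ rfl rfl ((CategoryTheory.Functor.map_id 𝒳.p a).trans (by simp; rfl))
  let o₁ : (fp z (diag (toSelf 𝒳))).obj := FibProd.objMk (Over.mk (𝟙 T)) a i₁ hi₁
  let o₂ : (fp z (diag (toSelf 𝒳))).obj := FibProd.objMk (Over.mk (𝟙 T)) a (i₁ ≪≫ τ) (by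
    have : (fp (toSelf 𝒳) (toSelf 𝒳)).p.IsHomLift (𝟙 T) (i₁.hom ≫ τ.hom) := inferInstance
    exact this)
  obtain ⟨G, E, hE, hu⟩ := hΔ T z
  let γ := AlgSt.spMapOfOver (BasedFunctor.comp E (fpFst z (diag (toSelf 𝒳))))
  have := BasedBasic.IsEquivOver.full hE
  obtain ⟨ξ₁, j₁, hj₁⟩ := BasedBasic.IsEquivOver.exists_iso hE o₁
  obtain ⟨ξ₂, j₂, hj₂⟩ := BasedBasic.IsEquivOver.exists_iso hE o₂
  have hj₁' : (fp z (diag (toSelf 𝒳))).p.IsHomLift (𝟙 T) j₁.hom := hj₁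
  have hj₂' : (fp z (diag (toSelf 𝒳))).p.IsHomLift (𝟙 T) j₂.hom := hj₂
  have hb₁ : ξ₁.base = T := (E.w_obj ξ₁).symm.trans (IsHomLift.domain_eq (fp z _).p (𝟙 T) j₁.hom)
  have hb₂ : ξ₂.base = T := (E.w_obj ξ₂).symm.trans (IsHomLift.domain_eq (fp z _).p (𝟙 T) j₂.hom)
  let e₁₂ : ξ₁.base ⟶ ξ₂.base := eqToHom (hb₁.trans hb₂.symm)
  let x₂ := G.obj.obj.map e₁₂.op ξ₂.sec
  have hγ : γ.hom.app (op ξ₁.base) ξ₁.sec = γ.hom.app (op ξ₁.base) x₂ := by
    refine map_eq_of_hom e₁₂ (j₁.hom.hom.fst ≫ j₂.inv.hom.fst) (E.w_obj ξ₁) (E.w_obj ξ₂) ?_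
    have : (fp z (diag (toSelf 𝒳))).p.IsHomLift (𝟙 T) j₂.inv := IsHomLift.lift_id_inv _ _ _
    have e1 := IsHomLift.fac' (fp z (diag (toSelf 𝒳))).p (𝟙 T) j₁.hom
    have e2 := IsHomLift.fac' (fp z (diag (toSelf 𝒳))).p (𝟙 T) j₂.inv
    change j₁.hom.hom.fst.left = _ at e1
    change j₂.inv.hom.fst.left = _ at e2
    rw [Over.comp_left, e1, e2]
    simp [e₁₂]
  let σ₁ := (AlgSpace.secEquiv ξ₁.base).symm ξ₁.sec
  let σ₂ := (AlgSpace.secEquiv ξ₁.base).symm x₂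
  have hσ : σ₁ ≫ γ = σ₂ ≫ γ := by
    rw [AlgSpace.secEquiv_symm_comp, AlgSpace.secEquiv_symm_comp]
    exact congrArg _ hγ
  have hD := AlgSpMor.EtaleMono.repWith_openImmersion_diagonal G.property (IsAlgSpace.yon_obj T) hu
  let π : (yon S).obj ξ₁.base ⟶ pullback γ γ := pullback.lift σ₁ σ₂ hσ
  obtain ⟨V, v, fst, sq, hv⟩ := AlgSpace.repWith_exists hD π
  have hvs : Surjective v.left := ⟨fun b => by
    let ε : T ⟶ ξ₁.base := eqToHom hb₁.symm
    obtain ⟨T', e, c, χ, ⟨t', ht'⟩, hχ, hcomp⟩ := hpt ((eqToHom hb₁).left b)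
    have hl : 𝒳.p.IsHomLift e (y.map (toId (Over.mk e)) ≫ i.hom) := by
      have : 𝒳.p.IsHomLift e (y.map (toId (Over.mk e))) := map_toId_isHomLift y (Over.mk e)
      have : 𝒳.p.IsHomLift (e ≫ 𝟙 T) (y.map (toId (Over.mk e)) ≫ i.hom) := inferInstance
      rwa [Category.comp_id] at this
    obtain ⟨ν, hν, hνe⟩ := Fibred.Descent.exists_factor h χ hχ _ hl
    have := isIso_of_isHomLift_id h (R := T') ν
    let o' : (fp z (diag (toSelf 𝒳))).obj := FibProd.objMk (Over.mk e) c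
      ((diag (toSelf 𝒳)).toFunctor.mapIso (asIso ν))
      (BasedFunctor.preserves_isHomLift (diag (toSelf 𝒳)) (𝟙 T') ν)
    let q₁ : o' ⟶ o₁ := FibProd.homMk (toId (Over.mk e)) χ (by
      change (diag (toSelf 𝒳)).map (y.map (toId (Over.mk e))) ≫ (diag (toSelf 𝒳)).map i.hom =
        (diag (toSelf 𝒳)).map ν ≫ (diag (toSelf 𝒳)).map χ
      rw [← Functor.map_comp, ← Functor.map_comp, hνe])
    let q₂ : o' ⟶ o₂ := FibProd.homMk (toId (Over.mk e)) χ (by
      change (diag (toSelf 𝒳)).map (y.map (toId (Over.mk e))) ≫ (diag (toSelf 𝒳)).map i.hom ≫ τ.hom =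
        (diag (toSelf 𝒳)).map ν ≫ (diag (toSelf 𝒳)).map χ
      rw [← Category.assoc, ← Functor.map_comp, ← Functor.map_comp, ← hνe]
      refine FibProd.hom_ext ?_ ?_
      · exact Category.comp_id _
      · change (ν ≫ χ) ≫ θ = ν ≫ χ
        rw [Category.assoc, hcomp])
    obtain ⟨ξ', j', hj'⟩ := BasedBasic.IsEquivOver.exists_iso hE o'
    obtain ⟨n₁, hn₁⟩ := E.toFunctor.map_surjective (j'.hom ≫ q₁ ≫ j₁.inv)
    obtain ⟨n₂, hn₂⟩ := E.toFunctor.map_surjective (j'.hom ≫ q₂ ≫ j₂.inv)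
    have hj'' : (fp z (diag (toSelf 𝒳))).p.IsHomLift (𝟙 T') j'.hom := hj'
    have hbase : ξ'.base = T' := (E.w_obj ξ').symm.trans (IsHomLift.domain_eq (fp z (diag (toSelf 𝒳))).p (𝟙 T') j'.hom)
    have hlift' : ∀ {ξ : (ofSp G.obj).obj} {o : (fp z (diag (toSelf 𝒳))).obj} (j : E.obj ξ ≅ o)
        (q : o' ⟶ o) (n : ξ' ⟶ ξ) (hξ : ξ.base = T),
        (fp z (diag (toSelf 𝒳))).p.IsHomLift (𝟙 T) j.hom → (fp z (diag (toSelf 𝒳))).p.IsHomLift e q →
        E.map n = j'.hom ≫ q ≫ j.inv → n.hom = eqToHom hbase ≫ e ≫ eqToHom hξ.symm := by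
      intro ξ o j q n hξ hj hq hn'
      have : (fp z (diag (toSelf 𝒳))).p.IsHomLift (𝟙 T) j.inv := IsHomLift.lift_id_inv _ _ _
      have : (fp z (diag (toSelf 𝒳))).p.IsHomLift (𝟙 T') j'.hom := hj'
      have h1 : (fp z (diag (toSelf 𝒳))).p.IsHomLift (𝟙 T' ≫ e ≫ 𝟙 T) (E.map n) := by
        rw [hn']; infer_instance
      rw [Category.id_comp, Category.comp_id] at h1
      have h2 : (ofSp G.obj).p.IsHomLift e n := (E.isHomLift_iff e n).1 h1
      exact IsHomLift.fac' (ofSp G.obj).p e n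
    have hq₁ : (fp z (diag (toSelf 𝒳))).p.IsHomLift e q₁ := IsHomLift.of_fac' _ _ _ rfl rfl (by simp; rfl)
    have hq₂ : (fp z (diag (toSelf 𝒳))).p.IsHomLift e q₂ := IsHomLift.of_fac' _ _ _ rfl rfl (by simp; rfl)
    have hn1 := hlift' j₁ q₁ n₁ hb₁ hj₁' hq₁ hn₁
    have hn : n₁.hom ≫ e₁₂ = n₂.hom := by
      rw [hn1, hlift' j₂ q₂ n₂ hb₂ hj₂' hq₂ hn₂]
      simp [e₁₂]
    have hsec : G.obj.obj.map n₁.hom.op ξ₁.sec = G.obj.obj.map n₁.hom.op x₂ := by
      change _ = G.obj.obj.map n₁.hom.op (G.obj.obj.map e₁₂.op ξ₂.sec)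
      rw [← Functor.map_comp_apply, ← op_comp, hn]
      exact n₁.map_sec.trans n₂.map_sec.symm
    have hlift : (yon S).map n₁.hom ≫ σ₁ = (yon S).map n₁.hom ≫ σ₂ := by
      rw [AlgSpace.yon_map_comp_secEquiv_symm, AlgSpace.yon_map_comp_secEquiv_symm]
      exact congrArg _ hsec
    have hd : ((yon S).map n₁.hom ≫ σ₁) ≫ pullback.diagonal γ = (yon S).map n₁.hom ≫ π := by
      apply pullback.hom_ext
      · simp [π]
      · simp [π, hlift]
    obtain ⟨l, hl'⟩ := (yon S).map_surjective (sq.lift _ _ hd)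
    have hlv : l ≫ v = n₁.hom := (yon S).map_injective (by rw [Functor.map_comp, hl']; exact sq.lift_snd _ _ _)
    refine ⟨l.left ((eqToHom hbase.symm).left t'), ?_⟩
    rw [← Scheme.Hom.comp_apply, ← Scheme.Hom.comp_apply, ← Over.comp_left, ← Over.comp_left, hlv, hn1]
    simp only [eqToHom_trans_assoc, eqToHom_refl, Category.id_comp, Over.comp_left, Scheme.Hom.comp_apply]
    rw [ht', ← Scheme.Hom.comp_apply, ← Over.comp_left]
    simp⟩
  have : IsIso v.left := (isIso_iff_isOpenImmersion_and_surjective v.left).2 ⟨hv, hvs⟩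
  have : IsIso ((Over.forget S).map v) := ‹IsIso v.left›
  have : IsIso v := isIso_of_reflects_iso v (Over.forget S)
  have hπ : fst ≫ pullback.diagonal γ = (yon S).map v ≫ π := sq.w
  have heq : σ₁ = σ₂ := by
    rw [← cancel_epi ((yon S).map v)]
    have a1 := congrArg (· ≫ pullback.fst γ γ) hπ
    have a2 := congrArg (· ≫ pullback.snd γ γ) hπ
    simp [π] at a1 a2
    exact a1.symm.trans a2
  have hx : ξ₁.sec = x₂ := (AlgSpace.secEquiv ξ₁.base).symm.injective heq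
  let m : ξ₁ ⟶ ξ₂ := ⟨e₁₂, hx.symm⟩
  let M : o₁ ⟶ o₂ := j₁.inv ≫ E.map m ≫ j₂.hom
  have hM : (fp z (diag (toSelf 𝒳))).p.IsHomLift (𝟙 T) M := by
    have : (fp z (diag (toSelf 𝒳))).p.IsHomLift (𝟙 T) (E.map m) :=
      IsHomLift.of_fac' _ _ _ ((E.w_obj ξ₁).trans hb₁) ((E.w_obj ξ₂).trans hb₂) (by
        refine (CategoryTheory.Functor.congr_hom E.w m).trans ?_
        change _ ≫ e₁₂ ≫ _ = _
        simp [e₁₂])
    have : (fp z (diag (toSelf 𝒳))).p.IsHomLift (𝟙 T) j₁.inv := IsHomLift.lift_id_inv _ _ _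
    infer_instance
  have hM1 : M.hom.fst = 𝟙 (Over.mk (𝟙 T)) :=
    Over.OverMorphism.ext (IsHomLift.fac' (fp z (diag (toSelf 𝒳))).p (𝟙 T) M |>.trans (by simp; rfl))
  have w := M.hom.w
  rw [hM1, CategoryTheory.Functor.map_id, Category.id_comp] at w
  have w1 : i.hom ≫ 𝟙 a = i.hom ≫ M.hom.snd := congrArg (fun k => k.hom.fst) w
  have w2 : i.hom ≫ θ = i.hom ≫ M.hom.snd := congrArg (fun k => k.hom.snd) w
  exact (cancel_epi i.hom).1 (w2.trans w1.symm)

/-- A Deligne–Mumford stack has unramified diagonal. -/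
theorem isDMOver_of_isDM {J₀ : Precoverage Scheme.{u}} (h : IsDM J₀ 𝒳) : AlgSt.IsDMOver 𝒳 := by
  obtain ⟨W, a, ha, has⟩ := h.2
  have hsm : RepByAlgSpWith (LocP @Smooth) a :=
    Rep.repByAlgSpWith_mono (SliceEtale.etale_locP ha) fun _ _ _ _ _ hk U V p q k h1 h2 w => by
      have : Etale k.left := hk p q k h1 h2 w
      infer_instance
  exact H14.Sep.Cover.locP_diag_of_chart AlgSpMor.LocP.unramified
    (fun A B C f g (hfg : Etale (f ≫ g)) => ⟨locallyOfFiniteType_of_comp f g, FormallyUnramified.of_comp f g⟩)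
    H14.Sep.Cover.descends_unramified h.1 a (SliceEtale.etale_locP ha) (SliceEtale.flat_of_smooth hsm)
    (SliceEtale.lfp_of_smooth hsm) has

/-- If objects over algebraically closed points have no automorphisms on any base change, the
diagonal is unramified. -/
theorem isDMOver_of_trivial {J₀ : Precoverage Scheme.{u}} (h𝒳 : IsAlgStack J₀ 𝒳)
    (htriv : ∀ (K : Type u) [Field K] [IsAlgClosed K] (s : Spec (CommRingCat.of K) ⟶ S) (x : 𝒳.obj)
      (_ : 𝒳.p.obj x = Over.mk s) (b : 𝒳.obj) (_ : b ⟶ x) (θ : b ⟶ b),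
      𝒳.p.map θ = 𝟙 (𝒳.p.obj b) → θ = 𝟙 b) :
    AlgSt.IsDMOver 𝒳 := fun T z => by
  obtain ⟨G, E, hE, hl⟩ := H14.Sep.Lft.diag_toSelf_lft h𝒳 T z
  refine ⟨G, E, hE, ?_⟩
  let γ := AlgSt.spMapOfOver (BasedFunctor.comp E (fpFst z (diag (toSelf 𝒳))))
  obtain ⟨W, a, ha, has⟩ := G.property.atlas
  obtain ⟨m, hm⟩ := (yon S).map_surjective (a ≫ γ)
  refine AlgSpMor.LocP.locP_of_chart AlgSpMor.LocP.unramified G.property.diag (IsAlgSpace.yon_obj T).diag
    ha has (b := 𝟙 _) (h := m) (AlgSp.repWith_id _ _) (by rw [Category.comp_id, hm]) ?_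
  have : LocallyOfFiniteType m.left := hl a (𝟙 _) m ha (AlgSp.repWith_id _ _) (by rw [Category.comp_id, hm])
  refine ⟨‹_›, formallyUnramified_of_algClosed m.left fun K _ _ e => ?_⟩
  let Tk : Over S := Over.mk (e ≫ T.hom)
  let e' : Tk ⟶ T := Over.homMk e
  have sqW := IsPullback.of_hasPullback m e'
  have sqG := IsPullback.of_hasPullback γ ((yon S).map e')
  have hG' := AlgSpace.isAlgSpace_of_isPullback sqG (IsAlgSpace.yon_obj T).diag G.property (IsAlgSpace.yon_obj Tk)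
  have : Mono (pullback.snd γ ((yon S).map e')) := AlgSpace.mono_of_yon _ fun B p q hpq => by
    obtain ⟨h, hh⟩ := (yon S).map_surjective (p ≫ pullback.snd γ ((yon S).map e'))
    refine pullback.hom_ext ?_ hpq
    apply (AlgSpace.secEquiv B).injective
    refine sec_eq_of_lift hE ?_ fun g => ?_
    · rw [← AlgSpace.secEquiv_comp, ← AlgSpace.secEquiv_comp, Category.assoc, Category.assoc,
        pullback.condition, reassoc_of% hpq]
    · let ξp : (ofSp G.obj).obj := ⟨B, AlgSpace.secEquiv B (p ≫ pullback.fst γ ((yon S).map e'))⟩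
      let ξq : (ofSp G.obj).obj := ⟨B, AlgSpace.secEquiv B (q ≫ pullback.fst γ ((yon S).map e'))⟩
      let ψ := (E.obj ξp).obj.iso.inv ≫ z.map g ≫ (E.obj ξq).obj.iso.hom
      have hmap : 𝒳.p.map ψ.hom.fst = 𝒳.p.map ψ.hom.snd :=
        (Category.comp_id _).symm.trans (ψ.hom.w.trans (Category.id_comp _))
      have : 𝒳.p.IsHomLift (𝟙 (𝒳.p.obj (E.obj ξp).obj.snd) ≫ 𝒳.p.map ψ.hom.fst) ψ.hom.snd := by
        refine IsHomLift.of_fac' _ _ _ rfl rfl ?_
        simp only [Category.id_comp, eqToHom_refl]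
        exact hmap.symm.trans (Category.comp_id _).symm
      obtain ⟨θ, hθ, eθ⟩ := exists_lift_through h𝒳.isStack.1 ψ.hom.fst ψ.hom.snd
        (𝟙 (𝒳.p.obj (E.obj ξp).obj.snd))
      have hx : γ.hom.app (op B) ξp.sec =
          ((yon S).obj T).obj.map h.op (AlgSpace.secEquiv Tk ((yon S).map e')) := by
        rw [← AlgSpace.secEquiv_map, ← AlgSpace.secEquiv_comp, Category.assoc, pullback.condition,
          ← Category.assoc, hh]
      let o : (overCat T).obj := Over.mk e'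
      let k₀ : (ofSpMap γ).obj ξp ⟶ ⟨Tk, AlgSpace.secEquiv Tk ((yon S).map e')⟩ := ⟨h, hx.symm⟩
      have := BasedBasic.IsEquivOver.full (Rep.isEquivOver_ofOverCat T)
      have hto : (ofOverCat T).obj o = ⟨Tk, AlgSpace.secEquiv Tk ((yon S).map e')⟩ := by
        rfl
      obtain ⟨g₀, -⟩ := (ofOverCat T).toFunctor.map_surjective
        (X := (E.obj ξp).obj.fst) (Y := o)
        ((appIso (fstIso E) ξp).hom ≫ k₀ ≫ eqToHom hto.symm)
      let φ₀ : (E.obj ξp).obj.snd ⟶ (z.obj o).obj.fst :=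
        (E.obj ξp).obj.iso.inv.hom.fst ≫ (z.map g₀).hom.fst
      have hθ1 : θ = 𝟙 _ := htriv K (e ≫ T.hom) (z.obj o).obj.fst (z.w_obj o) _ φ₀ θ
        ((IsHomLift.fac' 𝒳.p (𝟙 (𝒳.p.obj (E.obj ξp).obj.snd)) θ).trans (by simp; rfl))
      refine ⟨FibProd.homMk g ψ.hom.fst ?_, rfl⟩
      have hd : (diag (toSelf 𝒳)).map ψ.hom.fst = ψ := by
        refine FibProd.hom_ext rfl ?_
        rw [hθ1] at eθ
        exact (Category.id_comp _).symm.trans eθ
      rw [hd, Iso.hom_inv_id_assoc]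
  have hl' : LocP @LocallyOfFiniteType (pullback.snd γ ((yon S).map e')) :=
    AlgSpMor.LocP.locP_of_isPullback SourceDescent.Scheme.locallyOfFiniteType G.property
      (IsAlgSpace.yon_obj T) (IsAlgSpace.yon_obj Tk) sqG hl
  have hu := Setoidal.unramified_of_mono hG' (IsAlgSpace.yon_obj Tk) hl'
  let a' : (yon S).obj (pullback m e') ⟶ pullback γ ((yon S).map e') :=
    pullback.lift ((yon S).map (pullback.fst m e') ≫ a) ((yon S).map (pullback.snd m e')) (by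
      rw [Category.assoc, ← hm, ← Functor.map_comp, ← Functor.map_comp, pullback.condition])
  have sqa : IsPullback ((yon S).map (pullback.fst m e')) a' a (pullback.fst γ ((yon S).map e')) :=
    IsPullback.of_bot (by simpa [a', hm] using AlgSpace.isPullback_yon sqW) (by simp [a']) sqG
  have hk := (hu a' (𝟙 _) (pullback.snd m e') (AlgSpace.repWith_baseChange sqa ha) (AlgSp.repWith_id _ _)
    (by simp [a'])).2
  let ι := (sqW.map (Over.forget S)).isoPullback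
  have hι : ι.inv ≫ (pullback.snd m e').left = pullback.snd m.left e :=
    (sqW.map (Over.forget S)).isoPullback_inv_snd
  rw [← hι]
  exact MorphismProperty.comp_mem @FormallyUnramified _ _ inferInstance hk

end Groth.Agent.Lib.AlgStack.Stabilizer
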