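import Groth.Agent.H14.Chart.UnivTop
import Groth.Agent.H14.Chart.OpenSub
import Groth.Agent.H14.Chart.Basic
import Groth.Agent.H14.Sep.Cover
import Groth.Agent.Lib.AlgSpace.OpenSubExists
import Groth.Prelude.Def_AlgSpCov

/-!
# The largest open substack on which a representable functor has a property
-/

set_option autoImplicit false
set_option backward.isDefEq.respectTransparency false
set_option backward.isDefEq.respectTransparency.types false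

universe u

open CategoryTheory CategoryTheory.Limits AlgebraicGeometry

namespace Groth.Agent.Lib.AlgStack.LargestOpen

open Groth.Agent.Lib.AlgStack Groth.Agent.Lib.AlgSpace
open Groth.Agent.H14.Sep
open Groth.Agent.H14.Chart
open Groth.Agent.H14.Chart.UnivTop (toSp toSp_map injective_toSp surjective_toSp isHomeomorph_toSp)
open SpProps
open FibCat (IsEquivOver fp fpFst fpSnd fpLift fpIso overCat IsFibGrpd)
open AlgSt (ofSp ofSpMap ofOverCat toOverCat spMapOfOver RepByAlgSp1 RepByAlgSpWith IsAlgStack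
  fullSub subIncl IsOpenSubstack)
open AlgSp (Sp yon IsAlgSpace LocP RepWith IsFppfCover IsLocalOnBase)

variable {S : Scheme.{u}} {P : MorphismProperty (Sp S)} {𝒳 𝒴 𝒵 : AlgSt.Cat S}

/-! ### Sets of points of a space cut out by a functor to a stack -/

/-- The points of a space which a functor sends into a set. -/
noncomputable def sset (G : AlgSp.Space S) (π : ofSp G.obj ⥤ᵇ 𝒳) (W : Set (AlgSt.Points 𝒳)) :
    Set (AlgSp.Points G.obj) :=
  toSp G '' (AlgSt.Points.map π ⁻¹' W)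

theorem mem_sset_toSp {G : AlgSp.Space S} {π : ofSp G.obj ⥤ᵇ 𝒳} {W : Set (AlgSt.Points 𝒳)}
    {p : AlgSt.Points (ofSp G.obj)} : toSp G p ∈ sset G π W ↔ AlgSt.Points.map π p ∈ W :=
  (injective_toSp G).mem_set_image

theorem isOpen_sset (h𝒳 : IsAlgStack Scheme.fppfPrecoverage 𝒳) (G : AlgSp.Space S)
    (π : ofSp G.obj ⥤ᵇ 𝒳) {W : Set (AlgSt.Points 𝒳)} (hW : IsOpen W) : IsOpen (sset G π W) :=
  (isHomeomorph_toSp G).isOpenMap _ (hW.preimage (Basic.continuous_map h𝒳 π))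

theorem sset_ofSpMap {G G' : AlgSp.Space S} (q : G'.obj ⟶ G.obj) {π : ofSp G.obj ⥤ᵇ 𝒳}
    {π' : ofSp G'.obj ⥤ᵇ 𝒳} (e : BasedFunctor.comp (ofSpMap q) π ≅ π')
    (W : Set (AlgSt.Points 𝒳)) : sset G' π' W = AlgSp.Points.map q ⁻¹' sset G π W := by
  ext g
  obtain ⟨p, rfl⟩ := surjective_toSp G' g
  rw [mem_sset_toSp, Set.mem_preimage, ← toSp_map, mem_sset_toSp, ← Basic.map_comp, Basic.map_iso e]

theorem range_map_pullback {F G F' G' : Sp S} {j : F ⟶ G} {g : G' ⟶ G} {k : F' ⟶ F} {j' : F' ⟶ G'}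
    (sq : IsPullback k j' j g) :
    Set.range (AlgSp.Points.map j') = AlgSp.Points.map g ⁻¹' Set.range (AlgSp.Points.map j) := by
  ext p
  constructor
  · rintro ⟨q, rfl⟩
    refine ⟨AlgSp.Points.map k q, ?_⟩
    rw [← AlgSp.Points.map_comp, ← AlgSp.Points.map_comp, sq.w]
  · rintro ⟨a, ha⟩
    obtain ⟨c, -, hc⟩ := exists_of_isPullback sq a p ha
    exact ⟨c, hc⟩

theorem ofSpMap_comp {F G H : Sp S} (a : F ⟶ G) (b : G ⟶ H) :
    ofSpMap (a ≫ b) = BasedFunctor.comp (ofSpMap a) (ofSpMap b) := by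
  rw [← OfPsh.ofPshMap_comp, ← ObjectProperty.FullSubcategory.comp_hom]

/-! ### Properties local on the base -/

section Local

variable (hP : StableBC P) (hPl : IsLocalOnBase IsFppfCover P)

theorem isFppfCover_etale {F : Sp S} {U : Over S} {p : (yon S).obj U ⟶ F} (he : RepWith @Etale p)
    (hs : RepWith @Surjective p) :
    IsFppfCover (fun _ : PUnit.{u + 1} => (yon S).obj U) (fun _ => p) :=
  ⟨fun _ => ⟨Comp.locP_of_repWith_etale (fun _ _ g hg => Lib.SourceDescent.Scheme.flat.etale g hg) he,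
      Comp.locP_of_repWith_etale
        (fun _ _ g hg => Lib.SourceDescent.Scheme.locallyOfFinitePresentation.etale g hg) he⟩,
    fun x => ⟨⟨⟩, surjective_map hs x⟩⟩

include hPl in
theorem fromSchemes : FromSchemes P := fun G F a hG hF h => by
  obtain ⟨U, p, he, hs⟩ := hF.atlas
  have sq := IsPullback.of_hasPullback a p
  exact (hPl (fun _ : PUnit.{u + 1} => (yon S).obj U) (fun _ => p) hF (fun _ => IsAlgSpace.yon_obj U)
    (isFppfCover_etale he hs) a hG (fun _ => pullback a p) (fun _ => pullback.snd a p)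
    (fun _ => pullback.fst a p)
    (fun _ => isAlgSpace_of_isPullback sq hF.diag hG (IsAlgSpace.yon_obj U)) (fun _ => sq)).2
      fun _ => h p _ _ sq

include hPl in
theorem descends : Cover.Descends P := fun G T' T γ s hG hs h => by
  have sq := IsPullback.of_hasPullback γ ((yon S).map s)
  exact (hPl (fun _ : PUnit.{u + 1} => (yon S).obj T') (fun _ => (yon S).map s) (IsAlgSpace.yon_obj T)
    (fun _ => IsAlgSpace.yon_obj T')
    ⟨fun _ => ⟨Lib.AlgSpMor.LocP.locP_of_repWith Lib.SourceDescent.Scheme.flat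
          ((AlgSp.repWith_yon_map_iff _ _).2 hs.1),
        Lib.AlgSpMor.LocP.locP_of_repWith Lib.SourceDescent.Scheme.locallyOfFinitePresentation
          ((AlgSp.repWith_yon_map_iff _ _).2 hs.2.1)⟩,
      fun x => ⟨⟨⟩, surjective_map hs.surj x⟩⟩
    γ hG (fun _ => pullback γ ((yon S).map s)) (fun _ => pullback.snd γ ((yon S).map s))
    (fun _ => pullback.fst γ ((yon S).map s))
    (fun _ => isAlgSpace_of_isPullback sq (IsAlgSpace.yon_obj T).diag hG (IsAlgSpace.yon_obj T'))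
    (fun _ => sq)).2 fun _ => h

include hP hPl in
/-- A property local on the base may be checked on a smooth atlas of the target. -/
theorem rep_of_atlas {d : 𝒳 ⥤ᵇ 𝒴} (hr : RepByAlgSp1 d) {V : Over S} (v : overCat V ⥤ᵇ 𝒴)
    (hv : RepByAlgSpWith (LocP @Smooth) v) (hvs : RepByAlgSpWith AlgSp.IsSurjectiveMor v)
    {G : AlgSp.Space S} {e : ofSp G.obj ⥤ᵇ fp v d} (he : IsEquivOver e)
    (h : P (spMapOfOver (BasedFunctor.comp e (fpFst v d)))) : RepByAlgSpWith P d := by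
  let γ := spMapOfOver (BasedFunctor.comp e (fpFst v d))
  have hC : RepByAlgSpWith P (fpFst v d) :=
    (Rep.repByAlgSpWith_iff_of_isEquivOver (f := fpFst v d) (f' := ofSpMap γ) he
      (Rep.isEquivOver_toOverCat V) (Rep.isoSpMapOfOver (BasedFunctor.comp e (fpFst v d))).symm).2
      (Rep.ofSpMap_of G.property (IsAlgSpace.yon_obj V) γ fun U ξ P' p q sq =>
        hP G.property (IsAlgSpace.yon_obj V)
          (isAlgSpace_of_isPullback sq (IsAlgSpace.yon_obj V).diag G.property (IsAlgSpace.yon_obj U))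
          (IsAlgSpace.yon_obj U) γ ξ q p sq h)
  refine Cover.rep_descend hP (fromSchemes hPl) (descends hPl) hr fun T z => ?_
  obtain ⟨T', s, hsm, hsu, w, ⟨α⟩⟩ := Lft.exists_lift v hv hvs z
  refine ⟨T', s, ⟨inferInstance, inferInstance, hsu⟩, ?_⟩
  have hB : RepByAlgSpWith P (fpFst (BasedFunctor.comp w v) d) :=
    (Rep.repByAlgSpWith_iff_of_isEquivOver (f := fpFst (BasedFunctor.comp w v) d)
      (f' := fpFst w (fpFst v d))
      (Rep.isEquivOver_pasteBase w v d) BasedBasic.isEquivOver_id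
      (eqToIso (Rep.pasteBase_fst w v d).symm)).2 (Rep.repByAlgSpWith_fpFst w hC)
  exact (Rep.repByAlgSpWith_iff_of_isEquivOver (f := fpFst (BasedFunctor.comp (Lft.vOf s) z) d)
    (f' := fpFst (BasedFunctor.comp w v) d) (FibProd.isEquivOver_congrLeft α.symm d)
    BasedBasic.isEquivOver_id (eqToIso (FibProd.congrLeft_fst α.symm d).symm)).2 hB

include hP hPl in
/-- A representable functor with the property has it on base changes to algebraic spaces. -/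
theorem prop_of_space_rep {d : 𝒳 ⥤ᵇ 𝒴} (h𝒳 : IsFibGrpd 𝒳.p) (h𝒴 : IsFibGrpd 𝒴.p)
    (hd : RepByAlgSpWith P d) {F : AlgSp.Space S} {g : ofSp F.obj ⥤ᵇ 𝒴} {G : AlgSp.Space S}
    {e : ofSp G.obj ⥤ᵇ fp g d} (he : IsEquivOver e) {a : G.obj ⟶ F.obj}
    (β : BasedFunctor.comp e (fpFst g d) ≅ ofSpMap a) : P a := by
  obtain ⟨G', b, t, ht, ⟨β'⟩, h⟩ :=
    Space.exists_rep_toSpace h𝒳 h𝒴 (Rep.repByAlgSp1_of_repByAlgSpWith hd) g
  have hb : P b := fromSchemes hPl b G'.property F.property fun U ξ P' p q sq =>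
    h P (Rep.respectsIsoSp hP) hd ξ p q sq
  obtain ⟨i, hi, ⟨η⟩, ⟨ε⟩⟩ := BasedBasic.IsEquivOver.exists_inverse ht
  have := Space.isIso_spHom (BasedBasic.IsEquivOver.comp he hi)
  have key : a = (asIso (Space.spHom (BasedFunctor.comp e i))).hom ≫ b := by
    calc a = Space.spHom (BasedFunctor.comp e (fpFst g d)) :=
        ((Space.spHom_eq_of_iso β).trans (Space.spHom_ofSpMap a)).symm
      _ = Space.spHom (BasedFunctor.comp (BasedFunctor.comp e i) (BasedFunctor.comp t (fpFst g d))) :=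
        Space.spHom_eq_of_iso (BasedBasic.isoWhiskerLeft e (BasedBasic.isoWhiskerRight ε.symm (fpFst g d)))
      _ = _ := by rw [Space.spHom_comp, Space.spHom_eq_of_iso β', Space.spHom_ofSpMap, asIso_hom]
  rw [key]
  exact Rep.respectsIsoSp hP _ b G'.property G.property F.property hb

end Local

/-! ### Restriction to an open substack -/

section Sub

/-- The open subspace of points over an open substack represents the restricted base change. -/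
theorem exists_rep_sub {𝒯 : AlgSt.Cat S} (h𝒳 : IsAlgStack Scheme.fppfPrecoverage 𝒳) {f : 𝒳 ⥤ᵇ 𝒴}
    {z : 𝒯 ⥤ᵇ 𝒴} {W : Set (AlgSt.Points 𝒳)} (hW : IsOpen W) {G : AlgSp.Space S}
    {e : ofSp G.obj ⥤ᵇ fp z f} (he : IsEquivOver e) {G₀ : AlgSp.Space S} (j : G₀.obj ⟶ G.obj)
    (hj : RepWith @IsOpenImmersion j)
    (hr : Set.range (AlgSp.Points.map j) = sset G (BasedFunctor.comp e (fpSnd z f)) W) :
    ∃ e₀ : ofSp G₀.obj ⥤ᵇ fp z (BasedFunctor.comp (subIncl 𝒳 (OpenSub.sub h𝒳.isStack.1 W)) f),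
      IsEquivOver e₀ ∧ Nonempty (BasedFunctor.comp e₀
        (fpFst z (BasedFunctor.comp (subIncl 𝒳 (OpenSub.sub h𝒳.isStack.1 W)) f)) ≅
          BasedFunctor.comp (ofSpMap j) (BasedFunctor.comp e (fpFst z f))) := by
  have h := h𝒳.isStack.1
  let incl := subIncl 𝒳 (OpenSub.sub h W)
  let π := BasedFunctor.comp e (fpSnd z f)
  have hO : RepByAlgSpWith (RepWith @IsOpenImmersion) incl := OpenSub.isOpenImm_sub h𝒳 hW
  have hg : IsFibGrpd (fullSub 𝒳 (OpenSub.sub h W)).p := (OpenSub.isStack_sub h𝒳 W).1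
  obtain ⟨G', b, t, ht, ⟨β⟩, hP⟩ :=
    Space.exists_rep_toSpace hg h (Rep.repByAlgSp1_of_repByAlgSpWith hO) π
  have hb : RepWith @IsOpenImmersion b :=
    SpProps2.fromSchemes_repWith _ b G'.property G.property fun U ξ P' p q sq =>
      hP _ (Rep.respectsIsoSp (SpProps2.stableBC_repWith _)) hO ξ p q sq
  have hrb : Set.range (AlgSp.Points.map b) = sset G π W := by
    ext g
    obtain ⟨p, rfl⟩ := surjective_toSp G g
    rw [mem_sset_toSp]
    constructor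
    · rintro ⟨g', hg'⟩
      obtain ⟨p', rfl⟩ := surjective_toSp G' g'
      rw [← toSp_map] at hg'
      obtain rfl := injective_toSp G hg'
      have e1 : AlgSt.Points.map π (AlgSt.Points.map (ofSpMap b) p') =
          AlgSt.Points.map incl (AlgSt.Points.map (BasedFunctor.comp t (fpSnd π incl)) p') := by
        rw [← Basic.map_comp, ← Basic.map_comp]
        exact Basic.map_iso (BasedBasic.isoWhiskerRight β.symm π ≪≫
          BasedBasic.isoWhiskerLeft t (fpIso π incl)) p'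
      rw [e1]
      exact (OpenSub.range_map_sub h W).subset ⟨_, rfl⟩
    · intro hp
      obtain ⟨q, hq⟩ := (OpenSub.range_map_sub h W).symm.subset hp
      obtain ⟨r, hr1, -⟩ := Basic.exists_points_fp hg h (Stk.isFibGrpd_ofPsh G.obj.obj) hq.symm
      obtain ⟨p', hp'⟩ := Basic.surjective_map_of_isEquivOver ht r
      refine ⟨toSp G' p', ?_⟩
      rw [← toSp_map, ← Basic.map_iso β, Basic.map_comp, hp', hr1]
  have hr' : Set.range (AlgSp.Points.map j) = Set.range (AlgSp.Points.map b) := hr.trans hrb.symm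
  obtain ⟨k, hk⟩ := (exists_lift_iff_range_subset hb j).2 hr'.le
  obtain ⟨k', hk'⟩ := (exists_lift_iff_range_subset hj b).2 hr'.ge
  have : Mono j := mono_of_repWith (P := @IsOpenImmersion)
    (fun _ _ g (_ : IsOpenImmersion g) ↦ (inferInstance : Mono g)) hj
  have : Mono b := mono_of_repWith (P := @IsOpenImmersion)
    (fun _ _ g (_ : IsOpenImmersion g) ↦ (inferInstance : Mono g)) hb
  have : IsIso k := ⟨k', by rw [← cancel_mono j, Category.assoc, hk', hk, Category.id_comp],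
    by rw [← cancel_mono b, Category.assoc, hk, hk', Category.id_comp]⟩
  have := Rep.full_id 𝒳
  have := Rep.faithful_id 𝒳
  have h1 := FibProd.isEquivOver_fpMap e (BasedFunctor.id (fullSub 𝒳 (OpenSub.sub h W)))
    (BasedFunctor.id 𝒳) (F := fpSnd z f) (G := incl) (F' := π) (G' := incl)
    (Iso.refl _) (Iso.refl _) he BasedBasic.isEquivOver_id
  refine ⟨BasedFunctor.comp (BasedFunctor.comp (ofSpMap k) t)
      (BasedFunctor.comp _ (Lib.AlgStack.Rep.pasteComp z f incl)),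
    BasedBasic.IsEquivOver.comp (BasedBasic.IsEquivOver.comp (Space.isEquivOver_ofSpMap k) ht)
      (BasedBasic.IsEquivOver.comp h1 (Lib.AlgStack.Rep.isEquivOver_pasteComp z f incl)), ⟨?_⟩⟩
  exact BasedBasic.isoWhiskerRight
    (BasedBasic.isoWhiskerLeft (ofSpMap k) β ≪≫ eqToIso (by rw [← ofSpMap_comp, hk]))
    (BasedFunctor.comp e (fpFst z f))

theorem exists_rep_sub_test (h𝒳 : IsAlgStack Scheme.fppfPrecoverage 𝒳) {f : 𝒳 ⥤ᵇ 𝒴} {T : Over S}
    {z : overCat T ⥤ᵇ 𝒴} {W : Set (AlgSt.Points 𝒳)} (hW : IsOpen W) {G : AlgSp.Space S}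
    {e : ofSp G.obj ⥤ᵇ fp z f} (he : IsEquivOver e) {G₀ : AlgSp.Space S} (j : G₀.obj ⟶ G.obj)
    (hj : RepWith @IsOpenImmersion j)
    (hr : Set.range (AlgSp.Points.map j) = sset G (BasedFunctor.comp e (fpSnd z f)) W) :
    ∃ e₀ : ofSp G₀.obj ⥤ᵇ fp z (BasedFunctor.comp (subIncl 𝒳 (OpenSub.sub h𝒳.isStack.1 W)) f),
      IsEquivOver e₀ ∧ spMapOfOver (BasedFunctor.comp e₀
        (fpFst z (BasedFunctor.comp (subIncl 𝒳 (OpenSub.sub h𝒳.isStack.1 W)) f))) =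
          j ≫ spMapOfOver (BasedFunctor.comp e (fpFst z f)) := by
  obtain ⟨e₀, he₀, ⟨β⟩⟩ := exists_rep_sub h𝒳 hW he j hj hr
  exact ⟨e₀, he₀, by rw [Rep.spMapOfOver_eq_of_iso β, Rep.spMapOfOver_precomp]⟩

theorem rangeObj_map {Φ : 𝒳 ⥤ᵇ 𝒴} (h𝒳 : IsFibGrpd 𝒳.p) (h𝒴 : IsFibGrpd 𝒴.p) (b : 𝒳.obj) :
    OpenSub.rangeObj h𝒴 (Φ.obj b) = AlgSt.Points.map Φ '' OpenSub.rangeObj h𝒳 b := by
  obtain ⟨e, he⟩ := Yoneda.exists_fromObj_iso h𝒳 (rfl : 𝒳.p.obj b = 𝒳.p.obj b)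
  have := he
  let x := Yoneda.fromObj h𝒳 (rfl : 𝒳.p.obj b = 𝒳.p.obj b)
  have h1 : 𝒴.p.IsHomLift (𝟙 (𝒳.p.obj b)) (Φ.map e.hom) := BasedFunctor.preserves_isHomLift Φ _ _
  rw [OpenSub.rangeObj_eq h𝒴 (BasedFunctor.comp x Φ) (Φ.map e.hom), OpenSub.rangeObj,
    ← Set.range_comp]
  rfl

theorem sub_preimage {Φ : 𝒳 ⥤ᵇ 𝒴} (h𝒳 : IsFibGrpd 𝒳.p) (h𝒴 : IsFibGrpd 𝒴.p)
    (W : Set (AlgSt.Points 𝒴)) :
    (fun b => OpenSub.sub h𝒴 W (Φ.obj b)) = OpenSub.sub h𝒳 (AlgSt.Points.map Φ ⁻¹' W) :=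
  funext fun b => propext (by
    show OpenSub.rangeObj h𝒴 (Φ.obj b) ⊆ W ↔ _
    rw [rangeObj_map h𝒳 h𝒴 b]
    exact Set.image_subset_iff)

end Sub

/-! ### Base change of a representing space -/

section BaseChange

variable {𝒯 𝒯' : AlgSt.Cat S}

/-- The projection of a base change. -/
def theta (u : 𝒯' ⥤ᵇ 𝒯) (v : 𝒯 ⥤ᵇ 𝒴) (f : 𝒳 ⥤ᵇ 𝒴) : fp (BasedFunctor.comp u v) f ⥤ᵇ fp v f :=
  fpLift (BasedFunctor.comp (fpFst (BasedFunctor.comp u v) f) u) (fpSnd (BasedFunctor.comp u v) f)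
    (fpIso (BasedFunctor.comp u v) f)

theorem exists_pullback_rep {V : Over S} {v : overCat V ⥤ᵇ 𝒴} {f : 𝒳 ⥤ᵇ 𝒴} {G : AlgSp.Space S}
    {e : ofSp G.obj ⥤ᵇ fp v f} (he : IsEquivOver e) {Z : AlgSp.Space S}
    (u : ofSp Z.obj ⥤ᵇ overCat V) :
    ∃ (P₀ : AlgSp.Space S) (q : P₀.obj ⟶ G.obj) (ζ : P₀.obj ⟶ Z.obj)
      (E : ofSp P₀.obj ⥤ᵇ fp (BasedFunctor.comp u v) f),
      IsPullback q ζ (spMapOfOver (BasedFunctor.comp e (fpFst v f))) (spMapOfOver u) ∧ IsEquivOver E ∧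
        Nonempty (BasedFunctor.comp E (fpFst (BasedFunctor.comp u v) f) ≅ ofSpMap ζ) ∧
        Nonempty (BasedFunctor.comp E (theta u v f) ≅ BasedFunctor.comp (ofSpMap q) e) := by
  let γ := spMapOfOver (BasedFunctor.comp e (fpFst v f))
  let s := spMapOfOver u
  have sq := IsPullback.of_hasPullback γ s
  have := BasedBasic.IsEquivOver.full (Rep.isEquivOver_toOverCat V)
  have := BasedBasic.IsEquivOver.faithful (Rep.isEquivOver_toOverCat V)
  have h1 := Space.isEquivOver_sqLift (sq.map (sheafToPresheaf _ _)).flip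
  have h2 := FibProd.isEquivOver_fpMap (BasedFunctor.id (ofSp Z.obj)) e (toOverCat V)
    (F := u) (G := fpFst v f) (F' := ofSpMap s) (G' := ofSpMap γ)
    (Rep.isoSpMapOfOver u) (Rep.isoSpMapOfOver (BasedFunctor.comp e (fpFst v f)))
    BasedBasic.isEquivOver_id he
  let K := BasedFunctor.comp (Space.sqLift (sq.map (sheafToPresheaf _ _)).flip.w)
    (FibProd.fpMap (BasedFunctor.id (ofSp Z.obj)) e (toOverCat V)
      (F := u) (G := fpFst v f) (F' := ofSpMap s) (G' := ofSpMap γ)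
      (Rep.isoSpMapOfOver u) (Rep.isoSpMapOfOver (BasedFunctor.comp e (fpFst v f))))
  let κ : BasedFunctor.comp (Lib.AlgStack.Rep.pasteBase u v f) (theta u v f) ≅
      fpSnd u (fpFst v f) :=
    Lib.Fibred.Slice.fpIsoMk (fpIso u (fpFst v f))
      (Iso.refl (BasedFunctor.comp (fpSnd u (fpFst v f)) (fpSnd v f))) fun a => by
      change v.map a.obj.iso.hom ≫ a.obj.snd.obj.iso.hom =
        (v.map a.obj.iso.hom ≫ a.obj.snd.obj.iso.hom) ≫ f.map (𝟙 _)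
      rw [f.toFunctor.map_id]
      exact (Category.comp_id _).symm
  exact ⟨⟨pullback γ s, isAlgSpace_of_isPullback sq (IsAlgSpace.yon_obj V).diag G.property Z.property⟩,
    pullback.fst γ s, pullback.snd γ s, BasedFunctor.comp K (Lib.AlgStack.Rep.pasteBase u v f), sq,
    BasedBasic.IsEquivOver.comp (BasedBasic.IsEquivOver.comp h1 h2)
      (Lib.AlgStack.Rep.isEquivOver_pasteBase u v f),
    ⟨eqToIso rfl⟩, ⟨BasedBasic.isoWhiskerLeft K κ⟩⟩

theorem exists_two_pullbacks {V : Over S} {v : overCat V ⥤ᵇ 𝒴} {f : 𝒳 ⥤ᵇ 𝒴} {G : AlgSp.Space S}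
    {e : ofSp G.obj ⥤ᵇ fp v f} (he : IsEquivOver e) {Z : AlgSp.Space S}
    (u₁ u₂ : ofSp Z.obj ⥤ᵇ overCat V) (α : BasedFunctor.comp u₁ v ≅ BasedFunctor.comp u₂ v) :
    ∃ (P₁ : AlgSp.Space S) (q₁ q₂ : P₁.obj ⟶ G.obj) (ζ : P₁.obj ⟶ Z.obj)
      (E : ofSp P₁.obj ⥤ᵇ fp (BasedFunctor.comp u₁ v) f),
      IsPullback q₁ ζ (spMapOfOver (BasedFunctor.comp e (fpFst v f))) (spMapOfOver u₁) ∧
      IsPullback q₂ ζ (spMapOfOver (BasedFunctor.comp e (fpFst v f))) (spMapOfOver u₂) ∧ IsEquivOver E ∧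
        Nonempty (BasedFunctor.comp E (theta u₁ v f) ≅ BasedFunctor.comp (ofSpMap q₁) e) ∧
        Nonempty (BasedFunctor.comp E (BasedFunctor.comp (FibProd.congrLeft α f) (theta u₂ v f)) ≅
          BasedFunctor.comp (ofSpMap q₂) e) := by
  obtain ⟨P₁, q₁, ζ₁, E₁, sq₁, hE₁, ⟨β₁⟩, ⟨θ₁⟩⟩ := exists_pullback_rep he u₁
  obtain ⟨P₂, q₂, ζ₂, E₂, sq₂, hE₂, ⟨β₂⟩, ⟨θ₂⟩⟩ := exists_pullback_rep he u₂
  obtain ⟨g₂, hg₂, ⟨η⟩, ⟨ε⟩⟩ := BasedBasic.IsEquivOver.exists_inverse hE₂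
  let E₁' := BasedFunctor.comp E₁ (FibProd.congrLeft α f)
  let κ := BasedFunctor.comp E₁' g₂
  have : IsIso (Space.spHom κ) := Space.isIso_spHom
    (BasedBasic.IsEquivOver.comp
      (BasedBasic.IsEquivOver.comp hE₁ (FibProd.isEquivOver_congrLeft α f)) hg₂)
  let φ := Space.spHom κ
  let ι : BasedFunctor.comp (ofSpMap φ) E₂ ≅ E₁' :=
    BasedBasic.isoWhiskerRight (OfPsh.isoOfPshMap κ).symm E₂ ≪≫ BasedBasic.isoWhiskerLeft E₁' ε
  have hφ : φ ≫ ζ₂ = ζ₁ := by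
    rw [← Space.spHom_ofSpMap (φ ≫ ζ₂), ← Space.spHom_ofSpMap ζ₁, ofSpMap_comp]
    exact Space.spHom_eq_of_iso (BasedBasic.isoWhiskerLeft (ofSpMap φ) β₂.symm ≪≫
      BasedBasic.isoWhiskerRight ι (fpFst (BasedFunctor.comp u₂ v) f) ≪≫ β₁)
  refine ⟨P₁, q₁, φ ≫ q₂, ζ₁, E₁, sq₁, ?_, hE₁, ⟨θ₁⟩, ⟨?_⟩⟩
  · exact IsPullback.of_iso sq₂ (asIso φ).symm (Iso.refl _) (Iso.refl _) (Iso.refl _)
      (by simp) (by simp [← hφ]) (by simp) (by simp)
  · exact (BasedBasic.isoWhiskerRight ι (theta u₂ v f)).symm ≪≫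
      BasedBasic.isoWhiskerLeft (ofSpMap φ) θ₂ ≪≫
        BasedBasic.isoWhiskerRight (eqToIso (ofSpMap_comp φ q₂).symm) e

end BaseChange

/-! ### Pairs of points over a chart -/

section Pair

variable {𝒯 𝒱 : AlgSt.Cat S}

theorem exists_pair {v : 𝒱 ⥤ᵇ 𝒴} (f : 𝒳 ⥤ᵇ 𝒴) (h𝒱 : IsFibGrpd 𝒱.p) (h𝒯 : IsFibGrpd 𝒯.p)
    (h𝒳 : IsFibGrpd 𝒳.p) (h𝒴 : IsFibGrpd 𝒴.p) (τ : 𝒯 ⥤ᵇ fp v v) (hτ : AlgSt.IsSurjective τ)
    {p p' : AlgSt.Points (fp v f)}
    (h : AlgSt.Points.map (fpSnd v f) p = AlgSt.Points.map (fpSnd v f) p') :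
    ∃ x : AlgSt.Points (fp (BasedFunctor.comp (BasedFunctor.comp τ (fpFst v v)) v) f),
      AlgSt.Points.map (theta (BasedFunctor.comp τ (fpFst v v)) v f) x = p ∧
      AlgSt.Points.map (BasedFunctor.comp (FibProd.congrLeft
          (show BasedFunctor.comp (BasedFunctor.comp τ (fpFst v v)) v ≅
            BasedFunctor.comp (BasedFunctor.comp τ (fpSnd v v)) v from
            BasedBasic.isoWhiskerLeft τ (fpIso v v)) f)
        (theta (BasedFunctor.comp τ (fpSnd v v)) v f)) x = p' := by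
  let π := fpSnd v f
  let u₁ := BasedFunctor.comp τ (fpFst v v)
  let u₂ := BasedFunctor.comp τ (fpSnd v v)
  have hvf : IsFibGrpd (fp v f).p := FibProd.isFibGrpd_fp h𝒱 h𝒳 h𝒴
  obtain ⟨r, hr₁, hr₂⟩ := Basic.exists_points_fp hvf h𝒳 hvf h
  let Γ : fp π π ⥤ᵇ fp v v :=
    fpLift (BasedFunctor.comp (fpFst π π) (fpFst v f)) (BasedFunctor.comp (fpSnd π π) (fpFst v f))
      (BasedBasic.isoWhiskerLeft (fpFst π π) (fpIso v f) ≪≫
        BasedBasic.isoWhiskerRight (fpIso π π) f ≪≫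
          (BasedBasic.isoWhiskerLeft (fpSnd π π) (fpIso v f)).symm)
  obtain ⟨t, ht⟩ := hτ (AlgSt.Points.map Γ r)
  obtain ⟨ρ, hρ, -⟩ := Basic.exists_points_fp h𝒯 (FibProd.isFibGrpd_fp h𝒱 h𝒱 h𝒴)
    (FibProd.isFibGrpd_fp hvf hvf h𝒳) (g := Γ) (f := τ) ht.symm
  let σ₁ := BasedFunctor.comp (fpFst Γ τ) (fpFst π π)
  let κ₁ : BasedFunctor.comp σ₁ (fpFst v f) ≅ BasedFunctor.comp (fpSnd Γ τ) u₁ :=
    BasedBasic.isoWhiskerRight (fpIso Γ τ) (fpFst v v)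
  let κ₂ : BasedFunctor.comp (BasedFunctor.comp (fpFst Γ τ) (fpSnd π π)) (fpFst v f) ≅
      BasedFunctor.comp (fpSnd Γ τ) u₂ :=
    BasedBasic.isoWhiskerRight (fpIso Γ τ) (fpSnd v v)
  let Ξ : fp Γ τ ⥤ᵇ fp (BasedFunctor.comp u₁ v) f :=
    fpLift (fpSnd Γ τ) (BasedFunctor.comp σ₁ (fpSnd v f))
      ((BasedBasic.isoWhiskerRight κ₁ v).symm ≪≫ BasedBasic.isoWhiskerLeft σ₁ (fpIso v f))
  let α : BasedFunctor.comp u₁ v ≅ BasedFunctor.comp u₂ v := BasedBasic.isoWhiskerLeft τ (fpIso v v)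
  let e₁ : BasedFunctor.comp Ξ (theta u₁ v f) ≅ σ₁ :=
    Lib.Fibred.Slice.fpIsoMk κ₁.symm (Iso.refl (BasedFunctor.comp σ₁ (fpSnd v f))) fun w => by
      change v.map w.obj.iso.inv.hom.fst ≫ w.obj.fst.obj.fst.obj.iso.hom =
        (v.map w.obj.iso.inv.hom.fst ≫ w.obj.fst.obj.fst.obj.iso.hom) ≫ f.map (𝟙 _)
      rw [f.toFunctor.map_id]
      exact (Category.comp_id _).symm
  let e₂ : BasedFunctor.comp Ξ (BasedFunctor.comp (FibProd.congrLeft α f) (theta u₂ v f)) ≅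
      BasedFunctor.comp (fpFst Γ τ) (fpSnd π π) :=
    Lib.Fibred.Slice.fpIsoMk κ₂.symm (BasedBasic.isoWhiskerLeft (fpFst Γ τ) (fpIso π π)) fun w => by
      have h1 : v.map w.obj.iso.inv.hom.fst ≫ (w.obj.fst.obj.fst.obj.iso.hom ≫
          f.map w.obj.fst.obj.iso.hom ≫ w.obj.fst.obj.snd.obj.iso.inv) =
          (τ.obj w.obj.snd).obj.iso.hom ≫ v.map w.obj.iso.inv.hom.snd := w.obj.iso.inv.hom.w
      change v.map w.obj.iso.inv.hom.snd ≫ w.obj.fst.obj.snd.obj.iso.hom =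
        ((τ.obj w.obj.snd).obj.iso.inv ≫
          (v.map w.obj.iso.inv.hom.fst ≫ w.obj.fst.obj.fst.obj.iso.hom) ≫ 𝟙 _) ≫
            f.map w.obj.fst.obj.iso.hom
      rw [Category.comp_id, Category.assoc, Iso.eq_inv_comp]
      have h2 := congrArg (fun m => m ≫ w.obj.fst.obj.snd.obj.iso.hom) h1
      simp only [Category.assoc, Iso.inv_hom_id, Category.comp_id] at h2
      simp only [Category.assoc]
      exact h2.symm
  refine ⟨AlgSt.Points.map Ξ ρ, ?_, ?_⟩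
  · rw [← Basic.map_comp, Basic.map_iso e₁, Basic.map_comp, hρ, hr₁]
  · rw [← Basic.map_comp, Basic.map_iso e₂, Basic.map_comp, hρ, hr₂]

end Pair

/-! ### The largest open substack -/

section Largest

/-- `w` is the largest open subspace on which `f` has the property. -/
def Largest (P : MorphismProperty (Sp S)) {W X Y : AlgSp.Space S} (w : W ⟶ X) (f : X ⟶ Y) : Prop :=
  RepWith @IsOpenImmersion w.hom ∧ P (w ≫ f).hom ∧
    ∀ (W₁ : AlgSp.Space S) (w₁ : W₁ ⟶ X), RepWith @IsOpenImmersion w₁.hom → P (w₁ ≫ f).hom →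
      ∃ k : W₁ ⟶ W, k ≫ w = w₁

theorem Largest.range_le {W W₁ X Y : AlgSp.Space S} {w : W ⟶ X} {f : X ⟶ Y} (h : Largest P w f)
    (w₁ : W₁ ⟶ X) (h₁ : RepWith @IsOpenImmersion w₁.hom) (h₁P : P (w₁ ≫ f).hom) :
    Set.range (AlgSp.Points.map w₁.hom) ⊆ Set.range (AlgSp.Points.map w.hom) := by
  obtain ⟨k, rfl⟩ := h.2.2 W₁ w₁ h₁ h₁P
  rintro _ ⟨p, rfl⟩
  exact ⟨AlgSp.Points.map k.hom p, (AlgSp.Points.map_comp _ _ _).symm⟩

variable (P) (Q R : MorphismProperty (Sp S))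

/-- Formation of the largest open subspace commutes with base change by `R`. -/
def Commutes : Prop :=
  ∀ (X Y X' Y' : AlgSp.Space S) (f : X ⟶ Y) (g : Y' ⟶ Y) (f' : X' ⟶ Y') (g' : X' ⟶ X),
    IsPullback g'.hom f'.hom f.hom g.hom → Q f.hom → R g.hom →
      ∀ (W : AlgSp.Space S) (w : W ⟶ X), Largest P w f →
        ∀ (W' : AlgSp.Space S) (w' : W' ⟶ X') (k : W' ⟶ W), IsPullback k.hom w'.hom w.hom g'.hom →
          Largest P w' f'

variable {P Q R}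

theorem Commutes.exists_largest (h₄ : Commutes P Q R) {X Y X' Y' W : AlgSp.Space S} {f : X ⟶ Y}
    (hQ : Q f.hom) {w : W ⟶ X} (hw : Largest P w f) {g : Y'.obj ⟶ Y.obj} (hg : R g)
    {f' : X'.obj ⟶ Y'.obj} {g' : X'.obj ⟶ X.obj} (sq : IsPullback g' f' f.hom g) :
    ∃ (W' : AlgSp.Space S) (w' : W' ⟶ X'), Largest P w' (ObjectProperty.homMk f') ∧
      Set.range (AlgSp.Points.map w'.hom) =
        AlgSp.Points.map g' ⁻¹' Set.range (AlgSp.Points.map w.hom) := by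
  have sqw := IsPullback.of_hasPullback w.hom g'
  refine ⟨⟨pullback w.hom g', isAlgSpace_of_isPullback sqw X.property.diag W.property X'.property⟩,
    ObjectProperty.homMk (pullback.snd w.hom g'),
    h₄ X Y X' Y' f (ObjectProperty.homMk g) _ (ObjectProperty.homMk g') sq hQ hg W w hw _ _
      (ObjectProperty.homMk (pullback.fst w.hom g')) sqw, range_map_pullback sqw⟩

variable (h𝒳 : IsAlgStack Scheme.fppfPrecoverage 𝒳) (h𝒴 : IsAlgStack Scheme.fppfPrecoverage 𝒴)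
  (hP : StableBC P) (hQ : StableBC Q) (hPl : IsLocalOnBase IsFppfCover P)
  (h₂ : ∀ (X Y : AlgSp.Space S) (g : X ⟶ Y), LocP @Smooth g.hom → R g.hom)
  (h₃ : ∀ (X Y : AlgSp.Space S) (f : X ⟶ Y), Q f.hom →
    ∃ (W : AlgSp.Space S) (w : W ⟶ X), Largest P w f)
  (h₄ : Commutes P Q R) {f : 𝒳 ⥤ᵇ 𝒴} (hf : RepByAlgSpWith Q f)

theorem smooth_snd {𝒲 : AlgSt.Cat S} {V : Over S} {v : overCat V ⥤ᵇ 𝒲}
    (hv : RepByAlgSpWith (LocP @Smooth) v) {V₁ : AlgSp.Space S} {e₁ : ofSp V₁.obj ⥤ᵇ fp v v}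
    (he₁ : IsEquivOver e₁) : LocP @Smooth (spMapOfOver (BasedFunctor.comp e₁ (fpSnd v v))) := by
  have hR : Space.RespectsIsoSp (LocP @Smooth (S := S)) :=
    IsAlgFp.respectsIsoSp_locP Lib.SourceDescent.Scheme.smooth
  have he : IsEquivOver (BasedFunctor.comp e₁ (FibProd.swap v v)) :=
    BasedBasic.IsEquivOver.comp he₁ (FibProd.isEquivOver_swap v v)
  have h := Space.prop_of_rep (P := LocP @Smooth) (f := v) (y := v) hR hv V₁.property
    (e := BasedFunctor.comp e₁ (FibProd.swap v v)) he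
  have eq1 : BasedFunctor.comp (BasedFunctor.comp e₁ (FibProd.swap v v)) (fpFst v v) =
      BasedFunctor.comp e₁ (BasedFunctor.comp (FibProd.swap v v) (fpFst v v)) := rfl
  have eq2 : BasedFunctor.comp (FibProd.swap v v) (fpFst v v) = fpSnd v v := rfl
  rw [eq1, eq2] at h
  exact h

include h𝒳 h𝒴 h₂ h₄ in
theorem saturated {V : Over S} (v : overCat V ⥤ᵇ 𝒴) (hv : RepByAlgSpWith (LocP @Smooth) v)
    {G : AlgSp.Space S} {e : ofSp G.obj ⥤ᵇ fp v f}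
    (he : IsEquivOver e) (hQγ : Q (spMapOfOver (BasedFunctor.comp e (fpFst v f))))
    {W : AlgSp.Space S} (w : W ⟶ G)
    (hw : Largest P w (ObjectProperty.homMk (spMapOfOver (BasedFunctor.comp e (fpFst v f))) :
          G ⟶ (AlgSp.ofScheme S).obj V))
    (p p' : AlgSt.Points (ofSp G.obj))
    (hpp : AlgSt.Points.map (BasedFunctor.comp e (fpSnd v f)) p =
      AlgSt.Points.map (BasedFunctor.comp e (fpSnd v f)) p')
    (hp : toSp G p ∈ Set.range (AlgSp.Points.map w.hom)) :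
    toSp G p' ∈ Set.range (AlgSp.Points.map w.hom) := by
  obtain ⟨V₁, e₁, he₁, hp₁⟩ := hv V v
  have hp₂ : LocP @Smooth (spMapOfOver (BasedFunctor.comp e₁ (fpSnd v v))) :=
    smooth_snd hv he₁
  obtain ⟨P₁, q₁, q₂, ζ, E, sq₁, sq₂, hE, ⟨θ₁⟩, ⟨θ₂⟩⟩ := exists_two_pullbacks he
    (BasedFunctor.comp e₁ (fpFst v v)) (BasedFunctor.comp e₁ (fpSnd v v))
    (BasedBasic.isoWhiskerLeft e₁ (fpIso v v))
  obtain ⟨W₁, w₁, hw₁, hr₁⟩ := h₄.exists_largest (Y' := V₁) hQγ hw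
    (h₂ V₁ ((AlgSp.ofScheme S).obj V)
      (ObjectProperty.homMk (spMapOfOver (BasedFunctor.comp e₁ (fpFst v v)))) hp₁) sq₁
  obtain ⟨W₂, w₂, hw₂, hr₂⟩ := h₄.exists_largest (Y' := V₁) hQγ hw
    (h₂ V₁ ((AlgSp.ofScheme S).obj V)
      (ObjectProperty.homMk (spMapOfOver (BasedFunctor.comp e₁ (fpSnd v v)))) hp₂) sq₂
  have hr : Set.range (AlgSp.Points.map w₁.hom) = Set.range (AlgSp.Points.map w₂.hom) :=
    le_antisymm (hw₂.range_le w₁ hw₁.1 hw₁.2.1) (hw₁.range_le w₂ hw₂.1 hw₂.2.1)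
  rw [hr₁, hr₂] at hr
  obtain ⟨x, hx₁, hx₂⟩ := exists_pair f (Yoneda.isFibGrpd_overCat V)
    (IsAlg.isAlgStack_ofSp V₁).isStack.1 h𝒳.isStack.1 h𝒴.isStack.1 e₁
    (Basic.surjective_map_of_isEquivOver he₁)
    (p := AlgSt.Points.map e p) (p' := AlgSt.Points.map e p') (by rwa [← Basic.map_comp, ← Basic.map_comp])
  obtain ⟨x', rfl⟩ := Basic.surjective_map_of_isEquivOver hE x
  have hinj : Function.Injective (AlgSt.Points.map e) :=
    (UnivTop.isHomeomorph_map_of_isEquivOver (IsAlg.isAlgStack_ofSp G)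
      (Basic.isAlgStack_fp h𝒴 (Basic.isAlgStack_overCat V) h𝒳 v f) he).injective
  have e1 : AlgSt.Points.map (ofSpMap q₁) x' = p := hinj (by
    rw [← Basic.map_comp, ← Basic.map_iso θ₁, Basic.map_comp]; exact hx₁)
  have e2 : AlgSt.Points.map (ofSpMap q₂) x' = p' := hinj (by
    rw [← Basic.map_comp, ← Basic.map_iso θ₂, Basic.map_comp]; exact hx₂)
  have h1 : toSp P₁ x' ∈ AlgSp.Points.map q₁ ⁻¹' Set.range (AlgSp.Points.map w.hom) := by
    rw [Set.mem_preimage, ← toSp_map, e1]; exact hp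
  rw [hr, Set.mem_preimage, ← toSp_map, e2] at h1
  exact h1

include h𝒳 h𝒴 hP hPl h₂ h₃ h₄ hf in
/-- The largest open substack, with its description on an atlas of the target. -/
theorem exists_core {V : Over S} (v : overCat V ⥤ᵇ 𝒴) (hv : RepByAlgSpWith (LocP @Smooth) v)
    (hvs : RepByAlgSpWith AlgSp.IsSurjectiveMor v) {G : AlgSp.Space S} {e : ofSp G.obj ⥤ᵇ fp v f}
    (he : IsEquivOver e) (hQγ : Q (spMapOfOver (BasedFunctor.comp e (fpFst v f)))) :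
    ∃ W₀ : Set (AlgSt.Points 𝒳), IsOpen W₀ ∧
      RepByAlgSpWith P (BasedFunctor.comp (subIncl 𝒳 (OpenSub.sub h𝒳.isStack.1 W₀)) f) ∧
      (∀ W₁ : Set (AlgSt.Points 𝒳), IsOpen W₁ →
        RepByAlgSpWith P (BasedFunctor.comp (subIncl 𝒳 (OpenSub.sub h𝒳.isStack.1 W₁)) f) → W₁ ⊆ W₀) ∧
      ∃ (W : AlgSp.Space S) (w : W ⟶ G),
        Largest P w (ObjectProperty.homMk (spMapOfOver (BasedFunctor.comp e (fpFst v f))) :
          G ⟶ (AlgSp.ofScheme S).obj V) ∧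
        Set.range (AlgSp.Points.map w.hom) = sset G (BasedFunctor.comp e (fpSnd v f)) W₀ := by
  have hX := h𝒳.isStack.1
  have hY := h𝒴.isStack.1
  let γ := spMapOfOver (BasedFunctor.comp e (fpFst v f))
  let γ' : G ⟶ (AlgSp.ofScheme S).obj V := ObjectProperty.homMk γ
  let π := BasedFunctor.comp e (fpSnd v f)
  obtain ⟨W, w, hw⟩ := h₃ _ _ γ' hQγ
  -- the projection of the chart is open and surjective
  have hπ : RepByAlgSpWith (LocP @Smooth) π := LocQ.rep_precomp_equiv he (Rep.fpSnd_of f hv)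
  have hπs : AlgSt.IsSurjective π := Points.isSurjective_of_rep hX
    (LocQ.rep_precomp_equiv he (Rep.fpSnd_of f hvs))
  obtain ⟨C, c, hce, hcs⟩ := G.property.atlas
  let a := BasedFunctor.comp (ofOverCat C) (ofSpMap c)
  have hG := IsAlg.isAlgStack_ofSp G
  have ha : RepByAlgSpWith (LocP @Smooth) a :=
    IsAlg.repByAlgSpWith_atlas hce hcs fun _ _ _ hq _ => IsAlg.locP_smooth hq
  have has := Points.surjective_ofChart hG.isStack.1
    (IsAlg.repByAlgSpWith_atlas (P := AlgSp.IsSurjectiveMor) hce hcs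
      fun _ _ _ _ hq => surjective_map hq)
  have hπo : IsOpenMap (AlgSt.Points.map π) := fun O hO => by
    have e1 : AlgSt.Points.map π '' O = AlgSt.Points.ofChart (BasedFunctor.comp a π) ''
        (AlgSt.Points.ofChart a ⁻¹' O) := by
      conv_lhs => rw [← Set.image_preimage_eq O has, ← Set.image_comp]
      rfl
    rw [e1]
    exact Points.isOpenMap_ofChart hX
      (IsAlgFp.comp_locP LocQ.smoothST (Yoneda.isFibGrpd_overCat C) hG.isStack.1 ha hπ) _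
      (hO.preimage (Points.continuous_ofChart hG a))
  let M : Set (AlgSt.Points (ofSp G.obj)) := toSp G ⁻¹' Set.range (AlgSp.Points.map w.hom)
  have hM : IsOpen M := by
    refine IsOpen.preimage (isHomeomorph_toSp G).continuous ?_
    exact (Lib.AlgSpace.isOpenMap_map (repWith_mono hw.1 fun _ _ g (_ : IsOpenImmersion g) =>
      (inferInstance : UniversallyOpen g))).isOpen_range
  refine ⟨AlgSt.Points.map π '' M, hπo _ hM, ?_⟩
  -- saturation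
  have hsat : ∀ p p' : AlgSt.Points (ofSp G.obj), AlgSt.Points.map π p = AlgSt.Points.map π p' →
      p ∈ M → p' ∈ M := fun p p' hpp hp =>
    saturated h𝒳 h𝒴 h₂ h₄ v hv he hQγ w hw p p' hpp hp
  have hsset : Set.range (AlgSp.Points.map w.hom) = sset G π (AlgSt.Points.map π '' M) := by
    ext g
    obtain ⟨p, rfl⟩ := surjective_toSp G g
    rw [mem_sset_toSp]
    exact ⟨fun hp => ⟨p, hp, rfl⟩, fun ⟨p₀, hp₀, h⟩ => hsat p₀ p h hp₀⟩
  refine ⟨?_, fun W₁ hW₁ hP₁ => ?_, W, w, hw, hsset⟩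
  · obtain ⟨e₀, he₀, hγ₀⟩ := exists_rep_sub_test h𝒳 (hπo _ hM) he w.hom hw.1 hsset
    refine rep_of_atlas hP hPl (Space.repByAlgSp1_comp (OpenSub.isStack_sub h𝒳 _).1 hX
      (Rep.repByAlgSp1_of_repByAlgSpWith (OpenSub.isOpenImm_sub h𝒳 (hπo _ hM)))
      (Rep.repByAlgSp1_of_repByAlgSpWith hf)) v hv hvs he₀ ?_
    rw [hγ₀]
    exact hw.2.1
  · obtain ⟨G₁', j₁, hG₁, hj₁, hr₁⟩ := exists_open_subspace G.property (isOpen_sset h𝒳 G π hW₁)
    obtain ⟨e₀, he₀, hγ₀⟩ := exists_rep_sub_test h𝒳 hW₁ he (G₀ := ⟨G₁', hG₁⟩) j₁ hj₁ hr₁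
    have hP₁' : P (j₁ ≫ γ) := hγ₀ ▸ Space.prop_of_rep (Rep.respectsIsoSp hP) hP₁ hG₁ he₀
    have hle := hw.range_le (ObjectProperty.homMk j₁ : (⟨G₁', hG₁⟩ : AlgSp.Space S) ⟶ _) hj₁ hP₁'
    intro y hy
    obtain ⟨p, rfl⟩ := hπs y
    have hp : toSp G p ∈ Set.range (AlgSp.Points.map j₁) := by
      rw [hr₁]; exact mem_sset_toSp.2 hy
    exact ⟨p, hle hp, rfl⟩

include h𝒳 h𝒴 hP hPl h₂ h₃ h₄ hf in
theorem exists_largest_substack :
    ∃ Q₀ : 𝒳.obj → Prop, IsOpenSubstack 𝒳 Q₀ Scheme.fppfPrecoverage ∧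
      RepByAlgSpWith P (BasedFunctor.comp (subIncl 𝒳 Q₀) f) ∧
        ∀ Q₁ : 𝒳.obj → Prop, IsOpenSubstack 𝒳 Q₁ Scheme.fppfPrecoverage →
          RepByAlgSpWith P (BasedFunctor.comp (subIncl 𝒳 Q₁) f) → ∀ y, Q₁ y → Q₀ y := by
  obtain ⟨V, v, hv, hvs⟩ := h𝒴.atlas
  obtain ⟨G, e, he, hQγ⟩ := hf V v
  obtain ⟨W₀, hW₀, hP₀, hmax, -⟩ := exists_core h𝒳 h𝒴 hP hPl h₂ h₃ h₄ hf v hv hvs he hQγ
  refine ⟨_, OpenSub.isOpenSubstack_sub h𝒳 hW₀, hP₀, fun Q₁ hQ₁ hP₁ y hy => ?_⟩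
  rw [OpenSub.eq_sub h𝒳 hQ₁] at hy hP₁
  exact hy.trans (hmax _ (OpenSub.isOpen_range h𝒳 hQ₁) hP₁)

include h𝒳 h𝒴 hP hPl h₂ h₃ h₄ hf in
theorem baseChange_largest (h𝒵 : IsAlgStack Scheme.fppfPrecoverage 𝒵) (Q₀ : 𝒳.obj → Prop)
    (hQ₀ : IsOpenSubstack 𝒳 Q₀ Scheme.fppfPrecoverage)
    (hQ₀P : RepByAlgSpWith P (BasedFunctor.comp (subIncl 𝒳 Q₀) f))
    (hQ₀max : ∀ Q₁ : 𝒳.obj → Prop, IsOpenSubstack 𝒳 Q₁ Scheme.fppfPrecoverage →
      RepByAlgSpWith P (BasedFunctor.comp (subIncl 𝒳 Q₁) f) → ∀ y, Q₁ y → Q₀ y)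
    (z : 𝒵 ⥤ᵇ 𝒴) (hz : RepByAlgSpWith R z) :
    IsOpenSubstack (fp z f) (fun b ↦ Q₀ b.obj.snd) Scheme.fppfPrecoverage ∧
      RepByAlgSpWith P
        (BasedFunctor.comp (subIncl (fp z f) fun b ↦ Q₀ b.obj.snd) (fpFst z f)) ∧
        ∀ Q₁ : (fp z f).obj → Prop, IsOpenSubstack (fp z f) Q₁ Scheme.fppfPrecoverage →
          RepByAlgSpWith P (BasedFunctor.comp (subIncl (fp z f) Q₁) (fpFst z f)) →
            ∀ b, Q₁ b → Q₀ b.obj.snd := by
  have hX := h𝒳.isStack.1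
  have hY := h𝒴.isStack.1
  have hfz := Basic.isAlgStack_fp h𝒴 h𝒵 h𝒳 z f
  obtain ⟨V, v, hv, hvs⟩ := h𝒴.atlas
  obtain ⟨G, e, he, hQγ⟩ := hf V v
  obtain ⟨W₀, hW₀, hP₀, hmax, W, w, hw, hsset⟩ := exists_core h𝒳 h𝒴 hP hPl h₂ h₃ h₄ hf v hv hvs he hQγ
  obtain rfl : Q₀ = OpenSub.sub hX W₀ := by
    refine funext fun y => propext ⟨fun hy => ?_,
      hQ₀max _ (OpenSub.isOpenSubstack_sub h𝒳 hW₀) hP₀ y⟩
    rw [OpenSub.eq_sub h𝒳 hQ₀] at hy hQ₀P
    exact hy.trans (hmax _ (OpenSub.isOpen_range h𝒳 hQ₀) hQ₀P)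
  let f' := fpFst z f
  let W₀' := AlgSt.Points.map (fpSnd z f) ⁻¹' W₀
  have hW₀' : IsOpen W₀' := hW₀.preimage (Basic.continuous_map h𝒳 _)
  have heq : (fun b : (fp z f).obj ↦ OpenSub.sub hX W₀ b.obj.snd) = OpenSub.sub hfz.isStack.1 W₀' :=
    sub_preimage (Φ := fpSnd z f) hfz.isStack.1 hX W₀
  rw [heq]
  refine ⟨OpenSub.isOpenSubstack_sub hfz hW₀', fun T y => ?_, fun Q₁ hQ₁ hP₁ b hb => ?_⟩
  · obtain ⟨G', e', he', -⟩ := hf T (BasedFunctor.comp y z)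
    obtain ⟨i, hi, ⟨η⟩, ⟨ε⟩⟩ :=
      BasedBasic.IsEquivOver.exists_inverse (Lib.AlgStack.Rep.isEquivOver_pasteBase y z f)
    let e'' := BasedFunctor.comp e' i
    let ι : BasedFunctor.comp e'' (Lib.AlgStack.Rep.pasteBase y z f) ≅ e' :=
      BasedBasic.isoWhiskerLeft e' ε
    let π' := BasedFunctor.comp e' (fpSnd (BasedFunctor.comp y z) f)
    obtain ⟨G₀, j, hG₀, hj, hr⟩ := exists_open_subspace G'.property (isOpen_sset h𝒳 G' π' hW₀)
    obtain ⟨e₀, he₀, hγ₀⟩ := exists_rep_sub_test h𝒳 hW₀ he' (G₀ := ⟨G₀, hG₀⟩) j hj hr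
    have hPj := hγ₀ ▸ Space.prop_of_rep (Rep.respectsIsoSp hP) hQ₀P hG₀ he₀
    have hr' : Set.range (AlgSp.Points.map j) =
        sset G' (BasedFunctor.comp e'' (fpSnd y f')) W₀' := by
      rw [hr]
      ext g
      obtain ⟨p, rfl⟩ := surjective_toSp G' g
      rw [mem_sset_toSp, mem_sset_toSp, Set.mem_preimage, ← Basic.map_comp,
        ← Basic.map_iso (BasedBasic.isoWhiskerRight ι (fpSnd (BasedFunctor.comp y z) f))]
      rfl
    obtain ⟨e₁, he₁, hγ₁⟩ := exists_rep_sub_test hfz hW₀' (f := f')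
      (BasedBasic.IsEquivOver.comp he' hi) (G₀ := ⟨G₀, hG₀⟩) j hj hr'
    refine ⟨⟨G₀, hG₀⟩, e₁, he₁, ?_⟩
    rw [hγ₁, show spMapOfOver (BasedFunctor.comp e'' (fpFst y f')) =
        spMapOfOver (BasedFunctor.comp e' (fpFst (BasedFunctor.comp y z) f)) from
      Rep.spMapOfOver_eq_of_iso
        (BasedBasic.isoWhiskerRight ι (fpFst (BasedFunctor.comp y z) f))]
    exact hPj
  · let W₁ := Set.range (AlgSt.Points.map (subIncl (fp z f) Q₁))
    rw [OpenSub.eq_sub hfz hQ₁] at hb hP₁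
    change OpenSub.rangeObj hfz.isStack.1 b ⊆ _ at hb
    show OpenSub.sub hX W₀ b.obj.snd
    rw [show OpenSub.sub hX W₀ b.obj.snd = OpenSub.sub hfz.isStack.1 W₀' b from congrFun heq b]
    refine hb.trans ?_
    have hW₁ : IsOpen W₁ := OpenSub.isOpen_range hfz hQ₁
    show W₁ ⊆ W₀'
    obtain ⟨Z, eZ, heZ, hR⟩ := hz V v
    let u := BasedFunctor.comp eZ (fpFst v z)
    let c := BasedFunctor.comp eZ (fpSnd v z)
    let α : BasedFunctor.comp u v ≅ BasedFunctor.comp c z :=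
      BasedBasic.isoWhiskerLeft eZ (fpIso v z)
    obtain ⟨X', q, ζ, E, sqE, hE, ⟨βE⟩, ⟨θE⟩⟩ := exists_pullback_rep he u
    obtain ⟨i, hi, ⟨η⟩, ⟨ε⟩⟩ :=
      BasedBasic.IsEquivOver.exists_inverse (Lib.AlgStack.Rep.isEquivOver_pasteBase c z f)
    let E' := BasedFunctor.comp E (FibProd.congrLeft α f)
    let E₀ := BasedFunctor.comp E' i
    have hE₀ : IsEquivOver E₀ := BasedBasic.IsEquivOver.comp
      (BasedBasic.IsEquivOver.comp hE (FibProd.isEquivOver_congrLeft α f)) hi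
    let ι : BasedFunctor.comp E₀ (Lib.AlgStack.Rep.pasteBase c z f) ≅ E' :=
      BasedBasic.isoWhiskerLeft E' ε
    let β₀ : BasedFunctor.comp E₀ (fpFst c f') ≅ ofSpMap ζ :=
      BasedBasic.isoWhiskerRight ι (fpFst (BasedFunctor.comp c z) f) ≪≫ βE
    obtain ⟨G₁', j₁, hG₁, hj₁, hr₁⟩ := exists_open_subspace X'.property
      (isOpen_sset hfz X' (BasedFunctor.comp E₀ (fpSnd c f')) hW₁)
    obtain ⟨e₁, he₁, ⟨β₁⟩⟩ := exists_rep_sub hfz (f := f') hW₁ hE₀ (G₀ := ⟨G₁', hG₁⟩) j₁ hj₁ hr₁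
    have hPj : P (j₁ ≫ ζ) := prop_of_space_rep hP hPl (OpenSub.isStack_sub hfz W₁).1
      h𝒵.isStack.1 hP₁ he₁
      (β₁ ≪≫ BasedBasic.isoWhiskerLeft (ofSpMap j₁) β₀ ≪≫ eqToIso (ofSpMap_comp j₁ ζ).symm)
    obtain ⟨W', w', hw', hr'⟩ := h₄.exists_largest hQγ hw (g := spMapOfOver u) hR sqE
    have hle := hw'.range_le (ObjectProperty.homMk j₁ : (⟨G₁', hG₁⟩ : AlgSp.Space S) ⟶ _) hj₁ hPj
    intro r hr
    have hcs : AlgSt.IsSurjective c := fun s => by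
      obtain ⟨s', hs'⟩ := Basic.surjective_fpSnd h𝒵.isStack.1 hY (Yoneda.isFibGrpd_overCat V) z
        (Points.isSurjective_of_rep hY hvs) s
      obtain ⟨s'', rfl⟩ := Basic.surjective_map_of_isEquivOver heZ s'
      exact ⟨s'', (Basic.map_comp _ _ _).trans hs'⟩
    obtain ⟨x, hx⟩ := Basic.surjective_fpSnd hfz.isStack.1 h𝒵.isStack.1
      (IsAlg.isAlgStack_ofSp Z).isStack.1 f' hcs r
    obtain ⟨x', rfl⟩ := Basic.surjective_map_of_isEquivOver hE₀ x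
    have h1 : toSp X' x' ∈ Set.range (AlgSp.Points.map j₁) := by
      rw [hr₁]
      refine mem_sset_toSp.2 ?_
      rw [Basic.map_comp, hx]
      exact hr
    have h2 := hle h1
    rw [hr', Set.mem_preimage, ← toSp_map, hsset, mem_sset_toSp, ← Basic.map_comp] at h2
    show AlgSt.Points.map (fpSnd z f) r ∈ W₀
    rw [← hx, ← Basic.map_comp, ← Basic.map_comp]
    have := Basic.map_iso (BasedBasic.isoWhiskerRight ι (fpSnd (BasedFunctor.comp c z) f) ≪≫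
      BasedBasic.isoWhiskerRight θE (fpSnd v f)) x'
    exact this.symm ▸ h2

end Largest

end Groth.Agent.Lib.AlgStack.LargestOpen
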