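import Groth.Agent.Lib.AlgStack.FibProd
import Groth.Agent.Lib.AlgStack.Rep
import Groth.Agent.Lib.AlgStack.Yoneda
import Groth.Agent.Lib.Fibred.StackLocal
import Groth.Agent.H14.Sep.Rep
import Groth.Agent.H14.Chart.Points
import Groth.Prelude.Def_AlgSt3

/-!
Open substacks cut out by a condition on objects with open loci, in any universes.
-/

set_option autoImplicit false
set_option backward.isDefEq.respectTransparency false
set_option backward.isDefEq.respectTransparency.types false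

universe v w u

open CategoryTheory CategoryTheory.Limits AlgebraicGeometry

namespace Groth.Agent.Lib.AlgStack.OpenLocus

open Groth.Agent.Lib.AlgStack
open FibCat (IsEquivOver fp fpFst fpSnd fpLift fpIso overCat IsFibGrpd toSelf)
open AlgSt (ofSp toOverCat spMapOfOver overMap RepByAlgSp1 RepByAlgSpWith IsAlgStack
  fullSub subIncl IsOpenSubstack IsOpenImm)
open AlgSp (Sp yon LocP RepWith IsSurjectiveMor)

variable {S : Scheme.{u}} {𝒳 : BasedCategory.{v, w} (Over S)} {Q : 𝒳.obj → Prop}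

/-- The locus over every chart where the objects satisfy `Q` is open. -/
def HasOpenLoci (Q : 𝒳.obj → Prop) : Prop :=
  ∀ (U : Over S) (y : overCat U ⥤ᵇ 𝒳), ∃ O : U.left.Opens,
    ∀ g : Over U, Q (y.obj g) ↔ Set.range g.hom.left ⊆ (O : Set U.left)

/-! ### The diagonal of a full subcategory -/

/-- The inclusion of the squares. -/
abbrev sqIncl (Q : 𝒳.obj → Prop) :
    fp (toSelf (fullSub 𝒳 Q)) (toSelf (fullSub 𝒳 Q)) ⥤ᵇ fp (toSelf 𝒳) (toSelf 𝒳) :=
  fpLift (BasedFunctor.comp (fpFst (toSelf (fullSub 𝒳 Q)) (toSelf (fullSub 𝒳 Q))) (subIncl 𝒳 Q))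
    (BasedFunctor.comp (fpSnd (toSelf (fullSub 𝒳 Q)) (toSelf (fullSub 𝒳 Q))) (subIncl 𝒳 Q))
    (fpIso (toSelf (fullSub 𝒳 Q)) (toSelf (fullSub 𝒳 Q)))

/-- The diagonal of the subcategory over the diagonal. -/
abbrev diagCmp (Q : 𝒳.obj → Prop) :
    fullSub 𝒳 Q ⥤ᵇ fp (sqIncl Q) (FibCat.diag (toSelf 𝒳)) :=
  fpLift (FibCat.diag (toSelf (fullSub 𝒳 Q))) (subIncl 𝒳 Q) (Iso.refl _)

theorem isEquivOver_diagCmp (Q : 𝒳.obj → Prop) : IsEquivOver (diagCmp Q) := by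
  let i := subIncl 𝒳 Q
  let g := toSelf 𝒳
  let L := diagCmp Q
  change IsEquivOver L
  have : i.toFunctor.Full := inferInstanceAs (ObjectProperty.ι Q).Full
  have : i.toFunctor.Faithful := inferInstanceAs (ObjectProperty.ι Q).Faithful
  have : L.toFunctor.Faithful := ⟨fun {a b φ ψ} h => congrArg (fun m => m.hom.fst.hom.fst) h⟩
  have : L.toFunctor.Full := ⟨fun {a b} m => by
    have w1 : i.map m.hom.fst.hom.fst ≫ 𝟙 _ = 𝟙 _ ≫ m.hom.snd := congrArg (fun t => t.hom.fst) m.hom.w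
    have w2 : i.map m.hom.fst.hom.snd ≫ 𝟙 _ = 𝟙 _ ≫ m.hom.snd := congrArg (fun t => t.hom.snd) m.hom.w
    have e1 : i.map m.hom.fst.hom.fst = m.hom.snd :=
      (Category.comp_id _).symm.trans (w1.trans (Category.id_comp _))
    have e2 : m.hom.fst.hom.fst = m.hom.fst.hom.snd := i.toFunctor.map_injective
      (e1.trans ((Category.id_comp _).symm.trans (w2.symm.trans (Category.comp_id _))))
    exact ⟨m.hom.fst.hom.fst, FibProd.hom_ext (FibProd.hom_ext rfl e2) e1⟩⟩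
  refine BasedBasic.isEquivOver_of _ fun η => ?_
  let x₁ := η.obj.fst.obj.fst
  let a : i.obj x₁ ≅ η.obj.snd := (fpFst g g).toFunctor.mapIso η.obj.iso
  let b : i.obj η.obj.fst.obj.snd ≅ η.obj.snd := (fpSnd g g).toFunctor.mapIso η.obj.iso
  let θ : x₁ ≅ η.obj.fst.obj.snd := i.toFunctor.preimageIso (a ≪≫ b.symm)
  have hθ : i.map θ.hom = a.hom ≫ b.inv := i.toFunctor.map_preimage _
  have w : g.map a.hom ≫ 𝟙 _ = η.obj.fst.obj.iso.hom ≫ g.map b.hom := η.obj.iso.hom.hom.w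
  have hξ : g.map (i.map θ.hom) = η.obj.fst.obj.iso.hom := by
    rw [hθ, CategoryTheory.Functor.map_comp, ← Category.comp_id (g.map a.hom)]
    rw [w, Category.assoc, ← CategoryTheory.Functor.map_comp, Iso.hom_inv_id]
    simp
    exact Category.comp_id η.obj.fst.obj.iso.hom
  refine ⟨x₁, FibProd.exists_iso_over
    { hom := FibProd.homMk (𝟙 x₁) θ.hom ?_
      inv := FibProd.homMk (𝟙 x₁) θ.inv ?_
      hom_inv_id := FibProd.hom_ext (Category.id_comp _) θ.hom_inv_id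
      inv_hom_id := FibProd.hom_ext (Category.id_comp _) θ.inv_hom_id } a
    (FibProd.hom_ext ?_ ?_) (IsHomLift.of_fac' _ _ _ rfl rfl
      ((CategoryTheory.Functor.map_id (fullSub 𝒳 Q).p x₁).trans (by simp; rfl)))⟩
  · change g.map (i.map (𝟙 x₁)) ≫ η.obj.fst.obj.iso.hom = 𝟙 _ ≫ g.map (i.map θ.hom)
    rw [hξ]; simp
  · change g.map (i.map (𝟙 x₁)) ≫ 𝟙 _ = η.obj.fst.obj.iso.hom ≫ g.map (i.map θ.inv)
    rw [← hξ]; simp [← CategoryTheory.Functor.map_comp]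
  · change i.map (𝟙 x₁) ≫ a.hom = 𝟙 _ ≫ a.hom
    simp
  · change i.map θ.hom ≫ b.hom = 𝟙 _ ≫ a.hom
    rw [hθ]; simp

theorem diag_fullSub (Q : 𝒳.obj → Prop) (h : RepByAlgSp1 (FibCat.diag (toSelf 𝒳))) :
    RepByAlgSp1 (FibCat.diag (toSelf (fullSub 𝒳 Q))) :=
  Rep.repByAlgSpWith_top_iff.1 (Groth.Agent.H14.Sep.Rep.of_toBase (isEquivOver_diagCmp Q)
    (Iso.refl _) (Rep.repByAlgSpWith_top_iff.2 h))

/-! ### The inclusion -/

variable (hcl : ObjectProperty.IsClosedUnderIsomorphisms Q) (hloc : HasOpenLoci Q)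

include hcl in
theorem exists_fp_equiv {T : Over S} (x : overCat T ⥤ᵇ 𝒳) {O : T.left.Opens}
    (hO : ∀ g : Over T, Q (x.obj g) ↔ Set.range g.hom.left ⊆ (O : Set T.left)) :
    ∃ (T' : Over S) (j : T' ⟶ T) (_ : IsOpenImmersion j.left)
      (E : overCat T' ⥤ᵇ fp x (subIncl 𝒳 Q)),
      IsEquivOver E ∧ BasedFunctor.comp E (fpFst x (subIncl 𝒳 Q)) = overMap j := by
  let T' : Over S := Over.mk (O.ι ≫ T.hom)
  let j : T' ⟶ T := Over.homMk O.ι rfl
  have hj : IsOpenImmersion j.left := inferInstanceAs (IsOpenImmersion O.ι)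
  have hr : Set.range j.left = O := O.range_ι
  let c := BasedFunctor.comp (overMap j) x
  have hc : ∀ g : Over T', Q (c.obj g) := fun g => by
    refine (hO _).2 ?_
    rintro _ ⟨t, rfl⟩
    rw [← hr]
    exact ⟨g.hom.left t, rfl⟩
  let z : overCat T' ⥤ᵇ fullSub 𝒳 Q :=
    { toFunctor := ObjectProperty.lift _ c.toFunctor hc
      w := c.w }
  let β : BasedFunctor.comp (overMap j) x ≅ BasedFunctor.comp z (subIncl 𝒳 Q) := Iso.refl _
  let E := fpLift (overMap j) z β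
  refine ⟨T', j, hj, E, ?_, rfl⟩
  have hF : E.toFunctor.Faithful := ⟨fun {a b f g} hfg => by
    have := congrArg (fun k => k.hom.fst.left) hfg
    exact Over.OverMorphism.ext this⟩
  have hFull : E.toFunctor.Full := ⟨fun {a b} f => by
    let k : a.left ⟶ b.left := f.hom.fst.left
    have hk : k ≫ (b.hom ≫ j) = a.hom ≫ j := Over.w f.hom.fst
    have hk' : k ≫ b.hom = a.hom := by
      ext1
      rw [← cancel_mono j.left]
      simpa using congrArg CommaMorphism.left hk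
    refine ⟨Over.homMk k hk', ?_⟩
    have e1 : (overMap j).map (Over.homMk k hk') = f.hom.fst := Over.OverMorphism.ext rfl
    refine Lib.Fibred.Fp.hom_ext e1 ?_
    apply (ObjectProperty.ι Q).map_injective
    have w := Lib.Fibred.Fp.w f
    have w1 : x.map f.hom.fst ≫ 𝟙 _ = 𝟙 _ ≫ (ObjectProperty.ι Q).map f.hom.snd := w
    rw [Category.comp_id, Category.id_comp] at w1
    rw [← w1, ← e1]
    rfl⟩
  refine BasedBasic.isEquivOver_of E fun η => ?_
  have hrange : Set.range η.obj.fst.hom.left ⊆ Set.range j.left := by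
    rw [hr]
    exact (hO η.obj.fst).1 (hcl.of_iso η.obj.iso.symm η.obj.snd.property)
  let l := IsOpenImmersion.lift j.left η.obj.fst.hom.left hrange
  have hl : l ≫ j.left = η.obj.fst.hom.left := IsOpenImmersion.lift_fac _ _ _
  let l' : η.obj.fst.left ⟶ T' := Over.homMk l (by
    change l ≫ j.left ≫ T.hom = _
    rw [← Category.assoc, hl]; exact Over.w η.obj.fst.hom)
  let ξ : Over T' := Over.mk l'
  let a : (overMap j).obj ξ ≅ η.obj.fst :=
    Over.isoMk (Iso.refl _) (by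
      change 𝟙 _ ≫ η.obj.fst.hom = l' ≫ j
      rw [Category.id_comp]; ext1; exact hl.symm)
  let b : z.obj ξ ≅ η.obj.snd :=
    ObjectProperty.isoMk _ (x.toFunctor.mapIso a ≪≫ η.obj.iso)
  refine ⟨ξ, Lib.Fibred.Fp.isoMk a b (by
    change x.map a.hom ≫ η.obj.iso.hom = 𝟙 _ ≫ (x.map a.hom ≫ η.obj.iso.hom)
    rw [Category.id_comp]), ?_⟩
  refine (Lib.Fibred.Fp.isHomLift_iff _ _).2 ?_
  change (overCat T).p.IsHomLift (𝟙 η.obj.fst.left) a.hom
  exact IsHomLift.map (overCat T).p a.hom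

include hcl hloc in
theorem isOpenImm_subIncl : IsOpenImm (subIncl 𝒳 Q) := by
  intro T x
  obtain ⟨O, hO⟩ := hloc T x
  obtain ⟨T', j, hj, E, hE, hEj⟩ := exists_fp_equiv hcl x hO
  refine ⟨(AlgSp.ofScheme S).obj T', BasedFunctor.comp (toOverCat T') E,
    BasedBasic.IsEquivOver.comp (Rep.isEquivOver_toOverCat T') hE, ?_⟩
  have : spMapOfOver (BasedFunctor.comp (BasedFunctor.comp (toOverCat T') E)
      (fpFst x (subIncl 𝒳 Q))) = (yon S).map j := by
    rw [← Groth.Agent.H14.Chart.Points.spMap_toOverCat_overMap j, ← hEj]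
    rfl
  rw [this]
  exact (AlgSp.repWith_yon_map_iff _ _).2 hj

/-! ### The stack -/

include hcl hloc in
theorem mem_of_hom (h : IsFibGrpd 𝒳.p) {y x : 𝒳.obj} (φ : y ⟶ x) (hx : Q x) : Q y := by
  let X := Yoneda.fromObj h (rfl : 𝒳.p.obj x = 𝒳.p.obj x)
  obtain ⟨e, he⟩ := Yoneda.exists_fromObj_iso h (rfl : 𝒳.p.obj x = 𝒳.p.obj x)
  obtain ⟨O, hO⟩ := hloc _ X
  have hO' : ∀ t : (𝒳.p.obj x).left, t ∈ O := fun t =>
    (hO (Over.mk (𝟙 (𝒳.p.obj x)))).1 (hcl.of_iso e.symm hx) ⟨t, rfl⟩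
  let g : Over (𝒳.p.obj x) := Over.mk (𝒳.p.map φ)
  have := he
  have h1 : 𝒳.p.IsHomLift (𝒳.p.map φ) (X.map (Yoneda.toId g)) := Yoneda.map_toId_isHomLift X g
  have h2 : 𝒳.p.IsHomLift (𝒳.p.map φ) (X.map (Yoneda.toId g) ≫ e.hom) := inferInstance
  have h3 : 𝒳.p.IsHomLift (𝒳.p.map φ) φ := IsHomLift.map 𝒳.p φ
  have := Yoneda.stronglyCartesian h (𝒳.p.map φ) φ
  let θ := Functor.IsStronglyCartesian.map 𝒳.p (𝒳.p.map φ) φ (g := 𝟙 (𝒳.p.obj y))
    (Category.id_comp (𝒳.p.map φ)).symm (X.map (Yoneda.toId g) ≫ e.hom)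
  have hθ : 𝒳.p.IsHomLift (𝟙 (𝒳.p.obj y)) θ := Functor.IsStronglyCartesian.map_isHomLift _ _ _ _ _
  have := BasedBasic.isIso_of_isHomLift_id h (R := 𝒳.p.obj y) θ
  refine hcl.of_iso (asIso θ) ((hO g).2 ?_)
  rintro _ ⟨t, rfl⟩
  exact hO' _

include hcl hloc in
theorem isStack (h𝒳 : Stk.IsStack (QuotSh.J Scheme.fppfPrecoverage S) 𝒳) :
    Stk.IsStack (QuotSh.J Scheme.fppfPrecoverage S) (fullSub 𝒳 Q) := by
  have h := h𝒳.1
  refine Lib.Fibred.StackLocal.isStack_sub Q (QuotSh.J Scheme.fppfPrecoverage S) h𝒳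
    (fun y x φ hx => ⟨y, Iso.refl y, mem_of_hom hcl hloc h φ hx, IsHomLift.id rfl⟩) ?_
  intro U R hR x hx hl
  refine ⟨x, Iso.refl x, ?_, IsHomLift.id hx⟩
  subst hx
  change R ∈ AlgSp.J S _ at hR
  rw [AlgSp.J_eq, GrothendieckTopology.mem_over_iff] at hR
  haveI : MorphismProperty.IsMultiplicative @LocallyOfFinitePresentation.{u} :=
    { id_mem := fun X ↦ (inferInstance : LocallyOfFinitePresentation (𝟙 X)) }
  obtain ⟨𝒰, hle⟩ := Scheme.exists_cover_of_mem_grothendieckTopology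
    (P := @Flat ⊓ @LocallyOfFinitePresentation) hR
  let X := Yoneda.fromObj h (rfl : 𝒳.p.obj x = 𝒳.p.obj x)
  obtain ⟨e, he⟩ := Yoneda.exists_fromObj_iso h (rfl : 𝒳.p.obj x = 𝒳.p.obj x)
  have := he
  obtain ⟨O, hO⟩ := hloc _ X
  refine hcl.of_iso e ((hO _).2 ?_)
  rintro _ ⟨t, rfl⟩
  obtain ⟨i, z, hz⟩ := 𝒰.exists_eq t
  let V : Over S := Over.mk (𝒰.f i ≫ (𝒳.p.obj x).hom)
  let f : V ⟶ 𝒳.p.obj x := Over.homMk (𝒰.f i) rfl
  have hf : R f := (Sieve.overEquiv_iff _ _).1 (hle _ _ (Presieve.ofArrows.mk i))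
  have h1 : 𝒳.p.IsHomLift f (X.map (Yoneda.toId (Over.mk f))) :=
    Yoneda.map_toId_isHomLift X (Over.mk f)
  have h2 : 𝒳.p.IsHomLift f (X.map (Yoneda.toId (Over.mk f)) ≫ e.hom) := inferInstance
  obtain ⟨y', e', hy', -⟩ := hl f hf _ (X.map (Yoneda.toId (Over.mk f)) ≫ e.hom) h2
  exact (hO (Over.mk f)).1 (hcl.of_iso e'.symm hy') ⟨z, hz⟩

include hcl hloc in
theorem hasAtlas (ha : AlgSt.HasAtlas (LocP @Smooth) 𝒳) :
    AlgSt.HasAtlas (LocP @Smooth) (fullSub 𝒳 Q) := by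
  obtain ⟨U, a, ha, has⟩ := ha
  obtain ⟨O, hO⟩ := hloc U a
  obtain ⟨T', j, -, E, hE, -⟩ := exists_fp_equiv hcl a hO
  exact ⟨T', BasedFunctor.comp E (fpSnd a (subIncl 𝒳 Q)),
    (Rep.repByAlgSpWith_iff_of_isEquivOver (f := fpSnd a (subIncl 𝒳 Q))
      (f' := BasedFunctor.comp E (fpSnd a (subIncl 𝒳 Q))) hE BasedBasic.isEquivOver_id (Iso.refl _)).1
      (Groth.Agent.H14.Sep.Rep.fpSnd_of _ ha),
    (Rep.repByAlgSpWith_iff_of_isEquivOver (f := fpSnd a (subIncl 𝒳 Q))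
      (f' := BasedFunctor.comp E (fpSnd a (subIncl 𝒳 Q))) hE BasedBasic.isEquivOver_id (Iso.refl _)).1
      (Groth.Agent.H14.Sep.Rep.fpSnd_of _ has)⟩

include hcl hloc in
/-- A condition closed under isomorphism with open loci defines an open substack. -/
theorem isOpenSubstack (h𝒳 : IsAlgStack Scheme.fppfPrecoverage 𝒳) :
    IsOpenSubstack 𝒳 Q Scheme.fppfPrecoverage :=
  ⟨hcl, ⟨isStack hcl hloc h𝒳.isStack, diag_fullSub Q h𝒳.diag, hasAtlas hcl hloc h𝒳.atlas⟩,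
    isOpenImm_subIncl hcl hloc⟩

end Groth.Agent.Lib.AlgStack.OpenLocus
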