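import Groth.Prelude.Def_W4stkstmodspWNA
import Groth.Agent.H14.Sep.Cover
import Groth.Agent.H14.Chart.QC
import Groth.Agent.H14.Chart.LocQ
import Groth.Agent.Lib.AlgSpMor.AffineDescent
import Groth.Agent.Lib.AlgSpMor.DiagCharts
import Groth.Agent.Lib.AlgSpFpqc.Rep

/-!
# Well-nigh affine algebraic stacks
-/

set_option autoImplicit false
set_option backward.isDefEq.respectTransparency false
set_option backward.isDefEq.respectTransparency.types false

universe u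

open CategoryTheory CategoryTheory.Limits AlgebraicGeometry

namespace Groth.Agent.Lib.AlgStack.WellNigh

open Groth.Agent.H14.Sep
open Cover SpProps DiagCat Main
open FibCat (IsEquivOver fp fpFst fpSnd fpLift fpIso diag overCat IsFibGrpd toSelf)
open AlgSt (ofSp ofSpMap ofOverCat toOverCat spMapOfOver RepByAlgSp1 RepByAlgSpWith IsAlgStack)
open AlgSp (Sp yon IsAlgSpace LocP RepWith)
open Lib.AlgStack.Diag (pair isoToProd overMap' prodToFp)
open Groth.Agent.Lib.AlgSpace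

variable {S : Scheme.{u}} {𝒳 : AlgSt.Cat S}

/-- A finite morphism of algebraic spaces is proper. -/
theorem isProperMor_of_repWith_isFinite {X Y : Sp S} (hY : IsAlgSpace Y) {f : X ⟶ Y}
    (h : RepWith @IsFinite f) : AlgSp.IsProperMor f :=
  ⟨Lib.AlgSpFpqc.Rep.isSeparatedMor_of_repWith hY
      (repWith_mono h fun _ _ g hg => have := hg; (inferInstance : IsSeparated g)),
    ⟨Lib.AlgSpMor.LocP.locP_of_repWith SpProps.lft
        (repWith_mono h fun _ _ g hg => have := hg; (inferInstance : LocallyOfFiniteType g)),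
      Lib.AlgSpMor.QC.isQuasiCompactMor_of_repWith
        (repWith_mono h fun _ _ g hg => have := hg; (inferInstance : QuasiCompact g))⟩,
    Lib.AlgSpMor.Proper.isUnivClosedMor_of_repWith
      (repWith_mono h fun _ _ g hg => have := hg; (inferInstance : UniversallyClosed g))⟩

/-- The square of a finite chart from an affine scheme has finite diagonal. -/
theorem proper_fpFst_sqAtlas {W : Over S} (hW : IsAffine W.left) (a : overCat W ⥤ᵇ 𝒳)
    (ha : RepByAlgSpWith AlgSp.IsFiniteMor a) :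
    RepByAlgSpWith AlgSp.IsProperMor (fpFst (Lft.sqAtlas a) (diag (toSelf 𝒳))) := by
  obtain ⟨R, e, he, hsm⟩ := ha W a
  let D := Lib.AlgStack.Diag.toDiagPullback a a
  let Φ := BasedFunctor.comp e (BasedFunctor.comp D (fpFst (Lft.sqAtlas a) (diag (toSelf 𝒳))))
  obtain ⟨i, hi, ⟨η⟩, ⟨ε⟩⟩ :=
    BasedBasic.IsEquivOver.exists_inverse (Lib.AlgStack.Diag.isEquivOver_prodToFp W W)
  let γ : R.obj ⟶ (yon S).obj (W ⨯ W) := spMapOfOver (BasedFunctor.comp Φ i)
  have h1 : γ ≫ (yon S).map prod.fst = spMapOfOver (BasedFunctor.comp e (fpFst a a)) := by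
    rw [← Lft.spMapOfOver_overMap']
    exact Rep.spMapOfOver_eq_of_iso (BasedBasic.isoWhiskerLeft Φ
      (BasedBasic.isoWhiskerRight ε (fpFst (toSelf (overCat W)) (toSelf (overCat W)))))
  rw [← h1] at hsm
  obtain ⟨W₁, j, fst, sq, -, hj⟩ := hsm hW (𝟙 _)
  have : IsIso fst := sq.isIso_fst_of_isIso
  obtain ⟨m, hm⟩ := (yon S).map_surjective (fst ≫ γ)
  have hmj : m ≫ prod.fst = j := by
    apply (yon S).map_injective
    rw [Functor.map_comp, hm, Category.assoc, sq.w, Category.comp_id]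
  have : IsSeparated (prod.fst : W ⨯ W ⟶ W).left :=
    MorphismProperty.of_isPullback (P := @IsSeparated)
      (Lib.AlgSpMor.DiagCharts.isPullback_prod_left W W).flip inferInstance
  have : IsFinite (m.left ≫ (prod.fst : W ⨯ W ⟶ W).left) := by
    rw [← Over.comp_left, hmj]; exact hj
  have hmf : IsFinite m.left := IsFinite.of_comp _ (prod.fst : W ⨯ W ⟶ W).left
  have hγ : RepWith @IsFinite γ := by
    have := (AlgSp.repWith_yon_map_iff @IsFinite m).2 hmf
    rw [hm] at this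
    exact (repWith_iso_comp_iff _ fst γ).1 this
  have h2 : RepByAlgSpWith AlgSp.IsProperMor (ofSpMap γ) :=
    Rep.ofSpMap_of R.property (IsAlgSpace.yon_obj _) γ fun U ξ P' p q sq' =>
      isProperMor_of_repWith_isFinite (IsAlgSpace.yon_obj _) (repWith_baseChange sq' hγ)
  have hb : IsEquivOver (BasedFunctor.comp (toOverCat (W ⨯ W)) (prodToFp W W)) :=
    BasedBasic.IsEquivOver.comp (Rep.isEquivOver_toOverCat _)
      (Lib.AlgStack.Diag.isEquivOver_prodToFp W W)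
  exact (Rep.repByAlgSpWith_iff_of_isEquivOver (f := fpFst (Lft.sqAtlas a) (diag (toSelf 𝒳)))
    (f' := ofSpMap γ)
    (BasedBasic.IsEquivOver.comp he (Lib.AlgStack.Diag.isEquivOver_toDiagPullback a a)) hb
    ((BasedBasic.isoWhiskerRight (Rep.isoSpMapOfOver (BasedFunctor.comp Φ i)) (prodToFp W W)).symm ≪≫
      BasedBasic.isoWhiskerLeft Φ ε)).2 h2

/-- A stack with a finite locally free chart from an affine scheme is separated. -/
theorem proper_diag_of_chart {J₀ : Precoverage Scheme.{u}} (h𝒳 : IsAlgStack J₀ 𝒳)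
    {W : Over S} (hW : IsAffine W.left) (a : overCat W ⥤ᵇ 𝒳)
    (ha : RepByAlgSpWith AlgSp.IsFiniteMor a)
    (ha₁ : RepByAlgSpWith (LocP @Flat) a)
    (ha₂ : RepByAlgSpWith (LocP @LocallyOfFinitePresentation) a)
    (ha₃ : RepByAlgSpWith AlgSp.IsSurjectiveMor a) :
    RepByAlgSpWith AlgSp.IsProperMor (diag (toSelf 𝒳)) := by
  refine rep_descend stableBC_proper fromSchemes_proper descends_proper h𝒳.diag fun T z => ?_
  obtain ⟨T₁, s₁, hs₁, u₁, ⟨α₁⟩⟩ :=
    exists_lift ha₁ ha₂ ha₃ (BasedFunctor.comp z (fpFst (toSelf 𝒳) (toSelf 𝒳)))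
  obtain ⟨T₂, s₂, hs₂, u₂, ⟨α₂⟩⟩ := exists_lift ha₁ ha₂ ha₃
    (BasedFunctor.comp (Lft.vOf s₁) (BasedFunctor.comp z (fpSnd (toSelf 𝒳) (toSelf 𝒳))))
  let s := s₂ ≫ s₁
  have hs : Fppf s := by
    have := hs₁.1; have := hs₁.2.1; have := hs₁.2.2
    have := hs₂.1; have := hs₂.2.1; have := hs₂.2.2
    refine ⟨?_, ?_, ?_⟩ <;> (rw [Over.comp_left]; infer_instance)
  refine ⟨T₂, s, hs, ?_⟩
  let w : overCat T₂ ⥤ᵇ fp (toSelf (overCat W)) (toSelf (overCat W)) :=
    pair (BasedFunctor.comp (Lft.vOf s₂) u₁) u₂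
  let α : BasedFunctor.comp w (Lft.sqAtlas a) ≅ BasedFunctor.comp (Lft.vOf s) z :=
    isoToProd
      ((BasedBasic.isoWhiskerLeft (Lft.vOf s₂) α₁).symm ≪≫ BasedBasic.isoWhiskerRight
        (eqToIso (Lft.vOf_comp s₂ s₁)) (BasedFunctor.comp z (fpFst (toSelf 𝒳) (toSelf 𝒳))))
      (α₂.symm ≪≫ BasedBasic.isoWhiskerRight (eqToIso (Lft.vOf_comp s₂ s₁))
        (BasedFunctor.comp z (fpSnd (toSelf 𝒳) (toSelf 𝒳))))
  have hA := Rep.repByAlgSpWith_fpFst w (proper_fpFst_sqAtlas hW a ha)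
  have hB : RepByAlgSpWith AlgSp.IsProperMor
      (fpFst (BasedFunctor.comp w (Lft.sqAtlas a)) (diag (toSelf 𝒳))) :=
    (Rep.repByAlgSpWith_iff_of_isEquivOver
      (f := fpFst (BasedFunctor.comp w (Lft.sqAtlas a)) (diag (toSelf 𝒳)))
      (f' := fpFst w (fpFst (Lft.sqAtlas a) (diag (toSelf 𝒳))))
      (Rep.isEquivOver_pasteBase w (Lft.sqAtlas a) (diag (toSelf 𝒳))) BasedBasic.isEquivOver_id
      (eqToIso (Rep.pasteBase_fst w (Lft.sqAtlas a) (diag (toSelf 𝒳))).symm)).2 hA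
  exact (Rep.repByAlgSpWith_iff_of_isEquivOver
      (f := fpFst (BasedFunctor.comp (Lft.vOf s) z) (diag (toSelf 𝒳)))
      (f' := fpFst (BasedFunctor.comp w (Lft.sqAtlas a)) (diag (toSelf 𝒳)))
      (FibProd.isEquivOver_congrLeft α (diag (toSelf 𝒳))) BasedBasic.isEquivOver_id
      (eqToIso (FibProd.congrLeft_fst α (diag (toSelf 𝒳))).symm)).2 hB

theorem lqfLft_of_isFinite ⦃A B : Scheme.{u}⦄ (g : A ⟶ B) (hg : IsFinite g) :
    ((@LocallyQuasiFinite : MorphismProperty Scheme.{u}) ⊓ @LocallyOfFiniteType) g :=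
  ⟨inferInstance, inferInstance⟩

theorem result (h𝒳 : IsAlgStack Scheme.fppfPrecoverage 𝒳) (hw : AlgSt.IsWellNighAffine 𝒳) :
    AlgSt.IsQuasiCompact 𝒳 ∧ AlgSt.IsQuasiDMOver 𝒳 ∧ AlgSt.IsSeparatedOver 𝒳 := by
  obtain ⟨U, x, hU, hx⟩ := hw
  have h4 := Rep.repByAlgSpWith_mono hx fun _ _ _ _ _ h => h.1.1.1
  have h3 := Rep.repByAlgSpWith_mono hx fun _ _ _ _ _ h => h.1.1.2
  have h2 := Rep.repByAlgSpWith_mono hx fun _ _ _ _ _ h => h.1.2
  have h1 := Rep.repByAlgSpWith_mono hx fun _ _ _ _ _ h => h.2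
  refine ⟨(H14.Chart.QC.isQuasiCompact_iff h𝒳).2
    (H14.Chart.QC.compactSpace_points_of_chart h𝒳 x h4), ?_, proper_diag_of_chart h𝒳 hU x h2 h3 h1 h4⟩
  exact locP_diag_of_chart Lib.AlgSpMor.LocP.lqfLft lqf_cancel descends_lqf h𝒳 x
    (Rep.repByAlgSpWith_mono h2 fun _ _ _ _ _ h => Lib.AlgSpMor.LocP.locP_of_repWith
      Lib.AlgSpMor.LocP.lqfLft (repWith_mono (Lib.AlgSpMor.AffineDescent.isFiniteMor_iff.1 h)
        lqfLft_of_isFinite)) h3 h1 h4

end Groth.Agent.Lib.AlgStack.WellNigh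

namespace Groth.Agent.Lib.AlgStack.WellNigh

open Groth.Agent.H14.Sep
open Cover SpProps DiagCat Main
open FibCat (IsEquivOver fp fpFst fpSnd fpLift fpIso diag overCat IsFibGrpd toSelf)
open AlgSt (ofSp ofSpMap ofOverCat toOverCat spMapOfOver RepByAlgSp1 RepByAlgSpWith IsAlgStack)
open AlgSp (Sp yon IsAlgSpace LocP RepWith)

variable {S : Scheme.{u}} {𝒳 𝒳' : AlgSt.Cat S}

/-- An algebraic stack affine over a well-nigh affine one is well-nigh affine. -/
theorem of_affine (hw : AlgSt.IsWellNighAffine 𝒳) (f : 𝒳' ⥤ᵇ 𝒳)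
    (hf : RepByAlgSpWith AlgSp.IsAffineMor f) : AlgSt.IsWellNighAffine 𝒳' := by
  obtain ⟨U, x, hU, hx⟩ := hw
  obtain ⟨G, e, he, hγ⟩ := hf U x
  obtain ⟨W, j, fst, sq, hW⟩ := hγ hU (𝟙 _)
  have : IsIso fst := sq.isIso_fst_of_isIso
  exact ⟨W, BasedFunctor.comp (BasedFunctor.comp (ofOverCat W)
      (BasedFunctor.comp (ofSpMap fst) e)) (fpSnd x f), hW,
    H14.Chart.LocQ.rep_precomp_equiv (BasedBasic.IsEquivOver.comp (Rep.isEquivOver_ofOverCat W)
      (BasedBasic.IsEquivOver.comp (Space.isEquivOver_ofSpMap fst) he)) (Rep.fpSnd_of f hx)⟩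

end Groth.Agent.Lib.AlgStack.WellNigh
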