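import Groth.Agent.Lib.AlgStack.AutSpace
import Groth.Agent.Lib.GrpQ.AffKer2
import Groth.Agent.H14.Sep.Lft
import Mathlib.AlgebraicGeometry.Morphisms.QuasiSeparated
import Mathlib.AlgebraicGeometry.QuasiAffine

/-!
# Stabilizers of field points of stacks with quasi-affine diagonal
-/

set_option autoImplicit false
set_option backward.isDefEq.respectTransparency false
set_option backward.isDefEq.respectTransparency.types false

universe u

open CategoryTheory CategoryTheory.Limits AlgebraicGeometry MonoidalCategory CartesianMonoidalCategory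
open scoped MonObj

namespace Groth.Agent.Lib.AlgStack.AutAffine

open Groth.Agent.Lib.AlgSpace
open FibCat (toSelf diag overCat)
open AlgSt (RepByAlgSpWith IsAlgStack)
open AlgSp (Sp yon)

/-- A quasi-affine group scheme locally of finite type over a field is affine. -/
theorem isAffine_of_isQuasiAffine {k : Type u} [Field k] (G : Over (Spec (CommRingCat.of k))) [GrpObj G]
    [LocallyOfFiniteType G.hom] [G.left.IsQuasiAffine] : IsAffine G.left := by
  refine GrpQ.AffKer.isAffine_of_killed_eq_one fun T g hg => ?_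
  have : Mono (GrpQ.Affinization.rho G).left := inferInstanceAs (Mono G.left.toSpecΓ)
  have : Mono (GrpQ.Affinization.rho G) :=
    (Over.forget _).mono_of_mono_map ‹Mono (GrpQ.Affinization.rho G).left›
  rw [Hom.one_def, ← cancel_mono (GrpQ.Affinization.rho G), Category.assoc]
  exact hg

theorem isAffine_and_lft {S : Scheme.{u}} {𝒳 : AlgSt.Cat S} (h𝒳 : IsAlgStack Scheme.fppfPrecoverage 𝒳)
    (hΔ : RepByAlgSpWith AlgSp.IsQuasiAffineMor (diag (toSelf 𝒳))) {U : Over S} {k : Type u} [Field k]
    (hU : U.left = Spec (CommRingCat.of k))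
    (x : overCat U ⥤ᵇ 𝒳) (G : Over U.left) [GrpObj G] (hG : Gerb.AutRep x (Gerb.ptsGrp U G)) :
    G.left.IsQuasiAffine ∧ LocallyOfFiniteType G.hom := by
  have : IsAffine U.left := hU ▸ inferInstance
  constructor
  · obtain ⟨A, E, hE, hγ⟩ := H14.Sep.Inertia.inertiaToBase_of_diag hΔ U x
    obtain ⟨i, hi⟩ := AutSpace.exists_iso E hG h𝒳.isStack.1 hE
    obtain ⟨W, j, fst, sq, hW⟩ := hγ (Z := U) ‹IsAffine U.left› (𝟙 _)
    have : IsIso fst := sq.isIso_fst_of_isIso
    let e : W ≅ AutSpace.tot U G := (yon S).preimageIso (asIso fst ≪≫ i)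
    have : ((Over.forget S).obj W).IsQuasiAffine := hW
    have : CompactSpace ↥((Over.forget S).obj W) := inferInstance
    have : CompactSpace ↥G.left :=
      (Scheme.homeoOfIso ((Over.forget S).mapIso e)).compactSpace
    exact Scheme.IsQuasiAffine.of_isImmersion ((Over.forget S).mapIso e).inv
  · obtain ⟨A, E, hE, hγ⟩ := H14.Sep.Inertia.inertiaToBase_of_diag (H14.Sep.Lft.diag_toSelf_lft h𝒳) U x
    obtain ⟨i, hi⟩ := AutSpace.exists_iso E hG h𝒳.isStack.1 hE
    exact hγ i.inv (𝟙 _) (AutSpace.totπ U G) (repWith_of_isIso _ _) (repWith_of_isIso _ _) (by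
      rw [Category.comp_id, Iso.inv_comp_eq]; exact hi.symm)

end Groth.Agent.Lib.AlgStack.AutAffine
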