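import Groth.Prelude.Def_StGerb2
import Groth.Agent.H14.Sep.Inertia
import Groth.Agent.Lib.Fibred.Descent

/-!
# The automorphism space of a point and group schemes representing the automorphism presheaf
-/

set_option autoImplicit false
set_option backward.isDefEq.respectTransparency false
set_option backward.isDefEq.respectTransparency.types false

universe u

open CategoryTheory CategoryTheory.Limits AlgebraicGeometry Opposite

namespace Groth.Agent.Lib.AlgStack.AutSpace

open Groth.Agent.Lib.AlgSpace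
open FibCat (IsEquivOver IsFibGrpd fp fpFst fpSnd overCat toSelf diag inertia inertiaToBase)
open AlgSt (ofSp ofSpMap toOverCat spMapOfOver RepByAlgSpWith)
open AlgSp (Sp yon IsAlgSpace)
open BasedBasic

variable {S : Scheme.{u}} {𝒳 : AlgSt.Cat S} {U : Over S} {x : overCat U ⥤ᵇ 𝒳}

/-- Morphisms with the same image and the same composite with a morphism agree. -/
theorem hom_ext_cart (h : IsFibGrpd 𝒳.p) {a b c : 𝒳.obj} (θ₁ θ₂ : a ⟶ b) (φ : b ⟶ c)
    (hm : 𝒳.p.map θ₁ = 𝒳.p.map θ₂) (hc : θ₁ ≫ φ = θ₂ ≫ φ) : θ₁ = θ₂ := by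
  have := h.isStronglyCartesian φ
  have h1 : 𝒳.p.IsHomLift (𝒳.p.map θ₁) θ₁ := IsHomLift.map _ _
  have h2 : 𝒳.p.IsHomLift (𝒳.p.map θ₁) θ₂ := hm ▸ IsHomLift.map _ _
  exact Functor.IsStronglyCartesian.ext 𝒳.p (𝒳.p.map φ) φ (𝒳.p.map θ₁) hc

theorem map_autO {y : 𝒳.obj} (α : Gerb.AutO y) : 𝒳.p.map α.hom.1 = 𝟙 _ := by
  have h2 := α.hom.2
  simpa using @IsHomLift.fac' _ _ _ _ 𝒳.p _ _ _ _ (𝟙 (𝒳.p.obj y)) α.hom.1 h2

/-- The automorphism of the first component of an object of the base change of the inertia. -/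
def theta (o : (fp x (inertiaToBase (toSelf 𝒳))).obj) : x.obj o.obj.fst ⟶ x.obj o.obj.fst :=
  o.obj.iso.hom ≫ o.obj.snd.aut.hom ≫ o.obj.iso.inv

theorem theta_natural {o o' : (fp x (inertiaToBase (toSelf 𝒳))).obj} (m : o ⟶ o') :
    x.map m.hom.fst ≫ theta o' = theta o ≫ x.map m.hom.fst := by
  have w : x.map m.hom.fst ≫ o'.obj.iso.hom = o.obj.iso.hom ≫ m.hom.snd.hom := m.hom.w
  have c : o.obj.snd.aut.hom ≫ m.hom.snd.hom = m.hom.snd.hom ≫ o'.obj.snd.aut.hom := m.hom.snd.comm
  have w' : x.map m.hom.fst = o.obj.iso.hom ≫ m.hom.snd.hom ≫ o'.obj.iso.inv := by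
    rw [← reassoc_of% w, Iso.hom_inv_id, Category.comp_id]
  simp only [theta]
  rw [reassoc_of% w, ← reassoc_of% c, w']
  simp

theorem map_theta (o : (fp x (inertiaToBase (toSelf 𝒳))).obj) :
    𝒳.p.map (theta o) = 𝟙 _ := by
  have h : 𝒳.p.map o.obj.snd.aut.hom = 𝟙 _ := o.obj.snd.map_aut
  simp only [theta, Functor.map_comp]
  erw [h, Category.id_comp]
  rw [← Functor.map_comp, Iso.hom_inv_id, CategoryTheory.Functor.map_id]

theorem exists_obj (h : IsFibGrpd 𝒳.p) (u : Over U) (α : Gerb.AutO (x.obj u)) :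
    ∃ (o : (fp x (inertiaToBase (toSelf 𝒳))).obj), ∃ e : o.obj.fst = u, x.map (eqToHom e) ≫ α.hom.1 = theta o ≫ x.map (eqToHom e) := by
  have hα := α.hom.2
  have := isIso_of_isHomLift_id h (R := 𝒳.p.obj (x.obj u)) α.hom.1
  let z : (inertia (toSelf 𝒳)).obj := ⟨x.obj u, asIso α.hom.1, by
    change 𝒳.p.map α.hom.1 = _
    rw [IsHomLift.fac' 𝒳.p (𝟙 (𝒳.p.obj (x.obj u))) α.hom.1]
    simp; rfl⟩
  refine ⟨FibProd.objMk u z (Iso.refl _) (IsHomLift.id (x.w_obj u)), rfl, ?_⟩
  simp [theta, z]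

variable {A : AlgSp.Space S} (E : ofSp A.obj ⥤ᵇ fp x (inertiaToBase (toSelf 𝒳)))

/-- The map to the base of a representing space. -/
abbrev gam : A.obj ⟶ (yon S).obj U :=
  spMapOfOver (BasedFunctor.comp E (fpFst x (inertiaToBase (toSelf 𝒳))))

/-- The functor to the slice of the map to the base. -/
abbrev baseF : ofSp A.obj ⥤ᵇ overCat U := BasedFunctor.comp (ofSpMap (gam E)) (toOverCat U)

/-- The comparison of the two functors to the slice. -/
noncomputable def iota :
    BasedFunctor.comp E (fpFst x (inertiaToBase (toSelf 𝒳))) ≅ baseF E :=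
  Rep.isoSpMapOfOver _

/-- The automorphism attached to a section. -/
noncomputable def sTheta (ξ : (ofSp A.obj).obj) : x.obj ((baseF E).obj ξ) ⟶ x.obj ((baseF E).obj ξ) :=
  x.map (appIso (iota E) ξ).inv ≫ theta (E.obj ξ) ≫ x.map (appIso (iota E) ξ).hom

theorem sTheta_natural {ξ ξ' : (ofSp A.obj).obj} (m : ξ ⟶ ξ') :
    x.map ((baseF E).map m) ≫ sTheta E ξ' = sTheta E ξ ≫ x.map ((baseF E).map m) := by
  have n : (E.map m).hom.fst ≫ (appIso (iota E) ξ').hom =
      (appIso (iota E) ξ).hom ≫ (baseF E).map m := (iota E).hom.toNatTrans.naturality m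
  have n' : (baseF E).map m ≫ (appIso (iota E) ξ').inv =
      (appIso (iota E) ξ).inv ≫ (E.map m).hom.fst := by
    rw [Iso.eq_inv_comp, ← Category.assoc, ← n, Category.assoc, Iso.hom_inv_id, Category.comp_id]
  simp only [sTheta, Category.assoc]
  rw [← Functor.map_comp_assoc, n', Functor.map_comp_assoc, reassoc_of% theta_natural (E.map m),
    ← Functor.map_comp, n, Functor.map_comp]

theorem map_sTheta (ξ : (ofSp A.obj).obj) : 𝒳.p.map (sTheta E ξ) = 𝟙 _ := by
  simp only [sTheta, Functor.map_comp]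
  erw [map_theta, Category.id_comp]
  rw [← Functor.map_comp, ← Functor.map_comp, Iso.inv_hom_id, CategoryTheory.Functor.map_id,
    CategoryTheory.Functor.map_id]

/-- The automorphism attached to a section, as an element of the automorphism group. -/
noncomputable def autOf (h : IsFibGrpd 𝒳.p) (ξ : (ofSp A.obj).obj) :
    Gerb.AutO (x.obj ((baseF E).obj ξ)) :=
  have hl : 𝒳.p.IsHomLift (𝟙 (𝒳.p.obj (x.obj ((baseF E).obj ξ)))) (sTheta E ξ) :=
    map_sTheta E ξ ▸ IsHomLift.map 𝒳.p (sTheta E ξ)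
  haveI := isIso_of_isHomLift_id h (R := 𝒳.p.obj (x.obj ((baseF E).obj ξ))) (sTheta E ξ)
  { hom := ⟨sTheta E ξ, hl⟩
    inv := ⟨inv (sTheta E ξ),
      haveI : 𝒳.p.IsHomLift (𝟙 (𝒳.p.obj (x.obj ((baseF E).obj ξ)))) (asIso (sTheta E ξ)).hom := hl
      IsHomLift.lift_id_inv _ _ (asIso (sTheta E ξ))⟩
    hom_inv_id := Functor.Fiber.hom_ext (IsIso.hom_inv_id _)
    inv_hom_id := Functor.Fiber.hom_ext (IsIso.inv_hom_id _) }

theorem autOf_hom (h : IsFibGrpd 𝒳.p) (ξ : (ofSp A.obj).obj) :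
    (autOf E h ξ).hom.1 = sTheta E ξ := rfl

section Rep

variable {G : Over U.left} [GrpObj G] (r : Gerb.AutRep x (Gerb.ptsGrp U G)) (h : IsFibGrpd 𝒳.p)

/-- The total space of a group scheme over `U`. -/
abbrev tot (U : Over S) (G : Over U.left) : Over S := Over.mk (G.hom ≫ U.hom)

/-- Its projection. -/
abbrev totπ (U : Over S) (G : Over U.left) : tot U G ⟶ U := Over.homMk G.hom rfl

/-- The group element attached to a section. -/
noncomputable def elt (ξ : (ofSp A.obj).obj) :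
    (Gerb.ptsGrp U G).obj (op ((baseF E).obj ξ)) :=
  (r.iso _).symm (autOf E h ξ)

/-- The point of the total space attached to a section. -/
noncomputable def pt (ξ : (ofSp A.obj).obj) : ξ.base ⟶ tot U G :=
  Over.homMk (elt E r h ξ).left (by
    have hw := Over.w (elt E r h ξ)
    change (elt E r h ξ).left ≫ G.hom ≫ U.hom = ξ.base.hom
    rw [reassoc_of% hw]
    exact Over.w ((baseF E).obj ξ).hom)

theorem pt_π (ξ : (ofSp A.obj).obj) : pt E r h ξ ≫ totπ U G = ((baseF E).obj ξ).hom :=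
  Over.OverMorphism.ext (Over.w (elt E r h ξ))

theorem iso_elt (ξ : (ofSp A.obj).obj) : (r.iso _ (elt E r h ξ)).hom.1 = sTheta E ξ := by
  rw [elt, MulEquiv.apply_symm_apply]; rfl

include h in
/-- Elements inducing the automorphisms of two sections are compatible. -/
theorem eq_of_natural {u u' : Over U} (q : u' ⟶ u) (a : (Gerb.ptsGrp U G).obj (op u))
    (a' : (Gerb.ptsGrp U G).obj (op u'))
    (hcomp : (r.iso u' a').hom.1 ≫ x.map q = x.map q ≫ (r.iso u a).hom.1) :
    (Gerb.ptsGrp U G).map q.op a = a' := by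
  apply (r.iso u').injective
  apply Aut.ext
  apply Functor.Fiber.hom_ext
  refine hom_ext_cart h _ _ (x.map q) ?_ ((r.natural q a).trans hcomp.symm)
  exact (map_autO _).trans (map_autO _).symm

theorem pt_natural {ξ ξ' : (ofSp A.obj).obj} (m : ξ ⟶ ξ') :
    pt E r h ξ = m.hom ≫ pt E r h ξ' := by
  have := eq_of_natural r h ((baseF E).map m) (elt E r h ξ') (elt E r h ξ) (by
    rw [iso_elt, iso_elt, sTheta_natural])
  exact Over.OverMorphism.ext (congrArg (fun g => g.left) this).symm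

theorem toGrp_nat {T T' : Over S} (g : T' ⟶ T) (c : (yon S).obj T ⟶ A.obj) :
    (yon S).map (pt E r h ⟨T', secEquiv T' ((yon S).map g ≫ c)⟩) =
      (yon S).map g ≫ (yon S).map (pt E r h ⟨T, secEquiv T c⟩) := by
  rw [← Functor.map_comp]
  congr 1
  exact pt_natural E r h (ξ := ⟨T', secEquiv T' ((yon S).map g ≫ c)⟩) (ξ' := ⟨T, secEquiv T c⟩)
    ⟨g, (secEquiv_map g c).symm⟩

/-- The map from the automorphism space to the group scheme. -/
noncomputable def toGrp : A.obj ⟶ (yon S).obj (tot U G) :=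
  homMkYon (fun T c => (yon S).map (pt E r h ⟨T, secEquiv T c⟩)) (toGrp_nat E r h)

theorem comp_toGrp {T : Over S} (c : (yon S).obj T ⟶ A.obj) :
    c ≫ toGrp E r h = (yon S).map (pt E r h ⟨T, secEquiv T c⟩) :=
  comp_homMkYon (fun T c => (yon S).map (pt E r h ⟨T, secEquiv T c⟩)) (toGrp_nat E r h) c

theorem toGrp_π : toGrp E r h ≫ (yon S).map (totπ U G) = gam E := by
  refine Lib.AlgSpace.hom_ext fun T c => ?_
  rw [← Category.assoc, comp_toGrp, ← Functor.map_comp, pt_π]
  apply (secEquiv T).injective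
  rw [secEquiv_comp]
  rfl

theorem injective_toGrp (hE : IsEquivOver E) {T : Over S} (c c' : (yon S).obj T ⟶ A.obj)
    (hc : c ≫ toGrp E r h = c' ≫ toGrp E r h) : c = c' := by
  rw [comp_toGrp, comp_toGrp] at hc
  have hp := (yon S).map_injective hc
  let ξ : (ofSp A.obj).obj := ⟨T, secEquiv T c⟩
  let ξ' : (ofSp A.obj).obj := ⟨T, secEquiv T c'⟩
  have hb : ((baseF E).obj ξ).hom = ((baseF E).obj ξ').hom := by
    rw [← pt_π E r h ξ, ← pt_π E r h ξ', hp]
  let q : (baseF E).obj ξ ⟶ (baseF E).obj ξ' := Over.homMk (𝟙 T) ((Category.id_comp _).trans hb.symm)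
  have hg : (Gerb.ptsGrp U G).map q.op (elt E r h ξ') = elt E r h ξ :=
    Over.OverMorphism.ext ((Category.id_comp _).trans (congrArg (fun k => k.left) hp).symm)
  have hn := r.natural q (elt E r h ξ')
  rw [hg, iso_elt, iso_elt] at hn
  let fst : (E.obj ξ).obj.fst ⟶ (E.obj ξ').obj.fst :=
    (appIso (iota E) ξ).hom ≫ q ≫ (appIso (iota E) ξ').inv
  have ht : theta (E.obj ξ) ≫ x.map fst = x.map fst ≫ theta (E.obj ξ') := by
    have h1 : theta (E.obj ξ) ≫ x.map (appIso (iota E) ξ).hom =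
        x.map (appIso (iota E) ξ).hom ≫ sTheta E ξ := by
      rw [sTheta, ← Functor.map_comp_assoc, Iso.hom_inv_id, CategoryTheory.Functor.map_id,
        Category.id_comp]
    have h2 : sTheta E ξ' ≫ x.map (appIso (iota E) ξ').inv =
        x.map (appIso (iota E) ξ').inv ≫ theta (E.obj ξ') := by
      rw [sTheta, Category.assoc, Category.assoc, ← Functor.map_comp, Iso.hom_inv_id,
        CategoryTheory.Functor.map_id, Category.comp_id]
    simp only [fst, Functor.map_comp, Category.assoc]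
    rw [reassoc_of% h1, reassoc_of% hn, h2]
  have := BasedBasic.IsEquivOver.full hE
  let i := (E.obj ξ).obj.iso
  let i' := (E.obj ξ').obj.iso
  let sn : (E.obj ξ).obj.snd ⟶ (E.obj ξ').obj.snd := ⟨i.inv ≫ x.map fst ≫ i'.hom, by
    have := congrArg (fun t => i.inv ≫ t ≫ i'.hom) ht
    simpa [theta, i, i'] using this⟩
  let M : E.obj ξ ⟶ E.obj ξ' := FibProd.homMk fst sn (by
    change x.map fst ≫ i'.hom = i.hom ≫ i.inv ≫ x.map fst ≫ i'.hom
    rw [Iso.hom_inv_id_assoc])
  obtain ⟨n, hn'⟩ := E.toFunctor.map_surjective M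
  have hh : (baseF E).map n = q := by
    rw [← cancel_epi (appIso (iota E) ξ).hom]
    refine ((iota E).hom.toNatTrans.naturality n).symm.trans ?_
    change (E.map n).hom.fst ≫ (appIso (iota E) ξ').hom = _
    rw [hn']
    change ((appIso (iota E) ξ).hom ≫ q ≫ (appIso (iota E) ξ').inv) ≫ _ = _
    simp only [Category.assoc, Iso.inv_hom_id, Category.comp_id]
  have h3 : n.hom = 𝟙 T := congrArg (fun k => k.left) hh
  have h4 := n.map_sec
  rw [h3, op_id] at h4
  erw [CategoryTheory.Functor.map_id] at h4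
  exact (secEquiv T).injective h4.symm

theorem surjective_toGrp (hE : IsEquivOver E) {T : Over S} (g : T ⟶ tot U G) :
    ∃ c : (yon S).obj T ⟶ A.obj, c ≫ toGrp E r h = (yon S).map g := by
  let u : Over U := Over.mk (g ≫ totπ U G)
  let a : (Gerb.ptsGrp U G).obj (op u) := Over.homMk g.left rfl
  obtain ⟨o, he, ho⟩ := exists_obj (x := x) h u (r.iso u a)
  obtain ⟨ξ, j, hj⟩ := BasedBasic.IsEquivOver.exists_iso hE o
  have hj' : (fp x (inertiaToBase (toSelf 𝒳))).p.IsHomLift
      (𝟙 ((fp x (inertiaToBase (toSelf 𝒳))).p.obj o)) j.hom := hj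
  have hT : ξ.base = T := ((E.w_obj ξ).symm.trans
    (IsHomLift.domain_eq (fp x (inertiaToBase (toSelf 𝒳))).p (𝟙 ((fp x (inertiaToBase (toSelf 𝒳))).p.obj o)) j.hom)).trans
      (congrArg (fun b : Over U => b.left) he)
  subst hT
  refine ⟨(secEquiv ξ.base).symm ξ.sec, ?_⟩
  rw [comp_toGrp, Equiv.apply_symm_apply]
  congr 1
  let q : (baseF E).obj ξ ⟶ u := (appIso (iota E) ξ).inv ≫ j.hom.hom.fst ≫ eqToHom he
  have hq : q.left = 𝟙 ξ.base := by
    have h1 : (overCat U).p.IsHomLift (𝟙 ξ.base) (appIso (iota E) ξ).hom := appIso_isHomLift (iota E) ξ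
    have h2 := IsHomLift.lift_id_inv (overCat U).p ξ.base (appIso (iota E) ξ)
    have f1 := IsHomLift.fac' (overCat U).p (𝟙 ξ.base) (appIso (iota E) ξ).inv
    have f2 := IsHomLift.fac' (fp x (inertiaToBase (toSelf 𝒳))).p (𝟙 ((fp x (inertiaToBase (toSelf 𝒳))).p.obj o)) j.hom
    change (appIso (iota E) ξ).inv.left = _ at f1
    change j.hom.hom.fst.left = _ at f2
    change (appIso (iota E) ξ).inv.left ≫ j.hom.hom.fst.left ≫ (eqToHom he).left = _
    rw [f1, f2, Over.eqToHom_left]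
    simp
    rfl
  have := eq_of_natural r h q a (elt E r h ξ) (by
    rw [iso_elt, sTheta]
    simp only [q, Functor.map_comp, Category.assoc, ho]
    rw [← Functor.map_comp_assoc x.toFunctor _ (appIso (iota E) ξ).inv, Iso.hom_inv_id,
      CategoryTheory.Functor.map_id, Category.id_comp, reassoc_of% theta_natural j.hom])
  refine Over.OverMorphism.ext ((congrArg (fun k => k.left) this).symm.trans ?_)
  change q.left.left ≫ g.left = g.left
  rw [hq]; exact Category.id_comp _

include r h in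
/-- A space representing the automorphisms is the group scheme representing them. -/
theorem exists_iso (hE : IsEquivOver E) :
    ∃ i : A.obj ≅ (yon S).obj (tot U G), i.hom ≫ (yon S).map (totπ U G) = gam E := by
  have := isIso_of_yon (toGrp E r h) fun T => ⟨fun c c' hc => injective_toGrp E r h hE c c' hc,
    fun b => by
      obtain ⟨b, rfl⟩ := (yon S).map_surjective b
      exact surjective_toGrp E r h hE b⟩
  exact ⟨asIso (toGrp E r h), toGrp_π E r h⟩

end Rep

end Groth.Agent.Lib.AlgStack.AutSpace
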