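import Groth.Agent.Lib.AlgStack.SpMapProp
import Groth.Agent.Lib.AlgSpColimit.EtaleFamily
import Groth.Agent.H14.Sep.Main
import Groth.Agent.Lib.AlgSpFpqc.ST
import Groth.Prelude.Def_StCoarse

/-!
# Being a uniform categorical moduli space is local on the target
-/

set_option autoImplicit false
set_option backward.isDefEq.respectTransparency false
set_option backward.isDefEq.respectTransparency.types false

universe u

open CategoryTheory CategoryTheory.Limits AlgebraicGeometry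

namespace Groth.Agent.Lib.AlgStack.CatModuliLocal

open Groth.Agent.Lib.AlgStack Groth.Agent.Lib.AlgSpace
open BasedBasic
open Groth.Agent.Lib.AlgStack.SpMapProp (ofPoint isoOfPoint ofPoint_eq_of_iso ofPoint_overMap ofPoint_comp ofPoint_atlas)
open FibCat (fp fpFst fpSnd fpLift fpIso overCat IsFibGrpd)
open AlgSt (ofSp ofSpMap ofOverCat toOverCat overMap IsCatModuli IsUnifCatModuli)
open AlgSp (Sp yon IsAlgSpace LocP RepWith Points)

variable {S : Scheme.{u}}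

/-! ### Functors to a space -/

/-- Morphisms in the category of a sheaf are determined by their images in the base. -/
theorem ofSp_hom_ext {N : Sp S} {a b : (ofSp N).obj} {R : Over S} (k k' : a ⟶ b)
    (hk : (ofSp N).p.IsHomLift (𝟙 R) k) (hk' : (ofSp N).p.IsHomLift (𝟙 R) k') : k = k' :=
  Stk.EltObj.hom_ext ((IsHomLift.fac' (ofSp N).p (𝟙 R) k).trans
    (IsHomLift.fac' (ofSp N).p (𝟙 R) k').symm)

theorem ofSp_map_eq {N : Sp S} {𝒵 : AlgSt.Cat S} (φ : 𝒵 ⥤ᵇ ofSp N) {a b : 𝒵.obj} (f : a ⟶ b) :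
    (φ.map f).hom = eqToHom (φ.w_obj a) ≫ 𝒵.p.map f ≫ eqToHom (φ.w_obj b).symm :=
  have := IsHomLift.map 𝒵.p f
  have := BasedFunctor.preserves_isHomLift φ (𝒵.p.map f) f
  IsHomLift.fac' (ofSp N).p (𝒵.p.map f) (φ.map f)

/-- Functors to a sheaf are isomorphic if they agree on the points of the source. -/
theorem nonempty_iso {N : Sp S} {𝒵 : AlgSt.Cat S} (h𝒵 : IsFibGrpd 𝒵.p) (φ φ' : 𝒵 ⥤ᵇ ofSp N)
    (h : ∀ (T : Over S) (x : overCat T ⥤ᵇ 𝒵),
      ofPoint (BasedFunctor.comp x φ) = ofPoint (BasedFunctor.comp x φ')) :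
    Nonempty (φ ≅ φ') := by
  have key : ∀ z : 𝒵.obj, ∃ e : φ.obj z ≅ φ'.obj z,
      (ofSp N).p.IsHomLift (𝟙 (𝒵.p.obj z)) e.hom := fun z => by
    let x := Yoneda.fromObj h𝒵 (rfl : 𝒵.p.obj z = 𝒵.p.obj z)
    obtain ⟨ε, hε⟩ := Yoneda.exists_fromObj_iso h𝒵 (rfl : 𝒵.p.obj z = 𝒵.p.obj z)
    let m : BasedFunctor.comp x φ ≅ BasedFunctor.comp x φ' :=
      isoOfPoint _ ≪≫ eqToIso (by rw [h]) ≪≫ (isoOfPoint _).symm
    let i := Over.mk (𝟙 (𝒵.p.obj z))
    have hm : (ofSp N).p.IsHomLift (𝟙 (𝒵.p.obj z)) (appIso m i).hom := appIso_isHomLift m i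
    have hε' : 𝒵.p.IsHomLift (𝟙 (𝒵.p.obj z)) ε.inv := IsHomLift.lift_id_inv 𝒵.p _ ε
    have h1 : (ofSp N).p.IsHomLift (𝟙 (𝒵.p.obj z)) (φ.map ε.inv) :=
      BasedFunctor.preserves_isHomLift φ _ _
    have h2 : (ofSp N).p.IsHomLift (𝟙 (𝒵.p.obj z)) (φ'.map ε.hom) :=
      BasedFunctor.preserves_isHomLift φ' _ _
    refine ⟨φ.toFunctor.mapIso ε.symm ≪≫ appIso m i ≪≫ φ'.toFunctor.mapIso ε, ?_⟩
    change (ofSp N).p.IsHomLift (𝟙 (𝒵.p.obj z)) (φ.map ε.inv ≫ (appIso m i).hom ≫ φ'.map ε.hom)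
    infer_instance
  choose e he using key
  exact ⟨BasedNatIso.mkNatIso (NatIso.ofComponents e fun {a b} f => by
    apply Stk.EltObj.hom_ext
    have hb : (e b).hom.hom = _ := IsHomLift.fac' (ofSp N).p (𝟙 (𝒵.p.obj b)) (e b).hom
    have ha : (e a).hom.hom = _ := IsHomLift.fac' (ofSp N).p (𝟙 (𝒵.p.obj a)) (e a).hom
    change (φ.map f).hom ≫ (e b).hom.hom = (e a).hom.hom ≫ (φ'.map f).hom
    rw [ha, hb, ofSp_map_eq, ofSp_map_eq]
    simp) he⟩

theorem ofSpMap_comp {F G H : Sp S} (a : F ⟶ G) (b : G ⟶ H) :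
    ofSpMap (a ≫ b) = BasedFunctor.comp (ofSpMap a) (ofSpMap b) := by
  rw [← OfPsh.ofPshMap_comp, ← ObjectProperty.FullSubcategory.comp_hom]

/-! ### Base changes along maps of sheaves -/

variable {𝒳 : AlgSt.Cat S} {Y : Sp S} (f : 𝒳 ⥤ᵇ ofSp Y)

/-- The comparison of an object of the fibre product lifts an identity. -/
theorem isHomLift_iso {G : Sp S} {g : G ⟶ Y} {R : Over S} {z : (fp (ofSpMap g) f).obj}
    (hz : (fp (ofSpMap g) f).p.obj z = R) : (ofSp Y).p.IsHomLift (𝟙 R) z.obj.iso.hom := by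
  subst hz; exact z.property

/-- The functor of base changes of a map of sheaves over `Y`. -/
def phi {G G' : Sp S} {g : G ⟶ Y} {g' : G' ⟶ Y} (m : G' ⟶ G) (e : m ≫ g = g') :
    fp (ofSpMap g') f ⥤ᵇ fp (ofSpMap g) f :=
  fpLift (BasedFunctor.comp (fpFst (ofSpMap g') f) (ofSpMap m)) (fpSnd (ofSpMap g') f)
    (eqToIso (by rw [← e, ofSpMap_comp]; rfl) ≪≫ fpIso (ofSpMap g') f)

/-- Composites of base change functors. -/
theorem phi_comp {G G' G'' : Sp S} {g : G ⟶ Y} {g' : G' ⟶ Y} {g'' : G'' ⟶ Y} (m : G' ⟶ G)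
    (e : m ≫ g = g') (m' : G'' ⟶ G') (e' : m' ≫ g' = g'') (n : G'' ⟶ G) (en : n ≫ g = g'')
    (hn : n = m' ≫ m) :
    Nonempty (BasedFunctor.comp (phi f m' e') (phi f m e) ≅ phi f n en) := by
  subst hn
  let e₁ : BasedFunctor.comp (BasedFunctor.comp (phi f m' e') (phi f m e)) (fpFst (ofSpMap g) f) ≅
      BasedFunctor.comp (phi f (m' ≫ m) en) (fpFst (ofSpMap g) f) :=
    eqToIso (by
      show BasedFunctor.comp (fpFst (ofSpMap g'') f) (BasedFunctor.comp (ofSpMap m') (ofSpMap m)) =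
        BasedFunctor.comp (fpFst (ofSpMap g'') f) (ofSpMap (m' ≫ m))
      rw [ofSpMap_comp])
  let e₂ : BasedFunctor.comp (BasedFunctor.comp (phi f m' e') (phi f m e)) (fpSnd (ofSpMap g) f) ≅
      BasedFunctor.comp (phi f (m' ≫ m) en) (fpSnd (ofSpMap g) f) :=
    Iso.refl (fpSnd (ofSpMap g'') f)
  refine ⟨Lib.Fibred.Slice.fpIsoMk e₁ e₂ fun w => ?_⟩
  let R := (fp (ofSpMap g'') f).p.obj w
  let K := BasedFunctor.comp (phi f m' e') (phi f m e)
  let L := phi f (m' ≫ m) en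
  have hK : (ofSp Y).p.IsHomLift (𝟙 R) (K.obj w).obj.iso.hom := isHomLift_iso f (K.w_obj w)
  have hL : (ofSp Y).p.IsHomLift (𝟙 R) (L.obj w).obj.iso.hom := isHomLift_iso f (L.w_obj w)
  have h1 := appIso_isHomLift e₁ w
  have h2 := appIso_isHomLift e₂ w
  have h1' : (ofSp Y).p.IsHomLift (𝟙 R) ((ofSpMap g).map (appIso e₁ w).hom) :=
    BasedFunctor.preserves_isHomLift (ofSpMap g) _ _
  have h2' : (ofSp Y).p.IsHomLift (𝟙 R) (f.map (appIso e₂ w).hom) :=
    BasedFunctor.preserves_isHomLift f _ _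
  exact ofSp_hom_ext (R := R) _ _
    (inferInstanceAs ((ofSp Y).p.IsHomLift (𝟙 R)
      ((ofSpMap g).map (appIso e₁ w).hom ≫ (L.obj w).obj.iso.hom)))
    (inferInstanceAs ((ofSp Y).p.IsHomLift (𝟙 R)
      ((K.obj w).obj.iso.hom ≫ f.map (appIso e₂ w).hom)))

/-- `h` is the factorisation of `ψ` through the projection. -/
def Good {G N : Sp S} {g : G ⟶ Y} (h : G ⟶ N) (ψ : fp (ofSpMap g) f ⥤ᵇ ofSp N) : Prop :=
  Nonempty (BasedFunctor.comp (fpFst (ofSpMap g) f) (ofSpMap h) ≅ ψ)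

variable {f}

theorem Good.restrict {G G' N : Sp S} {g : G ⟶ Y} {g' : G' ⟶ Y} {h : G ⟶ N}
    {ψ : fp (ofSpMap g) f ⥤ᵇ ofSp N} (hh : Good f h ψ) (m : G' ⟶ G) (e : m ≫ g = g') :
    Good f (m ≫ h) (BasedFunctor.comp (phi f m e) ψ) := by
  obtain ⟨ε⟩ := hh
  exact ⟨eqToIso (by rw [ofSpMap_comp]; rfl) ≪≫ isoWhiskerLeft (phi f m e) ε⟩

theorem Good.of_iso {G N : Sp S} {g : G ⟶ Y} {h : G ⟶ N} {ψ ψ' : fp (ofSpMap g) f ⥤ᵇ ofSp N}
    (hh : Good f h ψ) (e : ψ ≅ ψ') : Good f h ψ' := by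
  obtain ⟨ε⟩ := hh; exact ⟨ε ≪≫ e⟩

/-- Factorisations may be checked on etale covering families. -/
theorem good_of_family (h𝒳 : IsFibGrpd 𝒳.p) {C N : Sp S} (hC : IsAlgSpace C) {g : C ⟶ Y}
    {κ : Type u} {O : κ → Over S} {c : ∀ k, (yon S).obj (O k) ⟶ C} (he : ∀ k, RepWith @Etale (c k))
    (hs : ∀ x : Points C, ∃ k o, Points.ofPt (c k) o = x) (h : C ⟶ N)
    (ψ : fp (ofSpMap g) f ⥤ᵇ ofSp N)
    (hk : ∀ k, Good f (c k ≫ h) (BasedFunctor.comp (phi f (c k) rfl) ψ)) : Good f h ψ := by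
  refine nonempty_iso (FibProd.isFibGrpd_fp (Stk.isFibGrpd_ofPsh C.obj) h𝒳
    (Stk.isFibGrpd_ofPsh Y.obj)) _ ψ fun T x => ?_
  let μ := ofPoint (BasedFunctor.comp x (fpFst (ofSpMap g) f))
  obtain ⟨R, p, q, sq, hcov⟩ := Lib.AlgSpColimit.exists_cover hC he hs μ
  refine hom_ext_of_family R p hcov fun k => ?_
  rw [← ofPoint_overMap, ← ofPoint_overMap]
  obtain ⟨εk⟩ := hk k
  -- the restricted point factors through the base change
  let x' := BasedFunctor.comp (overMap (p k)) x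
  let l := BasedFunctor.comp (ofOverCat (R k)) (ofSpMap ((yon S).map (q k)))
  let a : BasedFunctor.comp x' (fpFst (ofSpMap g) f) ≅ BasedFunctor.comp l (ofSpMap (c k)) :=
    isoOfPoint _ ≪≫ eqToIso (by
      rw [show ofPoint (BasedFunctor.comp x' (fpFst (ofSpMap g) f)) =
          (yon S).map (q k) ≫ c k from
        (ofPoint_overMap (p k) (BasedFunctor.comp x (fpFst (ofSpMap g) f))).trans (sq k).w,
        ofSpMap_comp]
      rfl)
  let y : overCat (R k) ⥤ᵇ fp (ofSpMap (c k ≫ g)) f :=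
    fpLift l (BasedFunctor.comp x' (fpSnd (ofSpMap g) f))
      (eqToIso (by rw [ofSpMap_comp]; rfl) ≪≫ (isoWhiskerRight a (ofSpMap g)).symm ≪≫
        isoWhiskerLeft x' (fpIso (ofSpMap g) f))
  let e₂ : BasedFunctor.comp (BasedFunctor.comp y (phi f (c k) rfl)) (fpSnd (ofSpMap g) f) ≅
      BasedFunctor.comp x' (fpSnd (ofSpMap g) f) := Iso.refl _
  let e₁ : BasedFunctor.comp (BasedFunctor.comp y (phi f (c k) rfl)) (fpFst (ofSpMap g) f) ≅
      BasedFunctor.comp x' (fpFst (ofSpMap g) f) := a.symm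
  have ι : BasedFunctor.comp y (phi f (c k) rfl) ≅ x' :=
    Lib.Fibred.Slice.fpIsoMk e₁ e₂ fun w => by
      let T' := (overCat (R k)).p.obj w
      let K := BasedFunctor.comp y (phi f (c k) rfl)
      have hK : (ofSp Y).p.IsHomLift (𝟙 T') (K.obj w).obj.iso.hom := isHomLift_iso f (K.w_obj w)
      have hL : (ofSp Y).p.IsHomLift (𝟙 T') (x'.obj w).obj.iso.hom :=
        isHomLift_iso f (x'.w_obj w)
      have h1 := appIso_isHomLift e₁ w
      have h2 := appIso_isHomLift e₂ w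
      have h1' : (ofSp Y).p.IsHomLift (𝟙 T') ((ofSpMap g).map (appIso e₁ w).hom) :=
        BasedFunctor.preserves_isHomLift (ofSpMap g) _ _
      have h2' : (ofSp Y).p.IsHomLift (𝟙 T') (f.map (appIso e₂ w).hom) :=
        BasedFunctor.preserves_isHomLift f _ _
      exact ofSp_hom_ext (R := T') _ _
        (inferInstanceAs ((ofSp Y).p.IsHomLift (𝟙 T')
          ((ofSpMap g).map (appIso e₁ w).hom ≫ (x'.obj w).obj.iso.hom)))
        (inferInstanceAs ((ofSp Y).p.IsHomLift (𝟙 T')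
          ((K.obj w).obj.iso.hom ≫ f.map (appIso e₂ w).hom)))
  have e₃ : BasedFunctor.comp (phi f (c k) rfl) (BasedFunctor.comp (fpFst (ofSpMap g) f) (ofSpMap h)) =
      BasedFunctor.comp (fpFst (ofSpMap (c k ≫ g)) f) (ofSpMap (c k ≫ h)) :=
    (congrArg (BasedFunctor.comp (fpFst (ofSpMap (c k ≫ g)) f)) (ofSpMap_comp (c k) h)).symm
  exact ofPoint_eq_of_iso
    ((isoWhiskerRight ι (BasedFunctor.comp (fpFst (ofSpMap g) f) (ofSpMap h))).symm ≪≫
    isoWhiskerLeft y (eqToIso e₃ ≪≫ εk) ≪≫ isoWhiskerRight ι ψ)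

/-! ### Etale families -/

theorem repWith_etale_comp {F G H : Sp S} {a : F ⟶ G} {b : G ⟶ H} (ha : RepWith @Etale a)
    (hb : RepWith @Etale b) : RepWith @Etale (a ≫ b) := by
  have : MorphismProperty.IsStableUnderComposition (@Etale : MorphismProperty Scheme.{u}) :=
    ⟨fun f g (_ : Etale f) (_ : Etale g) ↦ inferInstanceAs (Etale (f ≫ g))⟩
  exact repWith_comp ha hb

theorem flat_precomp {F G : Sp S} (hF : IsAlgSpace F) (hG : IsAlgSpace G) (hY : IsAlgSpace Y)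
    {e : F ⟶ G} (he : RepWith @Etale e) {g : G ⟶ Y} (hg : LocP @Flat g) : LocP @Flat (e ≫ g) :=
  Lib.AlgSpMor.LocP.locP_comp Lib.SourceDescent.Scheme.flat hF hG hY
    (Comp.locP_of_repWith_etale (fun _ _ k hk => Lib.SourceDescent.Scheme.flat.etale k hk) he) hg

/-- An affine open as an object over the base. -/
abbrev aff (U : Over S) (O : U.left.affineOpens) : Over S := Over.mk (O.1.ι ≫ U.hom)

/-- The inclusion of an affine open. -/
abbrev affι (U : Over S) (O : U.left.affineOpens) : aff U O ⟶ U := Over.homMk O.1.ι rfl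

theorem etale_affι {C : Sp S} {U : Over S} {a : (yon S).obj U ⟶ C} (he : RepWith @Etale a)
    (O : U.left.affineOpens) : RepWith @Etale ((yon S).map (affι U O) ≫ a) :=
  repWith_etale_comp ((AlgSp.repWith_yon_map_iff _ _).2 (inferInstanceAs (Etale O.1.ι))) he

theorem exists_affι {C : Sp S} {U : Over S} {a : (yon S).obj U ⟶ C}
    (hs : RepWith @Surjective a) (x : Points C) :
    ∃ (O : U.left.affineOpens) (o : ↥(aff U O).left),
      Points.ofPt ((yon S).map (affι U O) ≫ a) o = x := by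
  obtain ⟨u, rfl⟩ := surjective_ofPt hs x
  obtain ⟨V, hV, hu, -⟩ := exists_isAffineOpen_mem_and_subset (U := ⊤) (x := u) trivial
  exact ⟨⟨V, hV⟩, ⟨u, hu⟩, ofPt_yon_map_comp _ _ _⟩

/-! ### The theorem -/

/-- The moduli property on affine schemes flat over the target. -/
def AffHyp (f : 𝒳 ⥤ᵇ ofSp Y) : Prop :=
  ∀ (T : Over S), IsAffine T.left → ∀ (g : (yon S).obj T ⟶ Y), LocP @Flat g →
    IsCatModuli (fpFst (ofSpMap g) f)

/-- Factorisations are unique over schemes flat over the target. -/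
theorem good_unique (hY : IsAlgSpace Y) (hf : AffHyp f) {T : Over S} {g : (yon S).obj T ⟶ Y}
    (hg : LocP @Flat g) {N : Sp S} (hN : IsAlgSpace N) {h h' : (yon S).obj T ⟶ N}
    {ψ : fp (ofSpMap g) f ⥤ᵇ ofSp N} (hh : Good f h ψ) (hh' : Good f h' ψ) : h = h' := by
  have he : RepWith @Etale (𝟙 ((yon S).obj T)) := AlgSp.repWith_id _ _
  have hs : RepWith @Surjective (𝟙 ((yon S).obj T)) := AlgSp.repWith_id _ _
  obtain ⟨R, p, q, sq, hcov⟩ := Lib.AlgSpColimit.exists_cover (IsAlgSpace.yon_obj T)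
    (fun O => etale_affι he O) (exists_affι hs) (𝟙 ((yon S).obj T))
  refine hom_ext_of_family R p hcov fun O => ?_
  have hk : (yon S).map (affι T O) ≫ h = (yon S).map (affι T O) ≫ h' := by
    have hA : IsAffine (aff T O).left := O.2
    have hgO : LocP @Flat ((yon S).map (affι T O) ≫ g) :=
      flat_precomp (IsAlgSpace.yon_obj _) (IsAlgSpace.yon_obj _) hY
        ((AlgSp.repWith_yon_map_iff _ _).2 (inferInstanceAs (Etale O.1.ι))) hg
    exact ((hf _ hA _ hgO).2 N hN (BasedFunctor.comp (phi f _ rfl) ψ)).unique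
      (hh.restrict ((yon S).map (affι T O)) rfl) (hh'.restrict ((yon S).map (affι T O)) rfl)
  have hp : (yon S).map (p O) = (yon S).map (q O) ≫ (yon S).map (affι T O) := by
    simpa using (sq O).w
  rw [hp, Category.assoc, Category.assoc, hk]

/-- Base changes along flat maps from algebraic spaces are categorical moduli spaces. -/
theorem isCatModuli_fpFst (h𝒳 : IsFibGrpd 𝒳.p) (hY : IsAlgSpace Y) (hf : AffHyp f) {M : Sp S}
    (hM : IsAlgSpace M) (g : M ⟶ Y) (hg : LocP @Flat g) : IsCatModuli (fpFst (ofSpMap g) f) := by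
  refine ⟨hM, fun N hN φ => ?_⟩
  obtain ⟨U, a, hae, has⟩ := hM.atlas
  let c : ∀ O : U.left.affineOpens, (yon S).obj (aff U O) ⟶ M := fun O => (yon S).map (affι U O) ≫ a
  have hc : ∀ O, RepWith @Etale (c O) := fun O => etale_affι hae O
  have hcs := exists_affι has
  have hgO : ∀ O, LocP @Flat (c O ≫ g) := fun O =>
    flat_precomp (IsAlgSpace.yon_obj _) hM hY (hc O) hg
  have hfac : ∀ O, ∃ hO : (yon S).obj (aff U O) ⟶ N,
      Good f hO (BasedFunctor.comp (phi f (c O) rfl) φ) := fun O => by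
    obtain ⟨hO, h1, -⟩ := (hf (aff U O) O.2 _ (hgO O)).2 N hN (BasedFunctor.comp (phi f (c O) rfl) φ)
    exact ⟨hO, h1⟩
  choose hO hgood using hfac
  obtain ⟨b, hb⟩ := Lib.AlgSpColimit.exists_desc_family hM hc hcs hO fun k l W gk gl e => by
    obtain ⟨R, rk, rl, sqR⟩ := exists_isPullback_yon hM.diag (c k) (c l)
    have hrk : RepWith @Etale ((yon S).map rk) := repWith_baseChange sqR.flip (hc l)
    have hRf : LocP @Flat (((yon S).map rk ≫ c k) ≫ g) := by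
      rw [Category.assoc]
      exact flat_precomp (IsAlgSpace.yon_obj _) (IsAlgSpace.yon_obj _) hY hrk (hgO k)
    obtain ⟨ι₁⟩ := phi_comp f (c k) rfl ((yon S).map rk) (Category.assoc _ _ _).symm
      ((yon S).map rk ≫ c k) rfl rfl
    obtain ⟨ι₂⟩ := phi_comp f (c l) rfl ((yon S).map rl)
      (show (yon S).map rl ≫ c l ≫ g = ((yon S).map rk ≫ c k) ≫ g by
        rw [sqR.w]; exact (Category.assoc _ _ _).symm)
      ((yon S).map rk ≫ c k) rfl sqR.w
    have hkl : (yon S).map rk ≫ hO k = (yon S).map rl ≫ hO l :=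
      good_unique hY hf hRf hN
        (((hgood k).restrict ((yon S).map rk) (Category.assoc _ _ _).symm).of_iso
          (isoWhiskerRight ι₁ φ))
        (((hgood l).restrict ((yon S).map rl)
          (show (yon S).map rl ≫ c l ≫ g = ((yon S).map rk ≫ c k) ≫ g by
            rw [sqR.w]; exact (Category.assoc _ _ _).symm)).of_iso (isoWhiskerRight ι₂ φ))
    calc (yon S).map gk ≫ hO k = (sqR.lift _ _ e ≫ (yon S).map rk) ≫ hO k := by rw [sqR.lift_fst]
      _ = (sqR.lift _ _ e ≫ (yon S).map rl) ≫ hO l := by rw [Category.assoc, hkl, ← Category.assoc]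
      _ = (yon S).map gl ≫ hO l := by rw [sqR.lift_snd]
  refine ⟨b, good_of_family h𝒳 hM hc hcs b φ fun O => hb O ▸ hgood O, fun b' hb' => ?_⟩
  refine Groth.Agent.Lib.AlgSpace.hom_ext fun T ξ => ?_
  obtain ⟨R, p, q, sq, hcov⟩ := Lib.AlgSpColimit.exists_cover hM hc hcs ξ
  refine hom_ext_of_family R p hcov fun O => ?_
  rw [reassoc_of% (sq O).w, reassoc_of% (sq O).w]
  have : c O ≫ b' = c O ≫ b := by
    rw [hb O]
    exact ((hf (aff U O) O.2 _ (hgO O)).2 N hN (BasedFunctor.comp (phi f (c O) rfl) φ)).unique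
      (Good.restrict (show Good f b' φ from hb') (c O) rfl) (hgood O)
  rw [this]

theorem isUnifCatModuli (h𝒳 : IsFibGrpd 𝒳.p) (hY : IsAlgSpace Y) (hf : AffHyp f) :
    IsUnifCatModuli f := by
  refine ⟨⟨hY, fun N hN φ => ?_⟩, fun M hM g hg => isCatModuli_fpFst h𝒳 hY hf hM g hg⟩
  have hid : LocP @Flat (𝟙 Y) := Lib.AlgSpFpqc.ST.locP_id Lib.SourceDescent.Scheme.flat Y
  let E := fpSnd (BasedFunctor.id (ofSp Y)) f
  have hE : FibCat.IsEquivOver E := H14.Sep.Main.isEquivOver_fpSnd_id f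
  obtain ⟨i, hi, -, ⟨ε⟩⟩ := BasedBasic.IsEquivOver.exists_inverse hE
  let η : BasedFunctor.comp E f ≅ fpFst (BasedFunctor.id (ofSp Y)) f :=
    (fpIso (BasedFunctor.id (ofSp Y)) f).symm
  obtain ⟨b, hb, hu⟩ := (isCatModuli_fpFst h𝒳 hY hf hY (𝟙 Y) hid).2 N hN (BasedFunctor.comp E φ)
  obtain ⟨δ⟩ := hb
  refine ⟨b, ⟨(isoWhiskerRight ε (BasedFunctor.comp f (ofSpMap b))).symm ≪≫
    isoWhiskerLeft i (isoWhiskerRight η (ofSpMap b) ≪≫ δ) ≪≫ isoWhiskerRight ε φ⟩, fun b' ⟨δ'⟩ => ?_⟩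
  exact hu b' ⟨(isoWhiskerRight η (ofSpMap b')).symm ≪≫ isoWhiskerLeft E δ'⟩

end Groth.Agent.Lib.AlgStack.CatModuliLocal
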