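import Groth.Agent.H14.Chart.OpenSub2
import Mathlib.AlgebraicGeometry.Morphisms.FlatDescent

/-!
Closed substacks containing a smooth chart, and factorisation of reduced stacks through closed substacks.
-/

set_option autoImplicit false
set_option backward.isDefEq.respectTransparency false
set_option backward.isDefEq.respectTransparency.types false

universe u

open CategoryTheory CategoryTheory.Limits AlgebraicGeometry

namespace Groth.Agent.Lib.AlgStack.ClosedSub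

open Groth.Agent.Lib.AlgStack
open Groth.Agent.H14.Chart Groth.Agent.H14.Sep
open Groth.Agent.H14.Sep.Lft (vOf)
open FibCat (IsEquivOver fp fpFst fpSnd fpLift fpIso overCat IsFibGrpd)
open AlgSt (ofSp ofSpMap ofOverCat toOverCat spMapOfOver overMap RepByAlgSpWith IsAlgStack
  fullSub subIncl IsClosedImm IsClosedSubstack)
open AlgSp (Sp yon LocP RepWith IsSurjectiveMor)

/-- A closed immersion through which a faithfully flat finitely presented map factors is an isomorphism. -/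
theorem isIso_of_factor {Z T T' : Scheme.{u}} (i : Z ⟶ T) [IsClosedImmersion i] (s : T' ⟶ T)
    [Surjective s] [Flat s] [LocallyOfFinitePresentation s] (k : T' ⟶ Z) (hk : k ≫ i = s) :
    IsIso i := by
  have h1 : IsIso (pullback.fst s i) := by
    let l : T' ⟶ pullback s i := pullback.lift (𝟙 T') k (by rw [hk, Category.id_comp])
    refine ⟨l, ?_, pullback.lift_fst _ _ _⟩
    rw [← cancel_mono (pullback.fst s i), Category.assoc, pullback.lift_fst, Category.comp_id,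
      Category.id_comp]
  exact MorphismProperty.of_isPullback_of_descendsAlong
    (P := MorphismProperty.isomorphisms Scheme.{u})
    (Q := @Surjective ⊓ @Flat ⊓ @LocallyOfFinitePresentation)
    (IsPullback.of_hasPullback s i) ⟨⟨inferInstance, inferInstance⟩, inferInstance⟩ h1

variable {S : Scheme.{u}} {𝒳 𝒴 : AlgSt.Cat S} {Q : 𝒳.obj → Prop}

/-- A substack contains the pullbacks of its objects. -/
theorem mem_of_hom (h : IsFibGrpd 𝒳.p) (hQ : ObjectProperty.IsClosedUnderIsomorphisms Q)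
    (hg : IsFibGrpd (fullSub 𝒳 Q).p) {y' y : 𝒳.obj} (φ : y' ⟶ y) (hy : Q y) : Q y' := by
  obtain ⟨z, ψ, hψ⟩ := Lib.Fibred.Descent.exists_lift hg
    (rfl : (fullSub 𝒳 Q).p.obj ⟨y, hy⟩ = 𝒳.p.obj y) (𝒳.p.map φ)
  have hψ' : 𝒳.p.IsHomLift (𝒳.p.map φ) ((subIncl 𝒳 Q).map ψ) :=
    BasedFunctor.preserves_isHomLift (subIncl 𝒳 Q) _ ψ
  have := Yoneda.stronglyCartesian h (𝒳.p.map φ) ((subIncl 𝒳 Q).map ψ)
  have hφ : 𝒳.p.IsHomLift (𝒳.p.map φ) φ := IsHomLift.map 𝒳.p φ
  let θ := Functor.IsStronglyCartesian.map 𝒳.p (𝒳.p.map φ) ((subIncl 𝒳 Q).map ψ) (g := 𝟙 (𝒳.p.obj y'))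
    (Category.id_comp (𝒳.p.map φ)).symm φ
  have hθ : 𝒳.p.IsHomLift (𝟙 (𝒳.p.obj y')) θ := Functor.IsStronglyCartesian.map_isHomLift _ _ _ _ _
  have := BasedBasic.isIso_of_isHomLift_id h (R := 𝒳.p.obj y') θ
  exact hQ.of_iso (asIso θ).symm z.property

/-- The fibre of a closed substack over an object: a closed subscheme detecting membership. -/
theorem exists_closed (h : IsFibGrpd 𝒳.p) (hQ : ObjectProperty.IsClosedUnderIsomorphisms Q)
    (hg : IsFibGrpd (fullSub 𝒳 Q).p) (hi : IsClosedImm (subIncl 𝒳 Q)) {T : Over S}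
    (x : overCat T ⥤ᵇ 𝒳) :
    ∃ (Z : Over S) (i : Z ⟶ T), IsClosedImmersion i.left ∧
      (IsIso i.left → Q (x.obj (Over.mk (𝟙 T)))) ∧
      (∀ t : ↥T.left, AlgSt.Points.ofChart x t ∈ Set.range (AlgSt.Points.map (subIncl 𝒳 Q)) →
        t ∈ Set.range i.left) ∧
      (∀ (T' : Over S) (s : T' ⟶ T), (∀ g : Over T', Q ((BasedFunctor.comp (overMap s) x).obj g)) →
        ∃ k : T' ⟶ Z, k ≫ i = s) := by
  obtain ⟨G, e, he, hG⟩ := hi T x
  let γ := spMapOfOver (BasedFunctor.comp e (fpFst x (subIncl 𝒳 Q)))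
  let a : (yon S).obj T ⟶ (yon S).obj T := 𝟙 _
  have hpb := hG.1.isPullback a
  have hsec : ∀ {W : Over S} (g : (yon S).obj W ⟶ G.obj) (l : W ⟶ T), g ≫ γ = (yon S).map l →
      ∃ k, k ≫ hG.1.snd a = l := fun {W} g l hgl => by
    obtain ⟨k, hk⟩ := (yon S).map_surjective (hpb.lift g ((yon S).map l) (by
      rw [Category.comp_id]; exact hgl))
    refine ⟨k, (yon S).map_injective ?_⟩
    rw [Functor.map_comp, hk]
    exact IsPullback.lift_snd _ _ _ _
  refine ⟨_, hG.1.snd a, hG.property_snd a, fun hiso => ?_, fun t ht => ?_, fun T' s hs => ?_⟩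
  · have : IsIso (hG.1.snd a) := haveI : IsIso ((Over.forget S).map (hG.1.snd a)) := hiso; isIso_of_reflects_iso _ (Over.forget S)
    let σ : (yon S).obj T ⟶ G.obj := (yon S).map (inv (hG.1.snd a)) ≫ hG.1.fst a
    have hσ : σ ≫ γ = 𝟙 _ := by
      change ((yon S).map (inv (hG.1.snd a)) ≫ hG.1.fst a) ≫ γ = _
      rw [Category.assoc, hpb.w, Category.comp_id, ← Functor.map_comp, IsIso.inv_hom_id,
        CategoryTheory.Functor.map_id]
    let η : overCat T ⥤ᵇ fp x (subIncl 𝒳 Q) :=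
      BasedFunctor.comp (ofOverCat _) (BasedFunctor.comp (ofSpMap σ) e)
    let ι₁ : BasedFunctor.comp η (fpFst x (subIncl 𝒳 Q)) ≅ vOf (𝟙 T) :=
      BasedBasic.isoWhiskerLeft (ofOverCat _)
        (Rep.isoSpMapOfOver (BasedFunctor.comp (ofSpMap σ) (BasedFunctor.comp e (fpFst x (subIncl 𝒳 Q)))) ≪≫
          eqToIso (by rw [Rep.spMapOfOver_precomp, hσ, ← CategoryTheory.Functor.map_id]))
    let β : BasedFunctor.comp (vOf (𝟙 T)) x ≅
        BasedFunctor.comp (BasedFunctor.comp η (fpSnd x (subIncl 𝒳 Q))) (subIncl 𝒳 Q) :=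
      (BasedBasic.isoWhiskerRight ι₁ x).symm ≪≫ BasedBasic.isoWhiskerLeft η (fpIso x (subIncl 𝒳 Q))
    have hQ' : Q (x.obj ((vOf (𝟙 T)).obj (Over.mk (𝟙 T)))) :=
      hQ.of_iso (BasedBasic.appIso β (Over.mk (𝟙 T))).symm
        ((BasedFunctor.comp η (fpSnd x (subIncl 𝒳 Q))).obj _).property
    have j : (vOf (𝟙 T)).obj (Over.mk (𝟙 T)) ≅ Over.mk (𝟙 T) :=
      Over.isoMk (Iso.refl _) (by
        change 𝟙 _ ≫ 𝟙 _ = 𝟙 _ ≫ 𝟙 _
        rfl)
    exact hQ.of_iso (x.toFunctor.mapIso j) hQ'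
  · obtain ⟨q, hq⟩ := ht
    obtain ⟨U, z, m, rfl⟩ := Points.exists_ofChart_eq hg q
    obtain ⟨W, c, d, w, hc, -, ⟨β⟩⟩ :=
      Points.exists_of_ofChart_eq h (x := x) (y := BasedFunctor.comp z (subIncl 𝒳 Q)) hq.symm
    obtain ⟨g, hg', -⟩ := Points.exists_hom_of_iso he c (BasedFunctor.comp (overMap d) z) β
    obtain ⟨k, hk⟩ := hsec g c hg'
    exact ⟨k.left w, by rw [← Scheme.Hom.comp_apply, ← Over.comp_left, hk, hc]⟩
  · let z : overCat T' ⥤ᵇ fullSub 𝒳 Q :=
      { toFunctor := ObjectProperty.lift _ (BasedFunctor.comp (overMap s) x).toFunctor hs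
        w := (BasedFunctor.comp (overMap s) x).w }
    obtain ⟨g, hg', -⟩ := Points.exists_hom_of_iso he s z (Iso.refl _)
    exact hsec g s hg'

/-- Membership of an object is detected on a smooth surjective cover of its base. -/
theorem mem_of_cover (h : IsFibGrpd 𝒳.p) (hQ : ObjectProperty.IsClosedUnderIsomorphisms Q)
    (hg : IsFibGrpd (fullSub 𝒳 Q).p) (hi : IsClosedImm (subIncl 𝒳 Q)) {T T' : Over S}
    (x : overCat T ⥤ᵇ 𝒳) (s : T' ⟶ T) [Surjective s.left] [Smooth s.left]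
    (hs : ∀ g : Over T', Q ((BasedFunctor.comp (overMap s) x).obj g)) :
    Q (x.obj (Over.mk (𝟙 T))) := by
  obtain ⟨Z, i, hci, hmem, -, hfac⟩ := exists_closed h hQ hg hi x
  obtain ⟨k, hk⟩ := hfac T' s hs
  exact hmem (isIso_of_factor i.left s.left k.left (congrArg CommaMorphism.left hk))

/-- Over a reduced scheme, membership is read on points. -/
theorem mem_of_reduced (h : IsFibGrpd 𝒳.p) (hQ : ObjectProperty.IsClosedUnderIsomorphisms Q)
    (hg : IsFibGrpd (fullSub 𝒳 Q).p) (hi : IsClosedImm (subIncl 𝒳 Q)) {T : Over S}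
    [IsReduced T.left] (x : overCat T ⥤ᵇ 𝒳)
    (hx : Set.range (AlgSt.Points.ofChart x) ⊆ Set.range (AlgSt.Points.map (subIncl 𝒳 Q))) :
    Q (x.obj (Over.mk (𝟙 T))) := by
  obtain ⟨Z, i, hci, hmem, hpt, -⟩ := exists_closed h hQ hg hi x
  have : Surjective i.left := ⟨fun t => hpt t (hx ⟨t, rfl⟩)⟩
  exact hmem (isIso_of_isClosedImmersion_of_surjective i.left)

/-- A morphism from a reduced stack factors through a closed substack iff it does on points. -/
theorem factors_iff (h𝒳 : IsAlgStack Scheme.fppfPrecoverage 𝒳)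
    (h𝒴 : IsAlgStack Scheme.fppfPrecoverage 𝒴)
    (hred : AlgSt.SmoothLocally (fun X => IsReduced X) 𝒴)
    (hQ : IsClosedSubstack 𝒳 Q Scheme.fppfPrecoverage) (f : 𝒴 ⥤ᵇ 𝒳) :
    (∀ y : 𝒴.obj, Q (f.obj y)) ↔
      Set.range (AlgSt.Points.map f) ⊆ Set.range (AlgSt.Points.map (subIncl 𝒳 Q)) := by
  have h := h𝒳.isStack.1
  have hg := hQ.2.1.isStack.1
  constructor
  · rintro hf _ ⟨p, rfl⟩
    obtain ⟨p, rfl⟩ := AlgSt.Points.mk_surjective p
    exact ⟨AlgSt.Points.mk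
      ({ K := p.K, str := p.str, obj := ⟨f.obj p.obj, hf p.obj⟩, lies := (p.map f).lies } :
        AlgSt.FPt (fullSub 𝒳 Q)), rfl⟩
  intro hf
  obtain ⟨U, a, ha, has⟩ := h𝒴.atlas
  have : IsReduced U.left := hred U a ha
  let af := BasedFunctor.comp a f
  have hU : ∀ g : Over U, Q (af.obj g) := fun g =>
    mem_of_hom h hQ.1 hg (af.map (Yoneda.toId g))
      (mem_of_reduced h hQ.1 hg hQ.2.2 af (by
        rintro _ ⟨t, rfl⟩
        rw [← Points.map_ofChart]
        exact hf ⟨_, rfl⟩))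
  intro y
  let x := Yoneda.fromObj h𝒴.isStack.1 (rfl : 𝒴.p.obj y = 𝒴.p.obj y)
  obtain ⟨T', s, hs, z, ⟨β⟩, hsm⟩ := Points.exists_chart_lift has x
  have := hsm LocQ.smoothST ha
  obtain ⟨v, ⟨ε⟩⟩ := Points.exists_iso_overMap z
  obtain ⟨e, -⟩ := Yoneda.exists_fromObj_iso h𝒴.isStack.1 (rfl : 𝒴.p.obj y = 𝒴.p.obj y)
  refine hQ.1.of_iso (f.toFunctor.mapIso e)
    (mem_of_cover h hQ.1 hg hQ.2.2 (BasedFunctor.comp x f) s fun g => ?_)
  exact hQ.1.of_iso (f.toFunctor.mapIso (BasedBasic.appIso (β ≪≫ BasedBasic.isoWhiskerRight ε a) g)).symm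
    (hU _)

end Groth.Agent.Lib.AlgStack.ClosedSub
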