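import Groth.Agent.Lib.AlgStack.DiagCalc

/-!
# The diagonal of a map of 2-fibre products
-/

set_option autoImplicit false
set_option backward.isDefEq.respectTransparency false
set_option backward.isDefEq.respectTransparency.types false

universe u

open CategoryTheory CategoryTheory.Limits AlgebraicGeometry Opposite

namespace Groth.Agent.Lib.AlgStack.DiagFpMap

open BasedBasic FibProd Rep Space CompRep
open FibCat (IsEquivOver IsFibGrpd fp fpFst fpSnd fpLift fpIso)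
open AlgSt (RepByAlgSpWith)
open AlgSp (Sp IsAlgSpace)

variable {S : Scheme.{u}} {𝒳 𝒳' 𝒴 𝒴' 𝒵 : AlgSt.Cat S} {P : MorphismProperty (Sp S)}

/-- The diagonal only depends on the source up to equivalence. -/
theorem diag_of_equiv {a : 𝒳' ⥤ᵇ 𝒳} (ha : IsEquivOver a) {h : 𝒳 ⥤ᵇ 𝒴} {h' : 𝒳' ⥤ᵇ 𝒴}
    (e : BasedFunctor.comp a h ≅ h') (hd : RepByAlgSpWith P (FibCat.diag h')) :
    RepByAlgSpWith P (FibCat.diag h) := by
  have : (BasedFunctor.id 𝒴).toFunctor.Full := inferInstanceAs (𝟭 𝒴.obj).Full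
  have : (BasedFunctor.id 𝒴).toFunctor.Faithful := inferInstanceAs (𝟭 𝒴.obj).Faithful
  let b := fpMap (F := h) (G := h) (F' := h') (G' := h') a a (BasedFunctor.id 𝒴) e e
  have hb : IsEquivOver b := isEquivOver_fpMap a a (BasedFunctor.id 𝒴) e e ha ha
  have key : ∀ x, ((BasedFunctor.comp (FibCat.diag h') b).obj x).obj.iso.hom = 𝟙 _ := fun x => by
    change e.hom.toNatTrans.app x ≫ 𝟙 (h'.obj x) ≫ e.inv.toNatTrans.app x = _
    rw [Category.id_comp]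
    exact congrArg (fun t => t.toNatTrans.app x) e.hom_inv_id
  let sq : BasedFunctor.comp (FibCat.diag h') b ≅ BasedFunctor.comp a (FibCat.diag h) :=
    { hom := StkFp.fpHom (𝟙 a) (𝟙 a) (fun x => by
        change h.map (𝟙 (a.obj x)) ≫ 𝟙 _ = ((BasedFunctor.comp (FibCat.diag h') b).obj x).obj.iso.hom ≫ h.map (𝟙 (a.obj x))
        rw [key]; simp
        exact (CategoryTheory.Functor.map_id h.toFunctor _).symm)
      inv := StkFp.fpHom (𝟙 a) (𝟙 a) (fun x => by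
        change h.map (𝟙 (a.obj x)) ≫ ((BasedFunctor.comp (FibCat.diag h') b).obj x).obj.iso.hom = 𝟙 _ ≫ h.map (𝟙 (a.obj x))
        rw [key]; simp
        rfl)
      hom_inv_id := StkBasic.hom_ext fun x => FibProd.hom_ext (Category.comp_id _) (Category.comp_id _)
      inv_hom_id := StkBasic.hom_ext fun x => FibProd.hom_ext (Category.comp_id _) (Category.comp_id _) }
  exact (repByAlgSpWith_iff_of_isEquivOver ha hb sq).2 hd

/-- The map on the first factor. -/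
abbrev mapLeft (p' : 𝒳' ⥤ᵇ 𝒵) (g : 𝒴 ⥤ᵇ 𝒵) (f : 𝒳 ⥤ᵇ 𝒳') :
    fp (BasedFunctor.comp f p') g ⥤ᵇ fp p' g :=
  fpLift (BasedFunctor.comp (fpFst (BasedFunctor.comp f p') g) f) (fpSnd (BasedFunctor.comp f p') g)
    (fpIso (BasedFunctor.comp f p') g)

/-- The map on the second factor. -/
abbrev mapRight (f : 𝒳 ⥤ᵇ 𝒵) (q' : 𝒴' ⥤ᵇ 𝒵) (g : 𝒴 ⥤ᵇ 𝒴') :
    fp f (BasedFunctor.comp g q') ⥤ᵇ fp f q' :=
  fpLift (fpFst f (BasedFunctor.comp g q')) (BasedFunctor.comp (fpSnd f (BasedFunctor.comp g q')) g)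
    (fpIso f (BasedFunctor.comp g q'))

theorem diag_mapLeft (h𝒵 : IsFibGrpd 𝒵.p) {p' : 𝒳' ⥤ᵇ 𝒵} {g : 𝒴 ⥤ᵇ 𝒵} {f : 𝒳 ⥤ᵇ 𝒳'}
    (hd : RepByAlgSpWith P (FibCat.diag f)) : RepByAlgSpWith P (FibCat.diag (mapLeft p' g f)) := by
  let k := fpFst p' g
  let a := BasedFunctor.comp (FibProd.swap k f) (Rep.pasteBase f p' g)
  have ha : IsEquivOver a :=
    BasedBasic.IsEquivOver.comp (isEquivOver_swap k f) (isEquivOver_pasteBase f p' g)
  let α := fpIso k f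
  refine diag_of_equiv (h' := fpFst k f) ha
    { hom := StkFp.fpHom α.inv (𝟙 (BasedFunctor.comp (fpFst k f) (fpSnd p' g))) (fun η => ?_)
      inv := StkFp.fpHom α.hom (𝟙 (BasedFunctor.comp (fpFst k f) (fpSnd p' g))) (fun η => ?_)
      hom_inv_id := StkBasic.hom_ext fun η => FibProd.hom_ext η.obj.iso.inv_hom_id (Category.comp_id _)
      inv_hom_id := StkBasic.hom_ext fun η => FibProd.hom_ext η.obj.iso.hom_inv_id (Category.comp_id _) }
    (DiagCalc.diag_fpFst k hd)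
  · change p'.map η.obj.iso.inv ≫ η.obj.fst.obj.iso.hom =
      (p'.map η.obj.iso.inv ≫ η.obj.fst.obj.iso.hom) ≫ g.map (𝟙 η.obj.fst.obj.snd)
    simp
  · change p'.map η.obj.iso.hom ≫ (p'.map η.obj.iso.inv ≫ η.obj.fst.obj.iso.hom) =
      η.obj.fst.obj.iso.hom ≫ g.map (𝟙 η.obj.fst.obj.snd)
    simp [← CategoryTheory.Functor.map_comp_assoc]

theorem diag_mapRight {f : 𝒳 ⥤ᵇ 𝒵} {q' : 𝒴' ⥤ᵇ 𝒵} {g : 𝒴 ⥤ᵇ 𝒴'}
    (hd : RepByAlgSpWith P (FibCat.diag g)) : RepByAlgSpWith P (FibCat.diag (mapRight f q' g)) := by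
  let k := fpSnd f q'
  let α := fpIso k g
  refine diag_of_equiv (h' := fpFst k g) (isEquivOver_pasteComp f q' g)
    { hom := StkFp.fpHom (𝟙 (BasedFunctor.comp (fpFst k g) (fpFst f q'))) α.inv (fun η => ?_)
      inv := StkFp.fpHom (𝟙 (BasedFunctor.comp (fpFst k g) (fpFst f q'))) α.hom (fun η => ?_)
      hom_inv_id := StkBasic.hom_ext fun η => FibProd.hom_ext (Category.comp_id _) η.obj.iso.inv_hom_id
      inv_hom_id := StkBasic.hom_ext fun η => FibProd.hom_ext (Category.comp_id _) η.obj.iso.hom_inv_id }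
    (DiagCalc.diag_fpFst k hd)
  · change f.map (𝟙 η.obj.fst.obj.fst) ≫ η.obj.fst.obj.iso.hom =
      (η.obj.fst.obj.iso.hom ≫ q'.map η.obj.iso.hom) ≫ q'.map η.obj.iso.inv
    simp [← CategoryTheory.Functor.map_comp]
  · change f.map (𝟙 η.obj.fst.obj.fst) ≫ (η.obj.fst.obj.iso.hom ≫ q'.map η.obj.iso.hom) =
      η.obj.fst.obj.iso.hom ≫ q'.map η.obj.iso.hom
    simp

theorem diag_fpLift
    (hP : RespectsIsoSp P)
    (hPc : ∀ ⦃X Y Z : Sp S⦄, IsAlgSpace X → IsAlgSpace Y → IsAlgSpace Z →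
      ∀ (a : X ⟶ Y) (b : Y ⟶ Z), P a → P b → P (a ≫ b))
    (hdet : Detected P) (h𝒳 : IsFibGrpd 𝒳.p) (h𝒳' : IsFibGrpd 𝒳'.p) (h𝒴 : IsFibGrpd 𝒴.p)
    (h𝒵 : IsFibGrpd 𝒵.p) {p' : 𝒳' ⥤ᵇ 𝒵} {q' : 𝒴' ⥤ᵇ 𝒵} {f : 𝒳 ⥤ᵇ 𝒳'} {g : 𝒴 ⥤ᵇ 𝒴'}
    (e : BasedFunctor.comp (BasedFunctor.comp (fpFst (BasedFunctor.comp f p') (BasedFunctor.comp g q')) f) p' ≅
      BasedFunctor.comp (BasedFunctor.comp (fpSnd (BasedFunctor.comp f p') (BasedFunctor.comp g q')) g) q')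
    (he : ∀ x, e.hom.toNatTrans.app x = x.obj.iso.hom)
    (hf : RepByAlgSpWith P (FibCat.diag f)) (hg : RepByAlgSpWith P (FibCat.diag g)) :
    RepByAlgSpWith P (FibCat.diag
      (fpLift (BasedFunctor.comp (fpFst (BasedFunctor.comp f p') (BasedFunctor.comp g q')) f)
        (BasedFunctor.comp (fpSnd (BasedFunctor.comp f p') (BasedFunctor.comp g q')) g) e)) := by
  let h₁ := mapLeft p' (BasedFunctor.comp g q') f
  let h₂ := mapRight p' q' g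
  have h : RepByAlgSpWith P (FibCat.diag (BasedFunctor.comp h₁ h₂)) :=
    DiagCalc.diag_comp hP hPc hdet (isFibGrpd_fp h𝒳 h𝒴 h𝒵) (isFibGrpd_fp h𝒳' h𝒴 h𝒵)
      (diag_mapLeft h𝒵 hf) (diag_mapRight hg)
  have ee : fpIso (BasedFunctor.comp f p') (BasedFunctor.comp g q') = e := by
    apply Iso.ext
    exact StkBasic.hom_ext fun x => (he x).symm
  subst ee
  exact h

end Groth.Agent.Lib.AlgStack.DiagFpMap
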