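import Groth.Agent.Lib.AlgStack.FibProd

/-!
# The diagonal square of a fully faithful functor
-/

set_option autoImplicit false
set_option backward.isDefEq.respectTransparency false
set_option backward.isDefEq.respectTransparency.types false

universe v₂ u₂ v u₀

open CategoryTheory

namespace Groth.Agent.Lib.AlgStack.DiagMono

open BasedBasic FibProd
open FibCat (IsEquivOver fp fpFst fpSnd fpLift fpIso)

variable {C : Type u₀} [Category.{v} C] {𝒳 𝒳' 𝒴 : BasedCategory.{v₂, u₂} C}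

theorem isTwoCartOver_diag (i : 𝒳 ⥤ᵇ 𝒳') (g : 𝒳' ⥤ᵇ 𝒴) [i.toFunctor.Full] [i.toFunctor.Faithful] :
    FibCat.IsTwoCartOver
      (F := (fpLift (BasedFunctor.comp (fpFst (BasedFunctor.comp i g) (BasedFunctor.comp i g)) i)
        (BasedFunctor.comp (fpSnd (BasedFunctor.comp i g) (BasedFunctor.comp i g)) i)
        (fpIso (BasedFunctor.comp i g) (BasedFunctor.comp i g))))
      (G := FibCat.diag g) (FibCat.diag (BasedFunctor.comp i g)) i (Iso.refl _) := by
  let L := fpLift (F := fpLift (BasedFunctor.comp (fpFst (BasedFunctor.comp i g) (BasedFunctor.comp i g)) i)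
      (BasedFunctor.comp (fpSnd (BasedFunctor.comp i g) (BasedFunctor.comp i g)) i)
      (fpIso (BasedFunctor.comp i g) (BasedFunctor.comp i g))) (G := FibCat.diag g)
    (FibCat.diag (BasedFunctor.comp i g)) i (Iso.refl _)
  change IsEquivOver L
  have : L.toFunctor.Faithful := ⟨fun {a b φ ψ} h => congrArg (fun m => m.hom.fst.hom.fst) h⟩
  have : L.toFunctor.Full := ⟨fun {a b} m => by
    have w1 : i.map m.hom.fst.hom.fst ≫ 𝟙 _ = 𝟙 _ ≫ m.hom.snd := congrArg (fun t => t.hom.fst) m.hom.w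
    have w2 : i.map m.hom.fst.hom.snd ≫ 𝟙 _ = 𝟙 _ ≫ m.hom.snd := congrArg (fun t => t.hom.snd) m.hom.w
    have e1 : i.map m.hom.fst.hom.fst = m.hom.snd :=
      (Category.comp_id _).symm.trans (w1.trans (Category.id_comp _))
    have e2 : m.hom.fst.hom.fst = m.hom.fst.hom.snd := i.toFunctor.map_injective
      (e1.trans ((Category.id_comp _).symm.trans (w2.symm.trans (Category.comp_id _))))
    exact ⟨m.hom.fst.hom.fst, FibProd.hom_ext (FibProd.hom_ext rfl e2) e1⟩⟩
  refine isEquivOver_of _ fun η => ?_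
  let x₁ := η.obj.fst.obj.fst
  let a : i.obj x₁ ≅ η.obj.snd := (fpFst g g).toFunctor.mapIso η.obj.iso
  let b : i.obj η.obj.fst.obj.snd ≅ η.obj.snd := (fpSnd g g).toFunctor.mapIso η.obj.iso
  let θ : x₁ ≅ η.obj.fst.obj.snd := i.toFunctor.preimageIso (a ≪≫ b.symm)
  have hθ : i.map θ.hom = a.hom ≫ b.inv := i.toFunctor.map_preimage _
  have w : g.map a.hom ≫ 𝟙 _ = η.obj.fst.obj.iso.hom ≫ g.map b.hom := η.obj.iso.hom.hom.w
  have hξ : g.map (i.map θ.hom) = η.obj.fst.obj.iso.hom := by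
    rw [hθ, CategoryTheory.Functor.map_comp, ← Category.comp_id (g.map a.hom)]
    rw [w, Category.assoc, ← CategoryTheory.Functor.map_comp, Iso.hom_inv_id]
    simp
    exact Category.comp_id η.obj.fst.obj.iso.hom
  refine ⟨x₁, exists_iso_over
    { hom := FibProd.homMk (𝟙 x₁) θ.hom ?_
      inv := FibProd.homMk (𝟙 x₁) θ.inv ?_
      hom_inv_id := FibProd.hom_ext (Category.id_comp _) θ.hom_inv_id
      inv_hom_id := FibProd.hom_ext (Category.id_comp _) θ.inv_hom_id } a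
    (FibProd.hom_ext ?_ ?_) (IsHomLift.of_fac' _ _ _ rfl rfl
      ((CategoryTheory.Functor.map_id 𝒳.p x₁).trans (by simp; rfl)))⟩
  · change g.map (i.map (𝟙 x₁)) ≫ η.obj.fst.obj.iso.hom = 𝟙 _ ≫ g.map (i.map θ.hom)
    rw [hξ]; simp
  · change g.map (i.map (𝟙 x₁)) ≫ 𝟙 _ = η.obj.fst.obj.iso.hom ≫ g.map (i.map θ.inv)
    rw [← hξ]; simp [← CategoryTheory.Functor.map_comp]
  · change i.map (𝟙 x₁) ≫ a.hom = 𝟙 _ ≫ a.hom
    simp
  · change i.map θ.hom ≫ b.hom = 𝟙 _ ≫ a.hom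
    rw [hθ]; simp

end Groth.Agent.Lib.AlgStack.DiagMono
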