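import Groth.Agent.Lib.AlgStack.Mono
import Groth.Agent.Lib.AlgStack.IsAlg
import Groth.Agent.H14.Sep.Main2

/-!
The substack image of an immersion of algebraic stacks.
-/

set_option autoImplicit false
set_option backward.isDefEq.respectTransparency false
set_option backward.isDefEq.respectTransparency.types false

universe u

open CategoryTheory CategoryTheory.Limits AlgebraicGeometry

namespace Groth.Agent.Lib.AlgStack.ImageSub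

open Groth.Agent.Lib.AlgStack
open FibCat (IsEquivOver IsFibGrpd)
open AlgSt (RepByAlgSpWith IsAlgStack fullSub subIncl)
open AlgSp (Sp)

variable {S : Scheme.{u}} {𝒵 𝒳 : AlgSt.Cat S}

/-- The objects isomorphic to objects in the image. -/
def image (i : 𝒵 ⥤ᵇ 𝒳) : 𝒳.obj → Prop := fun y => ∃ z, Nonempty (i.obj z ≅ y)

theorem isClosedUnderIso (i : 𝒵 ⥤ᵇ 𝒳) : ObjectProperty.IsClosedUnderIsomorphisms (image i) :=
  ⟨fun e ⟨z, ⟨φ⟩⟩ => ⟨z, ⟨φ ≪≫ e⟩⟩⟩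

/-- Objects of the image come vertically from the source. -/
theorem exists_vertical (hZ : IsFibGrpd 𝒵.p) (hX : IsFibGrpd 𝒳.p) (i : 𝒵 ⥤ᵇ 𝒳) {y : 𝒳.obj}
    (hy : image i y) : ∃ (z : 𝒵.obj) (e : i.obj z ≅ y), 𝒳.p.IsHomLift (𝟙 (𝒳.p.obj y)) e.hom := by
  obtain ⟨z, ⟨φ⟩⟩ := hy
  let g : 𝒳.p.obj y ⟶ 𝒵.p.obj z := 𝒳.p.map φ.inv ≫ eqToHom (i.w_obj z)
  obtain ⟨z', ψ, hψ⟩ := BasedBasic.exists_lift' hZ g (rfl : 𝒵.p.obj z = 𝒵.p.obj z)
  have h1 : 𝒳.p.IsHomLift g (i.map ψ) := BasedFunctor.preserves_isHomLift i g ψ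
  have h2 : 𝒳.p.IsHomLift (eqToHom (i.w_obj z).symm ≫ 𝒳.p.map φ.hom) φ.hom :=
    IsHomLift.of_fac' _ _ _ (i.w_obj z) rfl (by simp)
  have h3 : 𝒳.p.IsHomLift (g ≫ eqToHom (i.w_obj z).symm ≫ 𝒳.p.map φ.hom) (i.map ψ ≫ φ.hom) :=
    inferInstance
  have h4 : g ≫ eqToHom (i.w_obj z).symm ≫ 𝒳.p.map φ.hom = 𝟙 (𝒳.p.obj y) := by
    simp [g, ← Functor.map_comp]
  rw [h4] at h3
  have := BasedBasic.isIso_of_isHomLift_id hX (R := 𝒳.p.obj y) (i.map ψ ≫ φ.hom)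
  exact ⟨z', asIso (i.map ψ ≫ φ.hom), h3⟩

/-- A monomorphism is an equivalence onto its image. -/
theorem exists_equiv (hZ : IsFibGrpd 𝒵.p) (hX : IsFibGrpd 𝒳.p) {i : 𝒵 ⥤ᵇ 𝒳}
    (hi : AlgSt.IsMono i) :
    ∃ i' : 𝒵 ⥤ᵇ fullSub 𝒳 (image i), IsEquivOver i' ∧
      BasedFunctor.comp i' (subIncl 𝒳 (image i)) = i := by
  have := Mono.full_of_mono hZ hX hi
  have := Space.faithful_of_repByAlgSp1 hZ hX (fun U y => by
    obtain ⟨G, e, he, -⟩ := hi U y; exact ⟨G, e, he⟩)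
  let i' : 𝒵 ⥤ᵇ fullSub 𝒳 (image i) :=
    { toFunctor := ObjectProperty.lift _ i.toFunctor fun z => ⟨z, ⟨Iso.refl _⟩⟩
      w := i.w }
  have : i'.toFunctor.Full := ⟨fun {a b} m => by
    obtain ⟨k, hk⟩ := i.toFunctor.map_surjective m.hom
    exact ⟨k, (ObjectProperty.ι (image i)).map_injective hk⟩⟩
  have : i'.toFunctor.Faithful := ⟨fun {a b f g} h =>
    i.toFunctor.map_injective (congrArg (fun m => m.hom) h)⟩
  refine ⟨i', BasedBasic.isEquivOver_of i' fun η => ?_, rfl⟩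
  obtain ⟨z, e, he⟩ := exists_vertical hZ hX i η.property
  refine ⟨z, ObjectProperty.isoMk _ e, ?_⟩
  have : 𝒳.p.IsHomLift (𝟙 (𝒳.p.obj η.obj)) ((subIncl 𝒳 (image i)).map (ObjectProperty.isoMk _ e :
      i'.obj z ≅ η).hom) := he
  exact ((subIncl 𝒳 (image i)).isHomLift_iff _ _).1 this

/-- The image of an immersion is the unique substack through which it is an equivalence. -/
theorem exists_substack (h𝒵 : IsAlgStack Scheme.fppfPrecoverage 𝒵)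
    (h𝒳 : IsAlgStack Scheme.fppfPrecoverage 𝒳) (i : 𝒵 ⥤ᵇ 𝒳) (hi : AlgSt.IsImm i) :
    ∃ Q : 𝒳.obj → Prop,
      (AlgSt.IsLocClosedSubstack 𝒳 Q Scheme.fppfPrecoverage ∧
        (∃ i' : 𝒵 ⥤ᵇ fullSub 𝒳 Q, IsEquivOver i' ∧
          Nonempty (BasedFunctor.comp i' (subIncl 𝒳 Q) ≅ i)) ∧
        (AlgSt.IsClosedImm i → AlgSt.IsClosedSubstack 𝒳 Q Scheme.fppfPrecoverage) ∧
        (AlgSt.IsOpenImm i → AlgSt.IsOpenSubstack 𝒳 Q Scheme.fppfPrecoverage)) ∧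
      ∀ Q' : 𝒳.obj → Prop, AlgSt.IsLocClosedSubstack 𝒳 Q' Scheme.fppfPrecoverage →
        (∃ i' : 𝒵 ⥤ᵇ fullSub 𝒳 Q', IsEquivOver i' ∧
          Nonempty (BasedFunctor.comp i' (subIncl 𝒳 Q') ≅ i)) → Q' = Q := by
  have hm : AlgSt.IsMono i := Rep.repByAlgSpWith_mono hi fun F G a _ _ h =>
    Groth.Agent.Lib.AlgSpace.mono_of_repWith (P := @IsImmersion)
      (fun _ _ g hg => have := hg; (inferInstance : Mono g)) h
  obtain ⟨i', hi', hc⟩ := exists_equiv h𝒵.isStack.1 h𝒳.isStack.1 hm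
  have hiso := isClosedUnderIso i
  have halg := IsAlg.isAlgStack_of_isEquivOver hi' h𝒵
  have key : ∀ {P : MorphismProperty (Sp S)}, RepByAlgSpWith P i →
      RepByAlgSpWith P (subIncl 𝒳 (image i)) := fun hP =>
    (Rep.repByAlgSpWith_iff_of_isEquivOver (f := subIncl 𝒳 (image i)) (f' := i) hi'
      BasedBasic.isEquivOver_id (eqToIso hc.symm)).2 hP
  refine ⟨image i, ⟨⟨hiso, halg, key hi⟩, ⟨i', hi', ⟨eqToIso hc⟩⟩,
    fun h => ⟨hiso, halg, key h⟩, fun h => ⟨hiso, halg, key h⟩⟩, fun Q' hQ' ⟨j, hj, ⟨ε⟩⟩ => ?_⟩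
  funext y
  refine propext ⟨fun hy => ?_, fun ⟨z, ⟨φ⟩⟩ => ?_⟩
  · obtain ⟨z, e, -⟩ := BasedBasic.IsEquivOver.exists_iso hj ⟨y, hy⟩
    exact ⟨z, ⟨(BasedBasic.appIso ε z).symm ≪≫ (subIncl 𝒳 Q').toFunctor.mapIso e⟩⟩
  · exact hQ'.1.of_iso (BasedBasic.appIso ε z ≪≫ φ) (j.obj z).property

end Groth.Agent.Lib.AlgStack.ImageSub
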