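import Groth.Agent.Lib.AlgStack.StabilizerApps
import Groth.Agent.H14.Chart.OpenSub
import Groth.Agent.H14.Sep.SpProps2
import Groth.Agent.H14.Sep.Rep
import Groth.Agent.Lib.UnivThick.OpenCover

/-!
# Algebraic stacks covered by open substacks which are spaces or schemes
-/

set_option autoImplicit false
set_option backward.isDefEq.respectTransparency false
set_option backward.isDefEq.respectTransparency.types false

universe u w

open CategoryTheory CategoryTheory.Limits AlgebraicGeometry Opposite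

namespace Groth.Agent.Lib.AlgStack.OpenCoverSpaces

open BasedBasic Yoneda FibProd Rep Space
open Groth.Agent.H14.Chart Groth.Agent.H14.Sep
open FibCat (IsEquivOver IsFibGrpd fp fpFst overCat)
open AlgSt (ofSp ofSpMap ofOverCat toOverCat fullSub subIncl RepByAlgSp RepByAlgSpWith IsAlgStack IsOpenSubstack IsOpenImm)
open AlgSp (Sp yon IsAlgSpace RepWith)

variable {S : Scheme.{u}} {𝒳 : AlgSt.Cat S}

/-- An object over a field lies in one of the open substacks covering the stack. -/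
theorem exists_mem (h : IsFibGrpd 𝒳.p) {ι : Type w} (Q : ι → 𝒳.obj → Prop)
    (hQ : ∀ i, IsOpenSubstack 𝒳 (Q i) Scheme.fppfPrecoverage)
    (hcov : ⋃ i, Set.range (AlgSt.Points.map (subIncl 𝒳 (Q i))) = Set.univ)
    {K : Type u} [Field K] {s : Spec (CommRingCat.of K) ⟶ S} (x : 𝒳.obj)
    (hx : 𝒳.p.obj x = Over.mk s) : ∃ i, ∀ b : 𝒳.obj, (b ⟶ x) → Q i b := by
  let p : AlgSt.FPt 𝒳 := { K := K, str := s, obj := x, lies := hx }
  obtain ⟨i, hi⟩ := Set.mem_iUnion.1 (hcov.symm.subset (Set.mem_univ (AlgSt.Points.mk p)))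
  exact ⟨i, fun b φ => OpenSub.mem_of_rangeObj_subset h (hQ i).1 (hQ i).2.1.isStack.1 (hQ i).2.2
    ((OpenSub.rangeObj_subset h φ).trans ((OpenSub.rangeObj_fPt h p).subset.trans
      (Set.singleton_subset_iff.2 hi)))⟩

/-- An algebraic stack covered by open substacks which are algebraic spaces is an algebraic space. -/
theorem repByAlgSp_of_cover (h𝒳 : IsAlgStack Scheme.fppfPrecoverage 𝒳) {ι : Type w}
    (Q : ι → 𝒳.obj → Prop) (hQ : ∀ i, IsOpenSubstack 𝒳 (Q i) Scheme.fppfPrecoverage)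
    (hcov : ⋃ i, Set.range (AlgSt.Points.map (subIncl 𝒳 (Q i))) = Set.univ)
    (hsp : ∀ i, RepByAlgSp (fullSub 𝒳 (Q i))) : RepByAlgSp 𝒳 :=
  Stabilizer.repByAlgSp_of_trivial h𝒳 fun K _ _ s x hx b φ θ hθ => by
    obtain ⟨i, hi⟩ := exists_mem h𝒳.isStack.1 Q hQ hcov x hx
    let b' : (fullSub 𝒳 (Q i)).obj := ⟨b, hi b φ⟩
    have := Space.setoidal_of_repByAlgSp (hsp i) b' (ObjectProperty.homMk θ) hθ
    exact congrArg (fun k => k.hom) this

/-- An algebraic stack covered by open substacks which are schemes is a scheme. -/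
theorem isRepresentable_of_cover (h𝒳 : IsAlgStack Scheme.fppfPrecoverage 𝒳) {ι : Type w}
    (Q : ι → 𝒳.obj → Prop) (hQ : ∀ i, IsOpenSubstack 𝒳 (Q i) Scheme.fppfPrecoverage)
    (hcov : ⋃ i, Set.range (AlgSt.Points.map (subIncl 𝒳 (Q i))) = Set.univ)
    (hsch : ∀ i, FibCat.IsRepresentable (fullSub 𝒳 (Q i))) : FibCat.IsRepresentable 𝒳 := by
  have hr : RepByAlgSp 𝒳 := repByAlgSp_of_cover h𝒳 Q hQ hcov fun i => by
    obtain ⟨U, E, hE⟩ := hsch i
    exact repByAlgSp_of_equiv' hE (Diag.repByAlgSp_overCat U)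
  obtain ⟨F, e, he⟩ := hr
  obtain ⟨e', he', ⟨ε₀⟩, ⟨ε⟩⟩ := BasedBasic.IsEquivOver.exists_inverse he
  choose O E hE using hsch
  have hG : ∀ i, ∃ (G : overCat (O i) ⥤ᵇ fullSub 𝒳 (Q i)), IsEquivOver G ∧
      Nonempty (BasedFunctor.comp (E i) G ≅ BasedFunctor.id _) := fun i => by
    obtain ⟨G, hG, h1, h2⟩ := BasedBasic.IsEquivOver.exists_inverse (hE i)
    exact ⟨G, hG, by first | exact h1 | exact h2⟩
  choose G hG₁ hG₂ using hG
  let Φ (i : ι) : ofSp ((yon S).obj (O i)) ⥤ᵇ ofSp F.obj :=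
    BasedFunctor.comp (BasedFunctor.comp (toOverCat (O i)) (G i)) (BasedFunctor.comp (subIncl 𝒳 (Q i)) e')
  let f (i : ι) : (yon S).obj (O i) ⟶ F.obj := spHom (Φ i)
  have hΦ : ∀ i, IsEquivOver (BasedFunctor.comp (toOverCat (O i)) (G i)) := fun i =>
    BasedBasic.IsEquivOver.comp (isEquivOver_toOverCat _) (hG₁ i)
  have hf : ∀ i, RepWith @IsOpenImmersion (f i) := fun i => by
    refine H14.Sep.Rep.prop_of_ofSpMap
      (Space.respectsIsoSp_of_baseChange (SpProps2.stableBC_repWith @IsOpenImmersion))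
      (SpProps2.fromSchemes_repWith _) (IsAlgSpace.yon_obj _) F.property _ ?_
    refine Rep.repByAlgSpWith_of_iso (OfPsh.isoOfPshMap (Φ i)) ?_
    exact (repByAlgSpWith_iff_of_isEquivOver (f := subIncl 𝒳 (Q i)) (f' := Φ i) (hΦ i) he
      (BasedBasic.isoWhiskerLeft (BasedFunctor.comp (BasedFunctor.comp (toOverCat (O i)) (G i))
        (subIncl 𝒳 (Q i))) ε)).1 (hQ i).2.2
  have key : ∀ (T : Over S) (a : (yon S).obj T ⟶ F.obj) (t : ↥T.left),
      ∃ i, t ∈ Set.range ((hf i).1.snd a).left := fun T a t => by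
    let K : Type u := T.left.residueField t
    let s : Spec (CommRingCat.of K) ⟶ S := T.left.fromSpecResidueField t ≫ T.hom
    let κ : Over.mk s ⟶ T := Over.homMk (T.left.fromSpecResidueField t)
    let ξ : (ofSp F.obj).obj := ⟨Over.mk s, AlgSpace.secEquiv _ ((yon S).map κ ≫ a)⟩
    let y := e.obj ξ
    obtain ⟨i, hi⟩ := exists_mem h𝒳.isStack.1 Q hQ hcov y (e.w_obj ξ)
    let q : (fullSub 𝒳 (Q i)).obj := ⟨y, hi y (𝟙 y)⟩
    let ζ : (ofSp ((yon S).obj (O i))).obj := (ofOverCat (O i)).obj ((E i).obj q)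
    obtain ⟨εi⟩ := hG₂ i
    -- `Φ` sends `ζ` to an object isomorphic to `ξ`
    let j₁ : (G i).obj ((toOverCat (O i)).obj ζ) ≅ q :=
      (G i).toFunctor.mapIso (eqToIso rfl) ≪≫ appIso εi q
    have hq : (fullSub 𝒳 (Q i)).p.obj q = Over.mk s := e.w_obj ξ
    let j : (Φ i).obj ζ ≅ ξ :=
      e'.toFunctor.mapIso ((subIncl 𝒳 (Q i)).toFunctor.mapIso j₁) ≪≫ appIso ε₀ ξ
    have hζ : ζ.base = Over.mk s := ((E i).w_obj q).trans hq
    have hj : (ofSp F.obj).p.IsHomLift (𝟙 (Over.mk s)) j.hom := by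
      have h1 : (fullSub 𝒳 (Q i)).p.IsHomLift (𝟙 (Over.mk s)) j₁.hom := by
        have := appIso_isHomLift εi q
        rw [show (fullSub 𝒳 (Q i)).p.obj q = Over.mk s from hq] at this
        simpa [j₁] using this
      have h2 : 𝒳.p.IsHomLift (𝟙 (Over.mk s)) ((subIncl 𝒳 (Q i)).map j₁.hom) :=
        BasedFunctor.preserves_isHomLift _ _ _
      have h3 : (ofSp F.obj).p.IsHomLift (𝟙 (Over.mk s))
          (e'.map ((subIncl 𝒳 (Q i)).map j₁.hom)) :=
        BasedFunctor.preserves_isHomLift _ _ _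
      have h4 : (ofSp F.obj).p.IsHomLift (𝟙 (Over.mk s)) (appIso ε₀ ξ).hom := appIso_isHomLift ε₀ ξ
      have : (ofSp F.obj).p.IsHomLift (𝟙 (Over.mk s))
          (e'.map ((subIncl 𝒳 (Q i)).map j₁.hom) ≫ (appIso ε₀ ξ).hom) := inferInstance
      exact this
    let g : Over.mk s ⟶ O i := eqToHom hζ.symm ≫ ((E i).obj q).hom
    have hg : (yon S).map g ≫ f i = (yon S).map κ ≫ a := by
      apply (AlgSpace.secEquiv (Over.mk s)).injective
      have hm := j.hom.map_sec
      have hc : j.hom.hom = eqToHom (((Φ i).w_obj ζ).trans hζ) := by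
        have := IsHomLift.fac' (ofSp F.obj).p (𝟙 (Over.mk s)) j.hom
        change j.hom.hom = _ at this
        rw [this]; simp
      rw [hc] at hm
      let n : (⟨Over.mk s, ⟨g⟩⟩ : (ofSp ((yon S).obj (O i))).obj) ⟶ ζ :=
        ⟨eqToHom hζ.symm, congrArg ULift.up rfl⟩
      rw [AlgSpace.secEquiv_comp]
      change OfPsh.secOf (Φ i) ⟨_, _⟩ = ξ.sec
      refine (OfPsh.map_secOf (Φ i) n).symm.trans ?_
      rw [OfPsh.secOf, ← hm, ← Functor.map_comp_apply, ← Functor.map_comp_apply, ← op_comp, ← op_comp]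
      simp [n]
      exact congrArg (fun k => k ξ.sec) (F.obj.obj.map_id _)
    obtain ⟨l, hl⟩ := (yon S).map_surjective (((hf i).1.isPullback' a).lift ((yon S).map g) ((yon S).map κ) hg)
    refine ⟨i, l.left (IsLocalRing.closedPoint K), ?_⟩
    have hlk : l ≫ (hf i).1.snd a = κ := (yon S).map_injective (by
      rw [Functor.map_comp, hl]; exact IsPullback.lift_snd _ _ _ _)
    rw [← Scheme.Hom.comp_apply, ← Over.comp_left, hlk]
    exact Scheme.fromSpecResidueField_apply t _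
  obtain ⟨U₀, a₀, -, hs₀⟩ := F.property.atlas
  choose σ hσ using fun t : ↥U₀.left => key U₀ a₀ t
  have key' : ∀ (T : Over S) (a : (yon S).obj T ⟶ F.obj) (t : ↥T.left),
      ∃ t₀, t ∈ Set.range ((hf (σ t₀)).1.snd a).left := fun T a t => by
    have iff' : ∀ (i : ι) (T : Over S) (a : (yon S).obj T ⟶ F.obj) (t : ↥T.left),
        t ∈ Set.range ((hf i).1.snd a).left ↔
          AlgSp.Points.ofPt a t ∈ Set.range (AlgSp.Points.map (f i)) := fun i T a t => by
      have h := AlgSpace.preimage_image_map ((hf i).1.isPullback' a) Set.univ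
      rw [Set.image_univ, Set.preimage_univ, Set.image_univ] at h
      exact (Set.ext_iff.1 h t).symm
    obtain ⟨t₀, ht₀⟩ := AlgSpace.surjective_ofPt hs₀ (AlgSp.Points.ofPt a t)
    exact ⟨t₀, (iff' _ T a t).2 (ht₀ ▸ (iff' _ U₀ a₀ t₀).1 (hσ t₀))⟩
  obtain ⟨Z, φ, -, hφ, -, -, -⟩ := UnivThick.OpenCover.exists_scheme_iso
    (fun t₀ => hf (σ t₀)) key'
  exact ⟨Z, BasedFunctor.comp e' (BasedFunctor.comp (ofSpMap (inv φ)) (toOverCat Z)),
    BasedBasic.IsEquivOver.comp he' (BasedBasic.IsEquivOver.comp (isEquivOver_ofSpMap (inv φ))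
      (isEquivOver_toOverCat Z))⟩

end Groth.Agent.Lib.AlgStack.OpenCoverSpaces
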