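import Groth.Agent.H14.Sep.Main4
import Groth.Agent.H14.Chart.UnivTop
import Groth.Agent.H14.Chart.LocQ4
import Groth.Agent.H14.Chart.SmLocal

/-!
# Separatedness descends along universally injective fppf morphisms with universally closed diagonal
-/

set_option autoImplicit false
set_option backward.isDefEq.respectTransparency false
set_option backward.isDefEq.respectTransparency.types false

universe u

open CategoryTheory CategoryTheory.Limits AlgebraicGeometry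

namespace Groth.Agent.Lib.AlgStack.SepDescend

open Groth.Agent.Lib.AlgStack
open Groth.Agent.H14.Sep Groth.Agent.H14.Chart
open FibCat (IsEquivOver fp fpFst fpSnd fpLift fpIso diag IsFibGrpd)
open AlgSt (RepByAlgSpWith IsAlgStack IsUnivClosed)

variable {S : Scheme.{u}} {𝒳 𝒴 𝒵 : AlgSt.Cat S}

/-! ### Universally closed functors -/

/-- A closed map after a continuous surjection. -/
theorem isClosedMap_of_comp {A B C : Type*} [TopologicalSpace A] [TopologicalSpace B]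
    [TopologicalSpace C] {p : A → B} {q : B → C} {r : A → C} (hp : Continuous p)
    (hs : Function.Surjective p) (e : ∀ a, q (p a) = r a) (hr : IsClosedMap r) : IsClosedMap q :=
  fun c hc => by
    have : q '' c = r '' (p ⁻¹' c) := by
      rw [← funext e, ← Function.comp_def q p, Set.image_comp, Set.image_preimage_eq _ hs]
    rw [this]
    exact hr _ (hc.preimage hp)

theorem uc_of_comp_surjective (h𝒳 : IsAlgStack Scheme.fppfPrecoverage 𝒳)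
    (h𝒴 : IsAlgStack Scheme.fppfPrecoverage 𝒴) (h𝒵 : IsAlgStack Scheme.fppfPrecoverage 𝒵)
    {e : 𝒳 ⥤ᵇ 𝒴} {θ : 𝒴 ⥤ᵇ 𝒵} (he : AlgSt.IsSurjective e)
    (h : IsUnivClosed Scheme.fppfPrecoverage (BasedFunctor.comp e θ)) :
    IsUnivClosed Scheme.fppfPrecoverage θ := by
  intro 𝒲 h𝒲 z
  let E : fp (fpSnd z θ) e ⥤ᵇ fp z (BasedFunctor.comp e θ) := Lib.AlgStack.Rep.pasteComp z θ e
  have hA := Basic.isAlgStack_fp h𝒵 h𝒲 h𝒴 z θ
  have hB := Basic.isAlgStack_fp h𝒴 hA h𝒳 (fpSnd z θ) e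
  have hE := UnivTop.isHomeomorph_map_of_isEquivOver hB
    (Basic.isAlgStack_fp h𝒵 h𝒲 h𝒳 z (BasedFunctor.comp e θ))
    (Lib.AlgStack.Rep.isEquivOver_pasteComp z θ e)
  refine isClosedMap_of_comp (Basic.continuous_map hA (fpFst (fpSnd z θ) e))
    (Basic.surjective_fpFst h𝒳.isStack.1 h𝒴.isStack.1 hA.isStack.1 (fpSnd z θ) he) (fun a => ?_)
    ((h 𝒲 h𝒲 z).comp hE.isClosedMap)
  show _ = AlgSt.Points.map (fpFst z (BasedFunctor.comp e θ)) (AlgSt.Points.map E a)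
  rw [← Basic.map_comp, ← Basic.map_comp]
  rfl

theorem uc_of_iso (h𝒳 : IsAlgStack Scheme.fppfPrecoverage 𝒳)
    (h𝒴 : IsAlgStack Scheme.fppfPrecoverage 𝒴) {f f' : 𝒳 ⥤ᵇ 𝒴} (e : f ≅ f')
    (h : IsUnivClosed Scheme.fppfPrecoverage f) : IsUnivClosed Scheme.fppfPrecoverage f' := by
  intro 𝒲 h𝒲 z
  have hA := Basic.isAlgStack_fp h𝒴 h𝒲 h𝒳 z f
  have hE := UnivTop.isHomeomorph_map_of_isEquivOver (Basic.isAlgStack_fp h𝒴 h𝒲 h𝒳 z f')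
    hA (FibProd.isEquivOver_congrRight z e.symm)
  have e1 : AlgSt.Points.map (fpFst z f') =
      AlgSt.Points.map (fpFst z f) ∘ AlgSt.Points.map (FibProd.congrRight z e.symm) :=
    funext fun a => by rw [Function.comp_apply, ← Basic.map_comp, FibProd.congrRight_fst]
  rw [e1]
  exact (h 𝒲 h𝒲 z).comp hE.isClosedMap

theorem uc_comp (h𝒳 : IsAlgStack Scheme.fppfPrecoverage 𝒳)
    (h𝒴 : IsAlgStack Scheme.fppfPrecoverage 𝒴) (h𝒵 : IsAlgStack Scheme.fppfPrecoverage 𝒵)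
    {f : 𝒳 ⥤ᵇ 𝒴} {g : 𝒴 ⥤ᵇ 𝒵} (hf : IsUnivClosed Scheme.fppfPrecoverage f)
    (hg : IsUnivClosed Scheme.fppfPrecoverage g) :
    IsUnivClosed Scheme.fppfPrecoverage (BasedFunctor.comp f g) := by
  intro 𝒲 h𝒲 z
  have hA := Basic.isAlgStack_fp h𝒵 h𝒲 h𝒴 z g
  have hE := UnivTop.isHomeomorph_map_of_isEquivOver (Basic.isAlgStack_fp h𝒴 hA h𝒳 (fpSnd z g) f)
    (Basic.isAlgStack_fp h𝒵 h𝒲 h𝒳 z (BasedFunctor.comp f g))
    (Lib.AlgStack.Rep.isEquivOver_pasteComp z g f)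
  refine isClosedMap_of_comp hE.continuous hE.surjective (fun a => ?_)
    ((hg 𝒲 h𝒲 z).comp (hf _ hA (fpSnd z g)))
  rw [Function.comp_apply, ← Basic.map_comp, ← Basic.map_comp]
  rfl

theorem uc_fpFst {𝒲 : AlgSt.Cat S} (h𝒳 : IsAlgStack Scheme.fppfPrecoverage 𝒳)
    (h𝒴 : IsAlgStack Scheme.fppfPrecoverage 𝒴) (h𝒲 : IsAlgStack Scheme.fppfPrecoverage 𝒲)
    {f : 𝒳 ⥤ᵇ 𝒴} (hf : IsUnivClosed Scheme.fppfPrecoverage f) (g : 𝒲 ⥤ᵇ 𝒴) :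
    IsUnivClosed Scheme.fppfPrecoverage (fpFst g f) := by
  intro 𝒱 h𝒱 z
  have hE := UnivTop.isHomeomorph_map_of_isEquivOver
    (Basic.isAlgStack_fp h𝒲 h𝒱 (Basic.isAlgStack_fp h𝒴 h𝒲 h𝒳 g f) z (fpFst g f))
    (Basic.isAlgStack_fp h𝒴 h𝒱 h𝒳 (BasedFunctor.comp z g) f)
    (Lib.AlgStack.Rep.isEquivOver_pasteBase z g f)
  have e1 : AlgSt.Points.map (fpFst z (fpFst g f)) =
      AlgSt.Points.map (fpFst (BasedFunctor.comp z g) f) ∘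
        AlgSt.Points.map (Lib.AlgStack.Rep.pasteBase z g f) :=
    funext fun a => by rw [Function.comp_apply, ← Basic.map_comp, Lib.AlgStack.Rep.pasteBase_fst]
  rw [e1]
  exact (hf 𝒱 h𝒱 _).comp hE.isClosedMap

theorem uc_fpSnd {𝒲 : AlgSt.Cat S} (h𝒳 : IsAlgStack Scheme.fppfPrecoverage 𝒳)
    (h𝒴 : IsAlgStack Scheme.fppfPrecoverage 𝒴) (h𝒲 : IsAlgStack Scheme.fppfPrecoverage 𝒲)
    {f : 𝒳 ⥤ᵇ 𝒴} (hf : IsUnivClosed Scheme.fppfPrecoverage f) (g : 𝒲 ⥤ᵇ 𝒴) :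
    IsUnivClosed Scheme.fppfPrecoverage (fpSnd f g) :=
  uc_of_comp_surjective (Basic.isAlgStack_fp h𝒴 h𝒲 h𝒳 g f) (Basic.isAlgStack_fp h𝒴 h𝒳 h𝒲 f g) h𝒲
    (e := FibProd.swap g f) (Basic.surjective_map_of_isEquivOver (FibProd.isEquivOver_swap g f))
    (uc_fpFst h𝒳 h𝒴 h𝒲 hf g)

theorem uc_id (h𝒳 : IsAlgStack Scheme.fppfPrecoverage 𝒳) :
    IsUnivClosed Scheme.fppfPrecoverage (BasedFunctor.id 𝒳) := by
  intro 𝒲 h𝒲 z
  have hE : IsEquivOver (fpFst z (BasedFunctor.id 𝒳)) :=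
    BasedBasic.IsEquivOver.comp (FibProd.isEquivOver_swap z (BasedFunctor.id 𝒳))
      (Main.isEquivOver_fpSnd_id z)
  exact (UnivTop.isHomeomorph_map_of_isEquivOver (Basic.isAlgStack_fp h𝒳 h𝒲 h𝒳 z _) h𝒲 hE).isClosedMap

theorem uc_equiv (h𝒳 : IsAlgStack Scheme.fppfPrecoverage 𝒳)
    (h𝒴 : IsAlgStack Scheme.fppfPrecoverage 𝒴) {E : 𝒳 ⥤ᵇ 𝒴} (hE : IsEquivOver E) :
    IsUnivClosed Scheme.fppfPrecoverage E := by
  obtain ⟨i, hi, -, ⟨ε⟩⟩ := BasedBasic.IsEquivOver.exists_inverse hE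
  exact uc_of_comp_surjective h𝒴 h𝒳 h𝒴 (Basic.surjective_map_of_isEquivOver hi)
    (uc_of_iso h𝒴 h𝒴 ε.symm (uc_id h𝒴))

/-- An fppf universally injective surjection is universally closed. -/
theorem uc_of_fppf (h𝒳 : IsAlgStack Scheme.fppfPrecoverage 𝒳)
    (h𝒴 : IsAlgStack Scheme.fppfPrecoverage 𝒴) {f : 𝒳 ⥤ᵇ 𝒴} (hs : AlgSt.IsSurjective f)
    (h₁ : AlgSt.LocQ (AlgSp.LocP @Flat) f)
    (h₂ : AlgSt.LocQ (AlgSp.LocP @LocallyOfFinitePresentation) f)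
    (hi : AlgSt.IsUnivInjective Scheme.fppfPrecoverage f) :
    IsUnivClosed Scheme.fppfPrecoverage f := by
  intro 𝒲 h𝒲 z
  have hA := Basic.isAlgStack_fp h𝒴 h𝒲 h𝒳 z f
  have ho : IsOpenMap (AlgSt.Points.map (fpFst z f)) :=
    LocQ.isOpenMor_of_flat_lfp hA h𝒲
      (LocQ.locQ_fpFst SmLocal.isSmoothLocalST_flat
        (SpProps.stableBC_locP Lib.SourceDescent.Scheme.flat) h𝒳 h𝒴 h𝒲 z h₁)
      (LocQ.locQ_fpFst SmLocal.isSmoothLocalST_lfp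
        (SpProps.stableBC_locP Lib.SourceDescent.Scheme.locallyOfFinitePresentation) h𝒳 h𝒴 h𝒲 z h₂)
  exact IsHomeomorph.isClosedMap ⟨Basic.continuous_map h𝒲 _, ho,
    hi 𝒲 h𝒲 z, Basic.surjective_fpFst h𝒳.isStack.1 h𝒴.isStack.1 h𝒲.isStack.1 z hs⟩

/-! ### The square of a functor -/

/-- Change of the first factor. -/
def left (f : 𝒳 ⥤ᵇ 𝒴) (g : 𝒴 ⥤ᵇ 𝒵) {𝒲 : AlgSt.Cat S} (h : 𝒲 ⥤ᵇ 𝒵) :
    fp (BasedFunctor.comp f g) h ⥤ᵇ fp g h :=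
  fpLift (BasedFunctor.comp (fpFst (BasedFunctor.comp f g) h) f) (fpSnd (BasedFunctor.comp f g) h)
    (fpIso (BasedFunctor.comp f g) h)

def leftIso (f : 𝒳 ⥤ᵇ 𝒴) (g : 𝒴 ⥤ᵇ 𝒵) {𝒲 : AlgSt.Cat S} (h : 𝒲 ⥤ᵇ 𝒵) :
    BasedFunctor.comp (Lib.AlgStack.Rep.pasteBase f g h) (left f g h) ≅ fpSnd f (fpFst g h) :=
  Lib.Fibred.Slice.fpIsoMk (fpIso f (fpFst g h))
    (Iso.refl (BasedFunctor.comp (fpSnd f (fpFst g h)) (fpSnd g h))) fun a => by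
    change g.map a.obj.iso.hom ≫ a.obj.snd.obj.iso.hom =
      (g.map a.obj.iso.hom ≫ a.obj.snd.obj.iso.hom) ≫ h.map (𝟙 _)
    rw [h.toFunctor.map_id]
    exact (Category.comp_id _).symm

/-- Change of the second factor. -/
def right (f : 𝒳 ⥤ᵇ 𝒴) (g : 𝒴 ⥤ᵇ 𝒵) {𝒲 : AlgSt.Cat S} (h : 𝒲 ⥤ᵇ 𝒵) :
    fp h (BasedFunctor.comp f g) ⥤ᵇ fp h g :=
  fpLift (fpFst h (BasedFunctor.comp f g)) (BasedFunctor.comp (fpSnd h (BasedFunctor.comp f g)) f)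
    (fpIso h (BasedFunctor.comp f g))

def rightIso (f : 𝒳 ⥤ᵇ 𝒴) (g : 𝒴 ⥤ᵇ 𝒵) {𝒲 : AlgSt.Cat S} (h : 𝒲 ⥤ᵇ 𝒵) :
    BasedFunctor.comp (Lib.AlgStack.Rep.pasteComp h g f) (right f g h) ≅ fpFst (fpSnd h g) f :=
  Lib.Fibred.Slice.fpIsoMk (Iso.refl (BasedFunctor.comp (fpFst (fpSnd h g) f) (fpFst h g)))
    (fpIso (fpSnd h g) f).symm fun a => by
    change h.map (𝟙 _) ≫ a.obj.fst.obj.iso.hom =
      (a.obj.fst.obj.iso.hom ≫ g.map a.obj.iso.hom) ≫ g.map a.obj.iso.inv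
    have e1 : g.map a.obj.iso.hom ≫ g.map a.obj.iso.inv = 𝟙 _ :=
      ((g.toFunctor.map_comp _ _).symm.trans (congrArg g.map a.obj.iso.hom_inv_id)).trans
        (g.toFunctor.map_id _)
    rw [h.toFunctor.map_id, Category.assoc]
    erw [e1, Category.comp_id]
    exact Category.id_comp _

/-- The square `𝒳 ×_𝒵 𝒳 ⟶ 𝒴 ×_𝒵 𝒴`. -/
def square (f : 𝒳 ⥤ᵇ 𝒴) (g : 𝒴 ⥤ᵇ 𝒵) :
    fp (BasedFunctor.comp f g) (BasedFunctor.comp f g) ⥤ᵇ fp g g :=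
  BasedFunctor.comp (left f g (BasedFunctor.comp f g)) (right f g g)

def squareIso (f : 𝒳 ⥤ᵇ 𝒴) (g : 𝒴 ⥤ᵇ 𝒵) :
    BasedFunctor.comp (diag (BasedFunctor.comp f g)) (square f g) ≅ BasedFunctor.comp f (diag g) :=
  Lib.Fibred.Slice.fpIsoMk (Iso.refl f) (Iso.refl f) fun a => by
    change g.map (𝟙 (f.obj a)) ≫ 𝟙 _ = 𝟙 _ ≫ g.map (𝟙 (f.obj a))
    rw [g.toFunctor.map_id]

theorem uc_square (h𝒳 : IsAlgStack Scheme.fppfPrecoverage 𝒳)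
    (h𝒴 : IsAlgStack Scheme.fppfPrecoverage 𝒴) (h𝒵 : IsAlgStack Scheme.fppfPrecoverage 𝒵)
    {f : 𝒳 ⥤ᵇ 𝒴} (hf : IsUnivClosed Scheme.fppfPrecoverage f) (g : 𝒴 ⥤ᵇ 𝒵) :
    IsUnivClosed Scheme.fppfPrecoverage (square f g) := by
  let h := BasedFunctor.comp f g
  have hYX := Basic.isAlgStack_fp h𝒵 h𝒴 h𝒳 g h
  have hYY := Basic.isAlgStack_fp h𝒵 h𝒴 h𝒴 g g
  refine uc_comp (Basic.isAlgStack_fp h𝒵 h𝒳 h𝒳 h h) hYX hYY ?_ ?_
  · exact uc_of_comp_surjective (Basic.isAlgStack_fp h𝒴 h𝒳 hYX f (fpFst g h))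
      (Basic.isAlgStack_fp h𝒵 h𝒳 h𝒳 h h) hYX
      (Basic.surjective_map_of_isEquivOver (Lib.AlgStack.Rep.isEquivOver_pasteBase f g h))
      (uc_of_iso (Basic.isAlgStack_fp h𝒴 h𝒳 hYX f (fpFst g h)) hYX (leftIso f g h).symm
        (uc_fpSnd h𝒳 h𝒴 hYX hf (fpFst g h)))
  · exact uc_of_comp_surjective (Basic.isAlgStack_fp h𝒴 hYY h𝒳 (fpSnd g g) f) hYX hYY
      (Basic.surjective_map_of_isEquivOver (Lib.AlgStack.Rep.isEquivOver_pasteComp g g f))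
      (uc_of_iso (Basic.isAlgStack_fp h𝒴 hYY h𝒳 (fpSnd g g) f) hYY (rightIso f g g).symm
        (uc_fpFst h𝒳 h𝒴 hYY hf (fpSnd g g)))

theorem good_univClosed : Main.Good (AlgSp.IsUnivClosedMor (S := S)) :=
  ⟨SpProps.stableBC_univSp _, SpProps.fromSchemes_univClosed, SpProps.compTo_univClosed⟩

theorem diag_square (h𝒳 : IsAlgStack Scheme.fppfPrecoverage 𝒳)
    (h𝒴 : IsAlgStack Scheme.fppfPrecoverage 𝒴) (h𝒵 : IsAlgStack Scheme.fppfPrecoverage 𝒵)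
    {f : 𝒳 ⥤ᵇ 𝒴} (hf : RepByAlgSpWith AlgSp.IsUnivClosedMor (diag f)) (g : 𝒴 ⥤ᵇ 𝒵) :
    RepByAlgSpWith AlgSp.IsUnivClosedMor (diag (square f g)) := by
  let h := BasedFunctor.comp f g
  have hYX := Basic.isAlgStack_fp h𝒵 h𝒴 h𝒳 g h
  refine good_univClosed.diagComp (Basic.isAlgStack_fp h𝒵 h𝒳 h𝒳 h h).isStack.1 hYX.isStack.1 ?_ ?_
  · refine (Rep.diag_iff_of_isEquivOver (f := left f g h) (f' := fpSnd f (fpFst g h))
      (Lib.AlgStack.Rep.isEquivOver_pasteBase f g h) BasedBasic.isEquivOver_id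
      (leftIso f g h).symm).2 ?_
    exact (Rep.diag_iff_of_isEquivOver (f := fpSnd f (fpFst g h)) (f' := fpFst (fpFst g h) f)
      (FibProd.isEquivOver_swap (fpFst g h) f) BasedBasic.isEquivOver_id (Iso.refl _)).2
      (Rep.diag_fpFst _ hf)
  · exact (Rep.diag_iff_of_isEquivOver (f := right f g g) (f' := fpFst (fpSnd g g) f)
      (Lib.AlgStack.Rep.isEquivOver_pasteComp g g f) BasedBasic.isEquivOver_id
      (rightIso f g g).symm).2 (Rep.diag_fpFst _ hf)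

/-- Separatedness descends. -/
theorem isSeparatedMor (h𝒳 : IsAlgStack Scheme.fppfPrecoverage 𝒳)
    (h𝒴 : IsAlgStack Scheme.fppfPrecoverage 𝒴) (h𝒵 : IsAlgStack Scheme.fppfPrecoverage 𝒵)
    {f : 𝒳 ⥤ᵇ 𝒴} {g : 𝒴 ⥤ᵇ 𝒵} (hs : AlgSt.IsSurjective f)
    (h₁ : AlgSt.LocQ (AlgSp.LocP @Flat) f)
    (h₂ : AlgSt.LocQ (AlgSp.LocP @LocallyOfFinitePresentation) f)
    (hi : AlgSt.IsUnivInjective Scheme.fppfPrecoverage f)
    (hd : RepByAlgSpWith AlgSp.IsUnivClosedMor (diag f))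
    (hh : AlgSt.IsSeparatedMor (BasedFunctor.comp f g)) : AlgSt.IsSeparatedMor g := by
  let h := BasedFunctor.comp f g
  have hf := uc_of_fppf h𝒳 h𝒴 hs h₁ h₂ hi
  have hXX := Basic.isAlgStack_fp h𝒵 h𝒳 h𝒳 h h
  have hYY := Basic.isAlgStack_fp h𝒵 h𝒴 h𝒴 g g
  have toUC : ∀ {𝒜 ℬ : AlgSt.Cat S}, IsAlgStack Scheme.fppfPrecoverage 𝒜 →
      IsAlgStack Scheme.fppfPrecoverage ℬ → ∀ {φ : 𝒜 ⥤ᵇ ℬ},
      RepByAlgSpWith AlgSp.IsUnivClosedMor φ → IsUnivClosed Scheme.fppfPrecoverage φ :=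
    fun {𝒜 ℬ} hA hB {φ} hφ => (UnivTop.univ_iff UnivTop.homeoInv_isClosedMap
      Lib.AlgSpMor.Topo.cartLocal_isClosedMap hA hB φ
      (Lib.AlgStack.Rep.repByAlgSp1_of_repByAlgSpWith hφ)).1 hφ
  refine Main4.isSeparatedMor_of_diag_diag h𝒴 h𝒵 g ?_ ?_
  · refine (UnivTop.univ_iff UnivTop.homeoInv_isClosedMap Lib.AlgSpMor.Topo.cartLocal_isClosedMap
      h𝒴 hYY (diag g) (Main2.rep1_diag' h𝒴 h𝒵 g)).2 ?_
    exact uc_of_comp_surjective h𝒳 h𝒴 hYY hs (uc_of_iso h𝒳 hYY (squareIso f g)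
      (uc_comp h𝒳 hXX hYY
        (toUC h𝒳 hXX (Lib.AlgStack.Rep.repByAlgSpWith_mono hh fun _ _ _ _ _ p => p.2.2))
        (uc_square h𝒳 h𝒴 h𝒵 hf g)))
  · refine (UnivTop.univ_iff UnivTop.homeoInv_isClosedMap Lib.AlgSpMor.Topo.cartLocal_isClosedMap
      h𝒴 (Basic.isAlgStack_fp hYY h𝒴 h𝒴 (diag g) (diag g)) (diag (diag g))
      (Main2.rep1_diag' h𝒴 hYY (diag g))).2 ?_
    let d := diag h
    let ff := square f g
    let d' := BasedFunctor.comp d ff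
    let k := BasedFunctor.comp f (diag g)
    let α : d' ≅ k := squareIso f g
    have hdd := Basic.isAlgStack_fp hXX h𝒳 h𝒳 d d
    have hdd' := Basic.isAlgStack_fp hYY h𝒳 h𝒳 d' d'
    have hkk := Basic.isAlgStack_fp hYY h𝒳 h𝒳 k k
    have hgg := Basic.isAlgStack_fp hYY h𝒴 h𝒴 (diag g) (diag g)
    have := Rep.full_id (fp g g)
    have := Rep.faithful_id (fp g g)
    let E := FibProd.fpMap (BasedFunctor.id 𝒳) (BasedFunctor.id 𝒳) (BasedFunctor.id (fp g g))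
      (F := k) (G := k) (F' := d') (G' := d') α.symm α.symm
    have hE : IsEquivOver E := FibProd.isEquivOver_fpMap (BasedFunctor.id 𝒳) (BasedFunctor.id 𝒳)
      (BasedFunctor.id (fp g g)) (F := k) (G := k) (F' := d') (G' := d') α.symm α.symm
      BasedBasic.isEquivOver_id BasedBasic.isEquivOver_id
    let J := BasedFunctor.comp (DiagCat.cmp d d ff) (BasedFunctor.comp E (square f (diag g)))
    have hJ : IsUnivClosed Scheme.fppfPrecoverage J := by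
      refine uc_comp hdd hdd' hgg (toUC hdd hdd' (Rep.cmp_of_diag d d (diag_square h𝒳 h𝒴 h𝒵 hd g))) ?_
      exact uc_comp hdd' hkk hgg (uc_equiv hdd' hkk hE) (uc_square h𝒳 h𝒴 hYY hf (diag g))
    have hddd : IsUnivClosed Scheme.fppfPrecoverage (diag d) :=
      toUC h𝒳 hdd (Lib.AlgStack.Rep.repByAlgSpWith_mono
        (Main2.diag_proper_of_sep (Lib.AlgStack.Rep.repByAlgSpWith_mono hh fun _ _ _ _ _ p => p.1))
        fun _ _ _ _ _ p => p.2.2)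
    refine uc_of_comp_surjective h𝒳 h𝒴 hgg hs (uc_of_iso h𝒳 hgg ?_ (uc_comp h𝒳 hdd hgg hddd hJ))
    exact Lib.Fibred.Slice.fpIsoMk (Iso.refl f) (Iso.refl f) fun a => by
      show (diag g).map (𝟙 (f.obj a)) ≫ 𝟙 _ =
        ((BasedBasic.appIso α a).inv ≫ ff.map (𝟙 _) ≫ (BasedBasic.appIso α a).hom) ≫
          (diag g).map (𝟙 (f.obj a))
      erw [ff.toFunctor.map_id, (diag g).toFunctor.map_id, Category.id_comp]
      simp
      exact ((congrArg (· ≫ _) (show (BasedBasic.appIso α a).inv = 𝟙 ((diag g).obj (f.obj a)) from rfl)).trans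
        ((Category.id_comp _).trans (Category.id_comp _))).symm

end Groth.Agent.Lib.AlgStack.SepDescend
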