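import Groth.Agent.Lib.AlgStack.EtaleBoot
import Groth.Agent.Lib.AlgSpMor.QuasiAffineDescent
import Groth.Agent.Lib.AlgSpace.DescendRep

/-!
# A setoidal fppf stack over a scheme is a scheme if it is quasi-affine after an fppf cover
-/

set_option autoImplicit false
set_option backward.isDefEq.respectTransparency false
set_option backward.isDefEq.respectTransparency.types false

universe u

open CategoryTheory CategoryTheory.Limits AlgebraicGeometry Opposite

namespace Groth.Agent.Lib.AlgStack.SetoidDescent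

open BasedBasic Yoneda FibProd Rep Space OfPsh
open FibCat (IsEquivOver IsFibGrpd fp fpFst overCat)
open AlgSt (ofSp ofSch ofSpMap ofOverCat toOverCat overMap)
open AlgSp (Sp yon)
open AlgSpace

variable {S : Scheme.{u}}

/-- A setoidal stack over `T` which becomes a quasi-affine scheme over an fppf cover of `T` is a scheme. -/
theorem exists_rep_of_cover {𝒵 : AlgSt.Cat S} (h : Stk.IsStack (AlgSp.J S) 𝒵) (hs : Setoidal 𝒵)
    {T T' Z : Over S} (c : T' ⟶ T) (hc : fppfCover c.left) (f : 𝒵 ⥤ᵇ overCat T) (g : Z ⟶ T')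
    (hg : Mor2.IsQuasiAffine g.left) (e : overCat Z ⥤ᵇ fp (overMap c) f) (he : IsEquivOver e)
    (hfst : Nonempty (BasedFunctor.comp e (fpFst (overMap c) f) ≅ overMap g)) :
    ∃ (W : Over S) (w : W ⟶ T) (k : Z ⟶ W) (eW : overCat W ⥤ᵇ 𝒵), IsEquivOver eW ∧
      Nonempty (BasedFunctor.comp eW f ≅ overMap w) ∧ IsPullback k g w c := by
  obtain ⟨θ⟩ := hfst
  have hE := isEquivOver_toIsoPsh h.1 hs
  let F₀ : AlgSp.PSp S := isoPsh h.1
  have hF : Presheaf.IsSheaf (AlgSp.J S) F₀ := (isSheaf_iff_isSheaf_of_type _ _).2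
    ((StkBasic.isStack_ofPsh_iff _ _).1 (StkBasic.isStack_of_isEquivOver hE h))
  let F : Sp S := ⟨F₀, hF⟩
  obtain ⟨e', he', -, -⟩ := BasedBasic.IsEquivOver.exists_inverse hE
  let β : F₀ ⟶ ((yon S).obj T).obj :=
    pshMap (BasedFunctor.comp (BasedFunctor.comp e' f) (ofOverCat T))
  let β' : F ⟶ (yon S).obj T := ObjectProperty.homMk β
  have := BasedBasic.IsEquivOver.full (isEquivOver_toOverCat T)
  have := BasedBasic.IsEquivOver.faithful (isEquivOver_toOverCat T)
  let h1 := fpMap (toOverCat T') e' (toOverCat T)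
    (F := overMap c) (G := f) (F' := ofSpMap ((yon S).map c)) (G' := Stk.ofPshMap β)
    (eqToIso rfl)
    (BasedBasic.isoWhiskerRight
      (isoOfPshMap (BasedFunctor.comp (BasedFunctor.comp e' f) (ofOverCat T))) (toOverCat T))
  have hh1 : IsEquivOver h1 := isEquivOver_fpMap _ _ _ _ _ (isEquivOver_toOverCat T') he'
  have sq := IsPullback.of_hasPullback ((yon S).map c).hom β
  let h2 := BasedFunctor.comp (sqLift sq.w) h1
  have hh2 : IsEquivOver h2 := BasedBasic.IsEquivOver.comp (isEquivOver_sqLift sq) hh1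
  obtain ⟨G, hG, -, ⟨ε⟩⟩ := BasedBasic.IsEquivOver.exists_inverse he
  let Φ := BasedFunctor.comp (BasedFunctor.comp h2 G) (ofOverCat Z)
  have hΦ : IsEquivOver Φ := BasedBasic.IsEquivOver.comp (BasedBasic.IsEquivOver.comp hh2 hG)
    (isEquivOver_ofOverCat Z)
  have hiso := isIso_pshMap hΦ
  have hfst : pshMap Φ ≫ ((yon S).map g).hom = pullback.fst ((yon S).map c).hom β := by
    let i : BasedFunctor.comp Φ (ofSpMap ((yon S).map g)) ≅
        Stk.ofPshMap (pullback.fst ((yon S).map c).hom β) :=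
      eqToIso rfl ≪≫
      BasedBasic.isoWhiskerRight (BasedBasic.isoWhiskerLeft (BasedFunctor.comp h2 G) θ.symm) (ofOverCat T') ≪≫
      BasedBasic.isoWhiskerRight (BasedBasic.isoWhiskerLeft h2
        (BasedBasic.isoWhiskerRight ε (fpFst (overMap c) f))) (ofOverCat T') ≪≫ eqToIso rfl
    have := pshMap_eq_of_iso i
    rwa [pshMap_comp, pshMap_ofPshMap, pshMap_ofPshMap] at this
  let i := @asIso _ _ _ _ (pshMap Φ) hiso
  have sqP : IsPullback (i.inv ≫ pullback.snd ((yon S).map c).hom β) ((yon S).map g).hom β'.hom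
      ((yon S).map c).hom :=
    sq.flip.of_iso i (Iso.refl _) (Iso.refl _) (Iso.refl _) (by simp [i]) (by simpa [i] using hfst.symm)
      (by simp [β']) (by simp)
  let fst : (yon S).obj Z ⟶ F := ObjectProperty.homMk (i.inv ≫ pullback.snd ((yon S).map c).hom β)
  have sqS : IsPullback fst ((yon S).map g) β' ((yon S).map c) :=
    IsPullback.of_map_of_faithful (sheafToPresheaf _ _) sqP
  obtain ⟨W, w, eF, k, heF, -, hk⟩ := exists_iso_yon_of_descent hc sqS fun D hD =>
    effective_quasiAffine _ hc D (by rw [hD]; exact hg)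
  let eW := BasedFunctor.comp (ofOverCat W) (BasedFunctor.comp (ofSpMap eF.hom) e')
  refine ⟨W, w, k, eW, BasedBasic.IsEquivOver.comp (isEquivOver_ofOverCat W)
    (BasedBasic.IsEquivOver.comp (isEquivOver_ofSpMap eF.hom) he'), ⟨?_⟩, hk⟩
  have hwβ : BasedFunctor.comp (ofSpMap eF.hom) (Stk.ofPshMap β) = ofSpMap ((yon S).map w) := by
    rw [← heF]; rfl
  exact (eqToIso rfl ≪≫ BasedBasic.isoWhiskerRight
    (BasedBasic.isoWhiskerLeft (BasedFunctor.comp (ofOverCat W) (ofSpMap eF.hom))
      (isoOfPshMap (BasedFunctor.comp (BasedFunctor.comp e' f) (ofOverCat T)))) (toOverCat T) ≪≫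
    eqToIso (by
      change BasedFunctor.comp (BasedFunctor.comp (ofOverCat W) (BasedFunctor.comp (ofSpMap eF.hom) (Stk.ofPshMap β))) (toOverCat T) = _
      rw [hwβ]
      rfl))

end Groth.Agent.Lib.AlgStack.SetoidDescent
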