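import Groth.Agent.Lib.AlgStack.Slice
import Groth.Agent.Lib.AlgStack.Mono
import Groth.Agent.Lib.AlgStack.IsAlg
import Groth.Agent.Lib.AlgStack.RepPsh1
import Groth.Agent.Lib.AlgSpMor.RepBySp
import Groth.Agent.H14.Sep.Lft

/-!
# Stacks in setoids are algebraic spaces; unramified diagonal gives Deligne–Mumford
-/

set_option autoImplicit false
set_option backward.isDefEq.respectTransparency false
set_option backward.isDefEq.respectTransparency.types false

universe u

open CategoryTheory CategoryTheory.Limits AlgebraicGeometry Opposite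

namespace Groth.Agent.Lib.AlgStack.Setoidal

open BasedBasic Yoneda FibProd Rep Space IsAlgFp
open FibCat (IsEquivOver IsFibGrpd fp fpFst fpSnd overCat toSelf)
open AlgSt (ofSp ofSpMap ofOverCat toOverCat RepByAlgSp RepByAlgSp1 RepByAlgSpWith IsAlgStack IsDM)
open AlgSp (Sp yon IsAlgSpace RepWith LocP IsEtaleMor)

variable {S : Scheme.{u}} {𝒳 : AlgSt.Cat S}

/-- A monomorphism of algebraic spaces, locally of finite type, is unramified. -/
theorem unramified_of_mono {X Y : Sp S} (hX : IsAlgSpace X) (hY : IsAlgSpace Y) {f : X ⟶ Y} [Mono f]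
    (h : LocP @LocallyOfFiniteType f) :
    LocP ((@LocallyOfFiniteType : MorphismProperty Scheme.{u}) ⊓ @FormallyUnramified) f := by
  have hr := (AlgSpMor.RepBySp.repWith_sepLqf_of_mono hX hY h).rep
  have hl : RepWith @LocallyOfFiniteType f :=
    AlgSpMor.LocP.repWith_of_locP SourceDescent.Scheme.locallyOfFiniteType hY hr h
  refine AlgSpMor.LocP.locP_of_repWith AlgSpMor.LocP.unramified
    (AlgSpace.repWith_of_exists fun T ξ => ⟨hr.pullback ξ, hr.snd ξ, hr.fst ξ, hr.isPullback ξ,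
      AlgSpace.repWith_property hl (hr.isPullback ξ), ?_⟩)
  have : Mono ((yon S).map (hr.snd ξ)) :=
    MorphismProperty.of_isPullback (P := MorphismProperty.monomorphisms (Sp S)) (hr.isPullback ξ) ‹_›
  have : Mono (hr.snd ξ) := (yon S).mono_of_mono_map this
  have : Mono (hr.snd ξ).left := inferInstanceAs (Mono ((Over.forget S).map (hr.snd ξ)))
  infer_instance

/-- The diagonal of a category in setoids is full. -/
theorem full_diag (h : IsFibGrpd 𝒳.p) (hs : Setoidal 𝒳) :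
    (FibCat.diag (toSelf 𝒳)).toFunctor.Full := ⟨fun {a b} m => by
  have hm : 𝒳.p.IsHomLift (𝒳.p.map m.hom.fst) m.hom.snd :=
    FibCat.fp_isHomLift_snd (toSelf 𝒳) (toSelf 𝒳) m
  have : 𝒳.p.IsHomLift (𝟙 (𝒳.p.obj a) ≫ 𝒳.p.map m.hom.fst) m.hom.snd :=
    (Category.id_comp (𝒳.p.map m.hom.fst)).symm ▸ hm
  obtain ⟨ψ, hψ, e⟩ := exists_lift_through h m.hom.fst m.hom.snd (𝟙 (𝒳.p.obj a))
  have h1 : ψ = 𝟙 a := hs a ψ ((IsHomLift.fac' 𝒳.p (𝟙 (𝒳.p.obj a)) ψ).trans (by simp; rfl))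
  exact ⟨m.hom.fst, FibProd.hom_ext rfl ((Category.id_comp _).symm.trans ((congrArg (· ≫ _) h1.symm).trans e))⟩⟩

/-- A fully faithful functor has monic representing morphisms. -/
theorem mono_of_full {𝒴 : AlgSt.Cat S} {f : 𝒳 ⥤ᵇ 𝒴} [f.toFunctor.Full] {T : Over S}
    {z : FibCat.overCat T ⥤ᵇ 𝒴} {F : Sp S} {e : ofSp F ⥤ᵇ fp z f} (he : IsEquivOver e) :
    Mono (AlgSt.spMapOfOver (BasedFunctor.comp e (fpFst z f))) := by
  let γ := AlgSt.spMapOfOver (BasedFunctor.comp e (fpFst z f))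
  have := BasedBasic.IsEquivOver.full he
  have hfst : (fpFst z f).toFunctor.Full := ⟨fun {a b} g => by
    obtain ⟨k, hk⟩ := f.toFunctor.map_surjective (a.obj.iso.inv ≫ z.map g ≫ b.obj.iso.hom)
    exact ⟨FibProd.homMk g k (by rw [hk, Iso.hom_inv_id_assoc]), rfl⟩⟩
  have := BasedBasic.IsEquivOver.full (isEquivOver_ofOverCat T)
  have h1 : (BasedFunctor.comp (BasedFunctor.comp e (fpFst z f)) (ofOverCat T)).toFunctor.Full :=
    inferInstanceAs ((e.toFunctor ⋙ (fpFst z f).toFunctor) ⋙ (ofOverCat T).toFunctor).Full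
  have h2 : (ofSpMap γ).toFunctor.Full :=
    @Functor.Full.of_iso _ _ _ _ _ _ h1 ((BasedNatTrans.forgetful _ _).mapIso
      (OfPsh.isoOfPshMap (BasedFunctor.comp (BasedFunctor.comp e (fpFst z f)) (ofOverCat T)) ≪≫
        eqToIso (congrArg ofSpMap (spMapOfOver_eq_spHom (BasedFunctor.comp e (fpFst z f))).symm)))
  have : ∀ T', CategoryTheory.Mono (γ.hom.app T') := fun T' => by
    rw [CategoryTheory.mono_iff_injective]
    intro x₁ x₂ hx
    let a : (ofSp F).obj := ⟨T'.unop, x₁⟩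
    let b : (ofSp F).obj := ⟨T'.unop, x₂⟩
    let g : (ofSpMap γ).obj a ⟶ (ofSpMap γ).obj b := ⟨𝟙 _, by
      change ((yon S).obj T).obj.map _ (γ.hom.app T' x₂) = γ.hom.app T' x₁
      rw [op_id]
      erw [CategoryTheory.Functor.map_id]
      exact hx.symm⟩
    obtain ⟨m, hm⟩ := (ofSpMap γ).toFunctor.map_surjective g
    have h3 : m.hom = 𝟙 _ := congrArg (fun k => k.hom) hm
    have h4 := m.map_sec
    rw [h3, op_id] at h4
    erw [CategoryTheory.Functor.map_id] at h4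
    exact h4.symm
  have : Mono ((sheafToPresheaf _ _).map γ) := NatTrans.mono_of_mono_app γ.hom
  exact (sheafToPresheaf _ _).mono_of_mono_map this

/-- A stack in setoids has monic diagonal, so it is DM over the base. -/
theorem isDMOver_of_setoidal {J₀ : Precoverage Scheme.{u}} (h𝒳 : IsAlgStack J₀ 𝒳) (hs : Setoidal 𝒳) :
    AlgSt.IsDMOver 𝒳 := fun T z => by
  obtain ⟨F, e, he, hl⟩ := H14.Sep.Lft.diag_toSelf_lft h𝒳 T z
  refine ⟨F, e, he, ?_⟩
  let γ := AlgSt.spMapOfOver (BasedFunctor.comp e (fpFst z (FibCat.diag (toSelf 𝒳))))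
  have := full_diag h𝒳.isStack.1 hs
  have : Mono γ := mono_of_full he
  exact unramified_of_mono F.property (IsAlgSpace.yon_obj T) hl

instance respectsIso_isEtaleMor : (IsEtaleMor : MorphismProperty (Sp S)).RespectsIso :=
  MorphismProperty.RespectsIso.mk _
    (fun e f hf U φ hφ => by
      rw [← Category.assoc]
      exact hf _ ((AlgSpace.repWith_comp_iso_iff _ _ e.hom).2 hφ))
    (fun e f hf U φ hφ => by
      rw [← Category.assoc]
      exact (AlgSpace.repWith_comp_iso_iff _ _ e.hom).2 (hf φ hφ))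

instance respectsIso_isSurjectiveMor :
    (AlgSp.IsSurjectiveMor : MorphismProperty (Sp S)).RespectsIso :=
  MorphismProperty.RespectsIso.mk _
    (fun e f hf y => by
      obtain ⟨x, rfl⟩ := hf y
      exact ⟨AlgSp.Points.map e.inv x, by rw [← AlgSp.Points.map_comp, Iso.inv_hom_id_assoc]⟩)
    (fun e f hf y => by
      obtain ⟨x, hx⟩ := hf (AlgSp.Points.map e.inv y)
      exact ⟨x, by rw [AlgSp.Points.map_comp, hx, ← AlgSp.Points.map_comp, Iso.inv_hom_id,
        AlgSp.Points.map_id]⟩)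

/-- An algebraic stack in setoids is representable by an algebraic space. -/
theorem repByAlgSp_of_setoidal (h𝒳 : IsAlgStack Scheme.fppfPrecoverage 𝒳) (hs : Setoidal 𝒳) :
    RepByAlgSp 𝒳 := by
  obtain ⟨V, v, hve, hvs⟩ := Slice.hasEtaleAtlas h𝒳 (isDMOver_of_setoidal h𝒳 hs)
  have hE := isEquivOver_toIsoPsh h𝒳.isStack.1 hs
  have hF : Presheaf.IsSheaf (AlgSp.J S) (isoPsh h𝒳.isStack.1) :=
    (isSheaf_iff_isSheaf_of_type _ _).2
      ((StkBasic.isStack_ofPsh_iff _ _).1 (StkBasic.isStack_of_isEquivOver hE h𝒳.isStack))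
  let F : Sp S := ⟨_, hF⟩
  obtain ⟨e₀, he₀, -, -⟩ := BasedBasic.IsEquivOver.exists_inverse hE
  obtain ⟨E, hE', -, ⟨ε⟩⟩ := BasedBasic.IsEquivOver.exists_inverse he₀
  let u : ofSp ((yon S).obj V) ⥤ᵇ ofSp F :=
    BasedFunctor.comp (BasedFunctor.comp (toOverCat V) v) E
  have key : ∀ {P : MorphismProperty (Sp S)} [P.RespectsIso],
      RepByAlgSpWith P v → AlgSp.RepBySpWith P (spHom u).hom := by
    intro P _ hv
    have h1 : RepByAlgSpWith P u :=
      (repByAlgSpWith_iff_of_isEquivOver (f := v) (f' := BasedFunctor.comp (toOverCat V) v)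
        (isEquivOver_toOverCat V) BasedBasic.isEquivOver_id (Iso.refl _)).1 hv |> fun h =>
      (repByAlgSpWith_iff_of_isEquivOver (f := u) (f' := BasedFunctor.comp (toOverCat V) v)
        BasedBasic.isEquivOver_id hE' (Iso.refl _)).2 h
    exact RepPsh1.repBySpWith_of_ofPshMap (repByAlgSpWith_of_iso (OfPsh.isoOfPshMap u) h1)
  refine ⟨⟨F, AlgSpMor.RepBySp.isAlgSpace_of_etale_cover (IsAlgSpace.yon_obj V) (p := spHom u)
    fun U ξ F' fst snd sq => ?_⟩, e₀, he₀⟩
  obtain ⟨hF', hA, h1⟩ := key (P := AlgSp.IsSurjectiveMor) hvs ξ fst snd sq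
  obtain ⟨_, -, h2⟩ := key (P := IsEtaleMor) hve ξ fst snd sq
  exact ⟨hF', hA, h1, h2⟩

/-- An algebraic stack is a stack in setoids iff it is representable by an algebraic space. -/
theorem repByAlgSp_iff_setoidal (h𝒳 : IsAlgStack Scheme.fppfPrecoverage 𝒳) :
    RepByAlgSp 𝒳 ↔ Setoidal 𝒳 :=
  ⟨Space.setoidal_of_repByAlgSp, repByAlgSp_of_setoidal h𝒳⟩

/-- An algebraic stack with unramified diagonal is Deligne–Mumford. -/
theorem isDM_of_isDMOver {J₀ : Precoverage Scheme.{u}} (h𝒳 : IsAlgStack J₀ 𝒳) (hΔ : AlgSt.IsDMOver 𝒳) :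
    IsDM J₀ 𝒳 := ⟨h𝒳, Slice.hasEtaleAtlas h𝒳 hΔ⟩

end Groth.Agent.Lib.AlgStack.Setoidal
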