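import Groth.Agent.Lib.AlgStack.SliceArrows
import Groth.Agent.Lib.Slicing.Coords
import Groth.Agent.Lib.Slicing.Rational
import Groth.Agent.Lib.Slicing.Locus
import Groth.Agent.Lib.AlgSpMor.Cancel
import Groth.Agent.H14.Chart.Basic

/-!
# A stack with a smooth atlas and unramified diagonal has an étale surjective atlas
-/

set_option autoImplicit false
set_option backward.isDefEq.respectTransparency false
set_option backward.isDefEq.respectTransparency.types false

universe u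

open CategoryTheory CategoryTheory.Limits AlgebraicGeometry Opposite

namespace Groth.Agent.Lib.AlgStack.Slice

open BasedBasic Yoneda FibProd Rep Space ChartLift SliceChart SliceEtale SliceArrows
open FibCat (IsEquivOver IsFibGrpd fp fpFst fpSnd fpLift fpIso overCat)
open AlgSt (overMap RepByAlgSp1 RepByAlgSpWith IsAlgStack)
open AlgSp (Sp yon LocP IsEtaleMor)
open Slicing.Locus (EtaleNear)

variable {S : Scheme.{u}} {𝒳 : AlgSt.Cat S} {U R : Over S}

section

variable (h𝒳 : IsFibGrpd 𝒳.p) (x : overCat U ⥤ᵇ 𝒳) (s t : R ⟶ U)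
  (α : BasedFunctor.comp (overMap s) x ≅ BasedFunctor.comp (overMap t) x)
  (hρe : RepByAlgSpWith IsEtaleMor (arrows x s t α))
  (hρs : RepByAlgSpWith AlgSp.IsSurjectiveMor (arrows x s t α))

include h𝒳 hρe hρs

/-- The étale locus of `(s, F ∘ t)` is saturated along `t`. -/
theorem saturation [Smooth s.left] [Smooth t.left] {κ : Type u} [Finite κ] (V₀ : U.left.Opens)
    (F : V₀.toScheme ⟶ Spec (CommRingCat.of (MvPolynomial κ (ULift.{u} ℤ))))
    (r r' : ↑(t.left ⁻¹ᵁ V₀).toScheme)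
    (hrr : t.left ((t.left ⁻¹ᵁ V₀).ι r) = t.left ((t.left ⁻¹ᵁ V₀).ι r'))
    (h : EtaleNear (pullback.lift ((t.left ⁻¹ᵁ V₀).ι ≫ s.left) ((t.left ∣_ V₀) ≫ F)
      (terminal.hom_ext _ _) : _ ⟶ AffineSpace κ U.left) r) :
    EtaleNear (pullback.lift ((t.left ⁻¹ᵁ V₀).ι ≫ s.left) ((t.left ∣_ V₀) ≫ F)
      (terminal.hom_ext _ _) : _ ⟶ AffineSpace κ U.left) r' := by
  let RV := t.left ⁻¹ᵁ V₀
  let sV := RV.ι ≫ s.left
  have : LocallyOfFinitePresentation
      (pullback.lift (f := terminal.from U.left) (g := terminal.from _) sV ((t.left ∣_ V₀) ≫ F)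
        (terminal.hom_ext _ _)) :=
    AlgSpMor.Cancel.locallyOfFinitePresentation_of_comp (g := pullback.fst _ _)
      (by rw [pullback.lift_fst]; infer_instance)
      (inferInstanceAs (LocallyOfFiniteType (AffineSpace κ U.left ↘ U.left)))
  let p₁ := pullback.fst t t
  let p₂ := pullback.snd t t
  have sqQ := (IsPullback.of_hasPullback t t).map (Over.forget S)
  obtain ⟨q, hq₁, hq₂⟩ := Scheme.exists_preimage_of_isPullback sqQ (RV.ι r) (RV.ι r') hrr
  obtain ⟨Q₁, Q₂, W, c₁, g₁, c₂, g₂, e₁, e₂, sq₁, sq₂, he₁, he₂, hc, hg, hw⟩ :=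
    exists_common h𝒳 x s t α hρe hρs p₁ p₂ pullback.condition
  obtain ⟨w, hw₁, hw₂⟩ := hw q
  replace hw₁ : g₁.left (e₁.left w) = RV.ι r := hw₁.trans hq₁
  replace hw₂ : g₂.left (e₂.left w) = RV.ι r' := hw₂.trans hq₂
  have hgl : (e₁.left ≫ g₁.left) ≫ t.left = (e₂.left ≫ g₂.left) ≫ t.left := congrArg (·.left) hg
  let Ww := (e₁.left ≫ g₁.left) ⁻¹ᵁ RV
  have hm₂ : ∀ y : ↑Ww.toScheme, (Ww.ι ≫ e₂.left ≫ g₂.left) y ∈ RV := fun y => by
    have h1 : t.left ((e₁.left ≫ g₁.left) (Ww.ι y)) ∈ V₀ := y.2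
    rwa [← Scheme.Hom.comp_apply, hgl] at h1
  let l₁ : Ww.toScheme ⟶ RV.toScheme := IsOpenImmersion.lift RV.ι (Ww.ι ≫ e₁.left ≫ g₁.left)
    (by rintro _ ⟨y, rfl⟩; rw [Scheme.Opens.range_ι]; exact y.2)
  let l₂ : Ww.toScheme ⟶ RV.toScheme := IsOpenImmersion.lift RV.ι (Ww.ι ≫ e₂.left ≫ g₂.left)
    (by rintro _ ⟨y, rfl⟩; rw [Scheme.Opens.range_ι]; exact hm₂ y)
  have hl₁ : l₁ ≫ RV.ι = Ww.ι ≫ e₁.left ≫ g₁.left := IsOpenImmersion.lift_fac _ _ _
  have hl₂ : l₂ ≫ RV.ι = Ww.ι ≫ e₂.left ≫ g₂.left := IsOpenImmersion.lift_fac _ _ _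
  have mk : ∀ {Q' : Over S} {c : Q' ⟶ pullback t t} {g : Q' ⟶ R} {p : pullback t t ⟶ R}
      (sq : IsPullback c g (p ≫ s) s) (e : W ⟶ Q') [Etale e.left] (l : Ww.toScheme ⟶ RV.toScheme)
      (hl : l ≫ RV.ι = Ww.ι ≫ e.left ≫ g.left),
      ∃ e' : Ww.toScheme ⟶ pullback (p ≫ s).left sV, Etale e' ∧
        e' ≫ pullback.fst _ _ = Ww.ι ≫ e.left ≫ c.left ∧ e' ≫ pullback.snd _ _ = l := by
    intro Q' c g p sq e _ l hl
    have sq' : IsPullback c.left g.left (p ≫ s).left s.left := sq.map (Over.forget S)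
    let k := sq'.lift (pullback.fst (p ≫ s).left sV) (pullback.snd _ _ ≫ RV.ι)
      (by rw [pullback.condition, Category.assoc])
    have hk : IsPullback k (pullback.snd (p ≫ s).left sV) g.left RV.ι :=
      IsPullback.of_right (by simpa [k] using IsPullback.of_hasPullback (p ≫ s).left sV)
        (by simp [k]) sq'
    have : IsOpenImmersion k := MorphismProperty.of_isPullback (P := @IsOpenImmersion) hk.flip inferInstance
    let e' : Ww.toScheme ⟶ pullback (p ≫ s).left sV := pullback.lift (Ww.ι ≫ e.left ≫ c.left) l (by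
      simp only [Category.assoc, sq'.w, sV]
      rw [reassoc_of% hl])
    have he' : e' ≫ k = Ww.ι ≫ e.left := by
      apply sq'.hom_ext <;> simp [e', k, hl]
    have : Etale (e' ≫ k) := by rw [he']; infer_instance
    exact ⟨e', Etale.of_comp e' k, pullback.lift_fst _ _ _, pullback.lift_snd _ _ _⟩
  obtain ⟨e₁', _, h1c, h1g⟩ := mk sq₁ e₁ l₁ hl₁
  obtain ⟨e₂', _, h2c, h2g⟩ := mk sq₂ e₂ l₂ hl₂
  have : Smooth p₂.left := MorphismProperty.of_isPullback (P := @Smooth) sqQ (inferInstanceAs (Smooth t.left))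
  have : Flat (p₂ ≫ s).left := by rw [Over.comp_left]; infer_instance
  have hwW : w ∈ Ww := by
    change g₁.left (e₁.left w) ∈ RV
    rw [hw₁]
    exact r.2
  have hr₁ : l₁ ⟨w, hwW⟩ = r := RV.ι.isOpenEmbedding.injective (by
    rw [← Scheme.Hom.comp_apply, hl₁]; exact hw₁)
  have hr₂ : l₂ ⟨w, hwW⟩ = r' := RV.ι.isOpenEmbedding.injective (by
    rw [← Scheme.Hom.comp_apply, hl₂]; exact hw₂)
  have key := Slicing.Locus.etaleNear_transfer (s := sV) (G := (t.left ∣_ V₀) ≫ F)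
    (IsPullback.of_hasPullback (p₁ ≫ s).left sV) (IsPullback.of_hasPullback (p₂ ≫ s).left sV) e₁' e₂'
    (by rw [h1c, h2c]; exact congrArg (Ww.ι ≫ ·) (congrArg (·.left) hc))
    (by
      rw [reassoc_of% h1g, reassoc_of% h2g, ← Category.assoc, ← Category.assoc l₂]
      congr 1
      rw [← cancel_mono V₀.ι, Category.assoc, Category.assoc, morphismRestrict_ι,
        reassoc_of% hl₁, reassoc_of% hl₂]
      simpa using congrArg (Ww.ι ≫ ·) hgl) ⟨w, hwW⟩
  rw [← Scheme.Hom.comp_apply, ← Scheme.Hom.comp_apply, h1g, h2g, hr₁, hr₂] at key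
  exact key h

/-- Near every point, a piece of an étale atlas: a scheme over `U` whose base change along the
arrows is étale over `U` and covers the point. -/
theorem exists_local (hu : FormallyUnramified
    (pullback.lift s.left t.left ((Over.w s).trans (Over.w t).symm)))
    [Smooth s.left] [Smooth t.left] (u₀ : ↥U.left) :
    ∃ (V : Over S) (v : V ⟶ U),
      Etale (pullback.snd v t ≫ s).left ∧ u₀ ∈ Set.range (pullback.snd v t ≫ s).left := by
  obtain ⟨r₀, hr₀s, hr₀t⟩ := exists_point h𝒳 hρs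
    (Iso.refl _ : BasedFunctor.comp (arrows x s t α) (fpFst x x) ≅ overMap s)
    (Iso.refl _ : BasedFunctor.comp (arrows x s t α) (fpSnd x x) ≅ overMap t)
    (𝟙 U) (𝟙 U) (Iso.refl _) u₀
  replace hr₀s : s.left r₀ = u₀ := hr₀s
  replace hr₀t : t.left r₀ = u₀ := hr₀t
  obtain ⟨κ, _, V₀, F, W₀, i, tV, -, _, ⟨w₀, hw₀⟩, htV, het⟩ :=
    Slicing.Coords.exists_coords U.hom s.left t.left ((Over.w s).trans (Over.w t).symm) hu r₀
      (hr₀s.trans hr₀t.symm)
  let RV := t.left ⁻¹ᵁ V₀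
  let G := (t.left ∣_ V₀) ≫ F
  let ψ : RV.toScheme ⟶ AffineSpace κ U.left :=
    pullback.lift (RV.ι ≫ s.left) G (terminal.hom_ext _ _)
  let j : W₀ ⟶ RV.toScheme := IsOpenImmersion.lift RV.ι i (by
    rintro _ ⟨y, rfl⟩
    rw [Scheme.Opens.range_ι]
    change (i ≫ t.left) y ∈ V₀
    rw [← htV]
    exact (tV y).2)
  have hj : j ≫ RV.ι = i := IsOpenImmersion.lift_fac _ _ _
  have : IsOpenImmersion (j ≫ RV.ι) := by rw [hj]; infer_instance
  have : IsOpenImmersion j := IsOpenImmersion.of_comp j RV.ι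
  have hjψ : j ≫ ψ = pullback.lift (i ≫ s.left) (tV ≫ F) (terminal.hom_ext _ _) := by
    apply pullback.hom_ext
    · simp [ψ, reassoc_of% hj]
    · rw [Category.assoc, pullback.lift_snd, pullback.lift_snd, ← Category.assoc]
      congr 1
      rw [← cancel_mono V₀.ι, Category.assoc, morphismRestrict_ι, reassoc_of% hj, htV]
  have : Etale (j ≫ ψ) := by rw [hjψ]; exact het
  have hr₁ : EtaleNear ψ (j w₀) := Slicing.Locus.etaleNear_of_range j ψ w₀
  let E : RV.toScheme.Opens := ⟨_, Slicing.Locus.isOpen_etaleNear ψ⟩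
  have : Etale (E.ι ≫ ψ) := Slicing.Locus.etale_of_forall_etaleNear _ fun e =>
    (Slicing.Locus.etaleNear_precomp_iff E.ι ψ e).2 e.2
  let O : (AffineSpace κ U.left).Opens :=
    ⟨Set.range (E.ι ≫ ψ), (E.ι ≫ ψ).isOpenMap.isOpen_range⟩
  obtain ⟨B, G', o', _, ⟨e', rfl⟩, ho', b, hb⟩ :=
    Slicing.Rational.exists_etale_point O ((E.ι ≫ ψ) ⟨j w₀, hr₁⟩) ⟨_, rfl⟩
  let tE := E.ι ≫ (t.left ∣_ V₀)
  have : Smooth (t.left ∣_ V₀) := IsZariskiLocalAtTarget.restrict (P := @Smooth) ‹_› V₀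
  let U₁ : V₀.toScheme.Opens := ⟨Set.range tE, tE.isOpenMap.isOpen_range⟩
  let tE' : E.toScheme ⟶ U₁.toScheme := IsOpenImmersion.lift U₁.ι tE (by simp [U₁])
  have htE' : tE' ≫ U₁.ι = tE := IsOpenImmersion.lift_fac _ _ _
  have htE : tE' ≫ (U₁.ι ≫ V₀.ι) = (E.ι ≫ RV.ι) ≫ t.left := by
    rw [reassoc_of% htE', Category.assoc, Category.assoc, morphismRestrict_ι]
  let Vl := pullback (U₁.ι ≫ F) G'
  let vl : Vl ⟶ U.left := pullback.fst _ _ ≫ U₁.ι ≫ V₀.ι
  let V : Over S := Over.mk (vl ≫ U.hom)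
  let v : V ⟶ U := Over.homMk vl rfl
  refine ⟨V, v, ?_⟩
  have sqP : IsPullback (pullback.fst v t).left (pullback.snd v t).left vl t.left :=
    (IsPullback.of_hasPullback v t).map (Over.forget S)
  have sqE : IsPullback tE' (E.ι ≫ RV.ι) (U₁.ι ≫ V₀.ι) t.left := by
    refine IsOpenImmersion.isPullback _ _ _ _ htE.symm ?_
    ext r
    constructor
    · rintro ⟨⟨y, ⟨e, he⟩⟩, hy⟩
      have hr : r ∈ RV := by
        change t.left r ∈ V₀
        rw [← hy]
        exact y.2
      refine ⟨⟨⟨r, hr⟩, saturation h𝒳 x s t α hρe hρs V₀ F (E.ι e) ⟨r, hr⟩ ?_ e.2⟩, rfl⟩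
      rw [← Scheme.Hom.comp_apply, ← morphismRestrict_ι, Scheme.Hom.comp_apply]
      exact (congrArg V₀.ι he).trans hy
    · rintro ⟨e, rfl⟩
      refine ⟨tE' e, ?_⟩
      rw [← Scheme.Hom.comp_apply, htE]
      rfl
  let m := sqE.lift ((pullback.fst v t).left ≫ pullback.fst (U₁.ι ≫ F) G') (pullback.snd v t).left
    (by rw [Category.assoc]; exact sqP.w)
  have hm₁ : m ≫ tE' = (pullback.fst v t).left ≫ pullback.fst (U₁.ι ≫ F) G' := sqE.lift_fst _ _ _
  have hm₂ : m ≫ E.ι ≫ RV.ι = (pullback.snd v t).left := sqE.lift_snd _ _ _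
  have sqm : IsPullback (pullback.fst v t).left m (pullback.fst (U₁.ι ≫ F) G') tE' :=
    IsPullback.of_bot (by rw [hm₂]; exact sqP) hm₁.symm sqE
  let P := pullback.snd (U₁.ι ≫ F) G'
  have sqB : IsPullback ((pullback.fst v t).left ≫ P) m G' ((E.ι ≫ ψ) ≫ AffineSpace.toSpecMvPoly κ U.left) := by
    have h1 := sqm.paste_horiz (IsPullback.of_hasPullback (U₁.ι ≫ F) G').flip
    convert h1 using 1
    simp only [ψ, G, AffineSpace.toSpecMvPoly, Category.assoc, reassoc_of% htE', tE]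
    erw [pullback.lift_snd]
  let Z := pullback (AffineSpace.toSpecMvPoly κ U.left) G'
  let n : (pullback v t).left ⟶ Z := pullback.lift (f := AffineSpace.toSpecMvPoly κ U.left) (g := G')
    (m ≫ E.ι ≫ ψ) ((pullback.fst v t).left ≫ P)
    (by simpa [Category.assoc] using sqB.w.symm)
  have sqn : IsPullback n m (pullback.fst (AffineSpace.toSpecMvPoly κ U.left) G') (E.ι ≫ ψ) :=
    IsPullback.of_right (by simpa [n, P] using sqB) (pullback.lift_fst _ _ _)
      (IsPullback.of_hasPullback (AffineSpace.toSpecMvPoly κ U.left) G').flip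
  have : Etale n := MorphismProperty.of_isPullback (P := @Etale) sqn.flip inferInstance
  have sqZ : IsPullback (pullback.snd (AffineSpace.toSpecMvPoly κ U.left) G')
      (pullback.fst (AffineSpace.toSpecMvPoly κ U.left) G' ≫ (AffineSpace κ U.left ↘ U.left))
      (terminal.from (Spec B)) (terminal.from U.left) := by
    have h1 := (IsPullback.of_hasPullback (AffineSpace.toSpecMvPoly κ U.left) G').flip.paste_vert
      (IsPullback.of_hasPullback (terminal.from U.left)
        (terminal.from (Spec (CommRingCat.of (MvPolynomial κ (ULift.{u} ℤ)))))).flip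
    convert h1 using 1
    · rfl
    · exact terminal.hom_ext _ _
  have : Etale (pullback.fst (AffineSpace.toSpecMvPoly κ U.left) G' ≫ (AffineSpace κ U.left ↘ U.left)) :=
    MorphismProperty.of_isPullback (P := @Etale) sqZ inferInstance
  have heq : (pullback.snd v t ≫ s).left =
      n ≫ pullback.fst (AffineSpace.toSpecMvPoly κ U.left) G' ≫ (AffineSpace κ U.left ↘ U.left) := by
    rw [Over.comp_left, ← hm₂, pullback.lift_fst_assoc]
    simp only [Category.assoc]
    congr 2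
    exact (pullback.lift_fst _ _ _).symm
  rw [heq]
  refine ⟨inferInstance, ?_⟩
  obtain ⟨z, -, hz⟩ := Scheme.exists_preimage_of_isPullback sqB b e' hb
  refine ⟨z, ?_⟩
  rw [← heq, Over.comp_left, Scheme.Hom.comp_apply, ← hm₂]
  have h2 : RV.ι (E.ι e') = (m ≫ E.ι ≫ RV.ι) z := by simp [hz]
  rw [← h2]
  have h3 : ∀ e : ↑E.toScheme, (AffineSpace κ U.left ↘ U.left) ((E.ι ≫ ψ) e) = s.left (RV.ι (E.ι e)) :=
    fun e => by
      rw [← Scheme.Hom.comp_apply, Category.assoc]
      exact congrArg (fun f : RV.toScheme ⟶ U.left => f (E.ι e)) (pullback.lift_fst _ _ _)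
  rw [← h3, ho', h3]
  change s.left (RV.ι (j w₀)) = u₀
  rw [← Scheme.Hom.comp_apply j RV.ι, hj, hw₀, hr₀s]

end

/-- A stack with a smooth atlas and unramified diagonal has an étale surjective atlas. -/
theorem hasEtaleAtlas {J₀ : Precoverage Scheme.{u}} (h𝒳 : IsAlgStack J₀ 𝒳) (hΔ : AlgSt.IsDMOver 𝒳) :
    AlgSt.HasAtlas IsEtaleMor 𝒳 := by
  obtain ⟨U, x, hx, hxs⟩ := h𝒳.atlas
  obtain ⟨R, s, t, α, _, _, hρe, hρs⟩ := exists_arrows h𝒳.isStack.1 x hx
  have hu := formallyUnramified_lift h𝒳.isStack.1 hΔ x s t α hρe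
  choose Vi vi hvi hui using exists_local h𝒳.isStack.1 x s t α hρe hρs hu
  let V := AlgSpace.sigmaOver Vi
  let v : V ⟶ U := Over.homMk (Sigma.desc fun i => (vi i).left) (Sigma.hom_ext _ _ fun i => by simp [V])
  refine ⟨V, BasedFunctor.comp (overMap v) x, ?_⟩
  have sq := IsPullback.of_hasPullback v t
  let c := pullback.fst v t
  let g := pullback.snd v t
  let m (i : ↥U.left) : pullback (vi i) t ⟶ pullback v t :=
    pullback.lift (pullback.fst _ _ ≫ AlgSpace.sigmaOverι Vi i) (pullback.snd _ _) (by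
      rw [Category.assoc, ← pullback.condition]
      congr 1
      exact Over.OverMorphism.ext (by simp [v]))
  have hm : ∀ i, IsPullback (m i).left (pullback.fst (vi i) t).left c.left
      (AlgSpace.sigmaOverι Vi i).left := fun i => by
    suffices h : IsPullback (m i) (pullback.fst (vi i) t) c (AlgSpace.sigmaOverι Vi i) from
      h.map (Over.forget S)
    refine IsPullback.of_right ?_ ?_ sq.flip
    · have e : AlgSpace.sigmaOverι Vi i ≫ v = vi i := Over.OverMorphism.ext (by simp [v])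
      simpa [m, e] using (IsPullback.of_hasPullback (vi i) t).flip
    · simp [m, c]
  have hmg : ∀ i, (m i).left ≫ (g ≫ s).left = (pullback.snd (vi i) t ≫ s).left := fun i => by
    rw [← Over.comp_left]; simp [m, g]
  have hge : Etale (g ≫ s).left := Slicing.Locus.etale_of_forall_etaleNear _ fun y => by
    obtain ⟨i, z, hz⟩ := (sigmaOpenCover fun i => (Vi i).left).exists_eq (c.left y)
    obtain ⟨w, hw, -⟩ := Scheme.exists_preimage_of_isPullback (hm i) y z hz.symm
    have : IsOpenImmersion (m i).left := MorphismProperty.of_isPullback (P := @IsOpenImmersion) (hm i).flip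
      (inferInstanceAs (IsOpenImmersion (Sigma.ι (fun i => (Vi i).left) i)))
    have : Etale ((m i).left ≫ (g ≫ s).left) := by rw [hmg]; exact hvi i
    rw [← hw]
    exact Slicing.Locus.etaleNear_of_range _ _ w
  have hgs : Surjective (g ≫ s).left := ⟨fun u₀ => by
    obtain ⟨z, hz⟩ := hui u₀
    exact ⟨(m u₀).left z, by rw [← Scheme.Hom.comp_apply, hmg]; exact hz⟩⟩
  let cell : BasedFunctor.comp (overMap c) (overMap v) ≅ BasedFunctor.comp (overMap g) (overMap t) :=
    overMapComp c v ≪≫ eqToIso (congrArg overMap sq.w) ≪≫ (overMapComp g t).symm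
  have hκ := isEquivOver_pullbackLift sq cell
  let z := BasedFunctor.comp (overMap v) x
  let ρ := chart x (overMap t) (overMap s) α.symm (overMap c) (overMap g) (overMap v) cell z (Iso.refl _)
  have he : RepByAlgSpWith IsEtaleMor ρ :=
    chart_with _ _ _ _ _ _ _ _ _ _ hκ (arrows_symm x s t α hρe)
  have hs : RepByAlgSpWith AlgSp.IsSurjectiveMor ρ :=
    chart_with _ _ _ _ _ _ _ _ _ _ hκ (arrows_symm x s t α hρs)
  have hK : IsFibGrpd (fp z x).p := isFibGrpd_fp (isFibGrpd_overCat V) (isFibGrpd_overCat U) h𝒳.isStack.1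
  have hz : RepByAlgSp1 z := Diag.repByAlgSp1_diag_iff.1 h𝒳.diag V z
  have hsnd : RepByAlgSp1 (fpSnd z x) :=
    repByAlgSp1_of_repByAlgSpWith (RepOver.repByAlgSpWith_fpSnd x (P := ⊤) (fun T y => (hz T y).elim fun F ⟨e, he⟩ => ⟨F, e, he, trivial⟩))
  have e1 : RepByAlgSpWith IsEtaleMor (fpSnd z x) := etale_of_cover (isFibGrpd_overCat _) hK hsnd he hs
    (repByAlgSpWith_of_iso (overMapComp g s).symm (of_locP_etale
      (H14.Chart.Basic.rep_overMap_locP (g ≫ s) SourceDescent.Scheme.etale hge)))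
  have e2 : RepByAlgSpWith AlgSp.IsSurjectiveMor (fpSnd z x) :=
    surjective_of_cover (isFibGrpd_overCat _) hK hsnd (repByAlgSp1_of_repByAlgSpWith he)
      (repByAlgSpWith_of_iso (overMapComp g s).symm (H14.Chart.Basic.rep_overMap_surjective (g ≫ s)))
  have swapped : ∀ {P : MorphismProperty (Sp S)}, RepByAlgSpWith P (fpSnd z x) →
      RepByAlgSpWith P (fpFst x z) := fun h =>
    (repByAlgSpWith_iff_of_isEquivOver (f := fpFst x z) (f' := fpSnd z x) (isEquivOver_swap z x)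
      BasedBasic.isEquivOver_id (eqToIso rfl)).2 h
  exact ⟨etale_of_atlas hx hxs hz (swapped e1), surjective_of_atlas hx hxs hz (swapped e2)⟩

end Groth.Agent.Lib.AlgStack.Slice
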