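import Groth.Agent.Lib.AlgStack.SliceChart
import Groth.Agent.Lib.AlgStack.SliceEtale

/-!
# The chart of arrows of a smooth atlas
-/

set_option autoImplicit false
set_option backward.isDefEq.respectTransparency false
set_option backward.isDefEq.respectTransparency.types false

universe u

open CategoryTheory CategoryTheory.Limits AlgebraicGeometry Opposite

namespace Groth.Agent.Lib.AlgStack.SliceArrows

open BasedBasic Yoneda FibProd Rep Space ChartLift SliceChart SliceEtale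
open FibCat (IsEquivOver IsFibGrpd fp fpFst fpSnd fpLift fpIso overCat toSelf)
open AlgSt (overMap RepByAlgSp1 RepByAlgSpWith IsAlgStack)
open AlgSp (Sp yon LocP IsEtaleMor)
open Diag (isoToProd prodToFp)

variable {S : Scheme.{u}} {𝒳 : AlgSt.Cat S} {U : Over S}

/-- An étale surjective chart of arrows of an atlas. -/
theorem exists_arrows (h𝒳 : IsFibGrpd 𝒳.p) (x : overCat U ⥤ᵇ 𝒳)
    (hsm : RepByAlgSpWith (LocP @Smooth) x) :
    ∃ (R : Over S) (s t : R ⟶ U) (α : BasedFunctor.comp (overMap s) x ≅ BasedFunctor.comp (overMap t) x),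
      Smooth s.left ∧ Smooth t.left ∧
      RepByAlgSpWith IsEtaleMor (arrows x s t α) ∧
      RepByAlgSpWith AlgSp.IsSurjectiveMor (arrows x s t α) := by
  obtain ⟨R, s, t, w, hwe, hws, ⟨ec⟩, ⟨el⟩, -, h1, -, -, h2, -⟩ :=
    exists_chart h𝒳 x (repByAlgSp1_of_repByAlgSpWith hsm)
  let α : BasedFunctor.comp (overMap s) x ≅ BasedFunctor.comp (overMap t) x :=
    BasedBasic.isoWhiskerRight ec.symm x ≪≫ BasedBasic.isoWhiskerLeft w (fpIso x x) ≪≫
      BasedBasic.isoWhiskerRight el x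
  let i : w ≅ arrows x s t α := fpIsoMk (F := x) (G := x) ec el (fun h => by
    change x.map (appIso ec h).hom ≫ (x.map (appIso ec h).inv ≫ (w.obj h).obj.iso.hom ≫
      x.map (appIso el h).hom) = (w.obj h).obj.iso.hom ≫ x.map (appIso el h).hom
    rw [← Functor.map_comp_assoc, Iso.hom_inv_id]
    erw [x.toFunctor.map_id, Category.id_comp])
  exact ⟨R, s, t, α, h1 hsm, h2 hsm, repByAlgSpWith_of_iso i hwe, repByAlgSpWith_of_iso i hws⟩

/-- The reverse chart of arrows. -/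
theorem arrows_symm {R : Over S} (x : overCat U ⥤ᵇ 𝒳) (s t : R ⟶ U)
    (α : BasedFunctor.comp (overMap s) x ≅ BasedFunctor.comp (overMap t) x)
    {P : MorphismProperty (Sp S)} (h : RepByAlgSpWith P (arrows x s t α)) :
    RepByAlgSpWith P (arrows x t s α.symm) :=
  (repByAlgSpWith_iff_of_isEquivOver (f := arrows x t s α.symm) (f' := arrows x s t α)
    BasedBasic.isEquivOver_id (isEquivOver_swap x x) (fpIsoMk (Iso.refl _) (Iso.refl _) (fun h => by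
      change x.map (𝟙 _) ≫ (appIso α h).inv = (appIso α h).inv ≫ x.map (𝟙 _)
      erw [x.toFunctor.map_id, x.toFunctor.map_id]
      exact (Category.id_comp _).trans (Category.comp_id _).symm))).2 h

/-- `(s, t)` is formally unramified if the diagonal is. -/
theorem formallyUnramified_lift (h𝒳 : IsFibGrpd 𝒳.p) (hΔ : AlgSt.IsDMOver 𝒳) {R : Over S}
    (x : overCat U ⥤ᵇ 𝒳) (s t : R ⟶ U)
    (α : BasedFunctor.comp (overMap s) x ≅ BasedFunctor.comp (overMap t) x)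
    (hρ : RepByAlgSpWith IsEtaleMor (arrows x s t α)) :
    FormallyUnramified (pullback.lift s.left t.left ((Over.w s).trans (Over.w t).symm)) := by
  have hU := AlgSpMor.LocP.unramified.{u}
  let p₁ := fpFst (toSelf (overCat U)) (toSelf (overCat U))
  let p₂ := fpSnd (toSelf (overCat U)) (toSelf (overCat U))
  let z := Diag.pair (BasedFunctor.comp p₁ x) (BasedFunctor.comp p₂ x)
  let pr : fp x x ⥤ᵇ fp (toSelf (overCat U)) (toSelf (overCat U)) := Diag.pair (fpFst x x) (fpSnd x x)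
  have hpr := (repByAlgSpWith_iff_of_isEquivOver (f := fpFst z (FibCat.diag (toSelf 𝒳))) (f' := pr)
    (Diag.isEquivOver_toDiagPullback x x) BasedBasic.isEquivOver_id (Iso.refl _)).1
    (repByAlgSpWith_fpFst z hΔ)
  have hρ' : RepByAlgSpWith (LocP ((@LocallyOfFiniteType : MorphismProperty Scheme.{u}) ⊓
      @FormallyUnramified) (S := S)) (arrows x s t α) :=
    repByAlgSpWith_mono (etale_locP hρ) fun _ _ _ _ _ ha A B a b k h1 h2 w => by
      have : Etale k.left := ha a b k h1 h2 w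
      exact ⟨inferInstance, inferInstance⟩
  have hc := IsAlgFp.comp_locP hU (isFibGrpd_overCat R)
    (isFibGrpd_fp (isFibGrpd_overCat U) (isFibGrpd_overCat U) h𝒳) hρ' hpr
  have hm := (repByAlgSpWith_iff_of_isEquivOver (f := BasedFunctor.comp (arrows x s t α) pr)
    (f' := overMap (prod.lift s t)) BasedBasic.isEquivOver_id (Diag.isEquivOver_prodToFp U U)
    (isoToProd (overMapComp (prod.lift s t) prod.fst ≪≫ eqToIso (congrArg overMap (prod.lift_fst s t)))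
      (overMapComp (prod.lift s t) prod.snd ≪≫ eqToIso (congrArg overMap (prod.lift_snd s t))))).1 hc
  have h := (AlgSp.locP_yon_map
    (prop_overMap (IsAlgFp.respectsIsoSp_locP hU) (IsAlgFp.detected_locP hU) hm)).2
  have e : pullback.lift s.left t.left ((Over.w s).trans (Over.w t).symm) =
      (prod.lift s t).left ≫ (Over.prodLeftIsoPullback U U).hom := by
    apply pullback.hom_ext <;> simp [← Over.comp_left]
  rw [e]
  exact (MorphismProperty.cancel_right_of_respectsIso @FormallyUnramified _ _).2 h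

/-- Two base changes of a chart of arrows with the same target have a common étale cover. -/
theorem exists_common (h𝒳 : IsFibGrpd 𝒳.p) {R : Over S} (x : overCat U ⥤ᵇ 𝒳) (s t : R ⟶ U)
    (α : BasedFunctor.comp (overMap s) x ≅ BasedFunctor.comp (overMap t) x)
    (hρe : RepByAlgSpWith IsEtaleMor (arrows x s t α))
    (hρs : RepByAlgSpWith AlgSp.IsSurjectiveMor (arrows x s t α))
    {Q : Over S} (p₁ p₂ : Q ⟶ R) (hp : p₁ ≫ t = p₂ ≫ t) :
    ∃ (Q₁ Q₂ W : Over S) (c₁ : Q₁ ⟶ Q) (g₁ : Q₁ ⟶ R) (c₂ : Q₂ ⟶ Q) (g₂ : Q₂ ⟶ R)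
      (e₁ : W ⟶ Q₁) (e₂ : W ⟶ Q₂),
      IsPullback c₁ g₁ (p₁ ≫ s) s ∧ IsPullback c₂ g₂ (p₂ ≫ s) s ∧ Etale e₁.left ∧ Etale e₂.left ∧
      e₁ ≫ c₁ = e₂ ≫ c₂ ∧ (e₁ ≫ g₁) ≫ t = (e₂ ≫ g₂) ≫ t ∧
      ∀ q : ↥Q.left, ∃ w : ↥W.left,
        g₁.left (e₁.left w) = p₁.left q ∧ g₂.left (e₂.left w) = p₂.left q := by
  obtain ⟨Q₁, c₁, g₁, d₁, ρ₁, sq₁, -, hd₁, h₁e, -, ⟨a₁⟩, ⟨b₁⟩, ⟨i₁⟩⟩ :=
    exists_bc x s t α p₁ (p₁ ≫ t) rfl hρe hρs
  obtain ⟨Q₂, c₂, g₂, d₂, ρ₂, sq₂, -, hd₂, h₂e, -, ⟨a₂⟩, ⟨b₂⟩, ⟨i₂⟩⟩ :=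
    exists_bc x s t α p₂ (p₁ ≫ t) hp.symm hρe hρs
  have hK := isFibGrpd_fp (F := BasedFunctor.comp (overMap (p₁ ≫ t)) x) (G := x)
    (isFibGrpd_overCat Q) (isFibGrpd_overCat U) h𝒳
  obtain ⟨W, e₁, e₂, w, -, hws, ⟨ec⟩, ⟨el⟩, he₁, -, -, he₂, -, -⟩ :=
    exists_chart hK ρ₁ (repByAlgSp1_of_repByAlgSpWith h₂e)
  let E : BasedFunctor.comp (overMap e₁) ρ₁ ≅ BasedFunctor.comp (overMap e₂) ρ₂ :=
    BasedBasic.isoWhiskerRight ec.symm ρ₁ ≪≫ BasedBasic.isoWhiskerLeft w (fpIso ρ₁ ρ₂) ≪≫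
      BasedBasic.isoWhiskerRight el ρ₂
  have hc : e₁ ≫ c₁ = e₂ ≫ c₂ := eq_of_iso ((overMapComp e₁ c₁).symm ≪≫
    BasedBasic.isoWhiskerLeft (overMap e₁) a₁.symm ≪≫ BasedBasic.isoWhiskerRight E (fpFst _ _) ≪≫
      BasedBasic.isoWhiskerLeft (overMap e₂) a₂ ≪≫ overMapComp e₂ c₂)
  have hg : e₁ ≫ g₁ ≫ t = e₂ ≫ g₂ ≫ t := eq_of_iso ((overMapComp e₁ (g₁ ≫ t)).symm ≪≫
    BasedBasic.isoWhiskerLeft (overMap e₁) b₁.symm ≪≫ BasedBasic.isoWhiskerRight E (fpSnd _ _) ≪≫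
      BasedBasic.isoWhiskerLeft (overMap e₂) b₂ ≪≫ overMapComp e₂ (g₂ ≫ t))
  refine ⟨Q₁, Q₂, W, c₁, g₁, c₂, g₂, e₁, e₂, sq₁, sq₂, he₁ h₂e, he₂ h₁e, hc, by simpa using hg,
    fun q => ?_⟩
  obtain ⟨v, hv₁, hv₂⟩ := exists_point hK hws ec el d₁ d₂ (i₁ ≪≫ i₂.symm) q
  refine ⟨v, ?_, ?_⟩
  · rw [hv₁, ← Scheme.Hom.comp_apply, ← Over.comp_left, hd₁]
  · rw [hv₂, ← Scheme.Hom.comp_apply, ← Over.comp_left, hd₂]

end Groth.Agent.Lib.AlgStack.SliceArrows
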