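import Groth.Agent.Lib.AlgStack.ChartLift

/-!
# Base changes of a chart of arrows along a map into the objects

For a chart `R` of `fp x x` with maps `s, t` and `p : Q ⟶ R`, an étale surjective chart of
`fp (τ ≫ x) x`, `τ = p ≫ t`, by the scheme `Q ×_{p ≫ s, U, s} R`, with its canonical section.
-/

set_option autoImplicit false
set_option backward.isDefEq.respectTransparency false
set_option backward.isDefEq.respectTransparency.types false

universe u

open CategoryTheory CategoryTheory.Limits AlgebraicGeometry Opposite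

namespace Groth.Agent.Lib.AlgStack.SliceChart

open BasedBasic Yoneda FibProd Rep Space ChartLift
open FibCat (IsEquivOver IsFibGrpd fp fpFst fpSnd fpLift fpIso overCat)
open AlgSt (ofSp ofSpMap ofOverCat toOverCat overMap RepByAlgSp1 RepByAlgSpWith)
open AlgSp (Sp yon)

variable {S : Scheme.{u}}

/-- Functors into a 2-fibre product over a slice are isomorphic if their components are. -/
def isoToFp {𝒲 : AlgSt.Cat S} {T P U : Over S} {F : overCat T ⥤ᵇ overCat U} {G : overCat P ⥤ᵇ overCat U}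
    {Φ Ψ : 𝒲 ⥤ᵇ fp F G}
    (a : BasedFunctor.comp Φ (fpFst F G) ≅ BasedFunctor.comp Ψ (fpFst F G))
    (b : BasedFunctor.comp Φ (fpSnd F G) ≅ BasedFunctor.comp Ψ (fpSnd F G)) : Φ ≅ Ψ where
  hom := StkFp.fpHom a.hom b.hom fun w => by
    apply Over.OverMorphism.ext
    have h1 : (overCat U).p.IsHomLift (𝟙 (𝒲.p.obj w))
        (F.map (a.hom.toNatTrans.app w) ≫ (Ψ.obj w).obj.iso.hom) := by
      have := (BasedNatTrans.isHomLift a.hom (rfl : 𝒲.p.obj w = _))
      have := BasedFunctor.preserves_isHomLift F (𝟙 (𝒲.p.obj w)) (a.hom.toNatTrans.app w)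
      have hΨ : (overCat U).p.IsHomLift (𝟙 (𝒲.p.obj w)) (Ψ.obj w).obj.iso.hom := by
        have h : (overCat U).p.IsHomLift (𝟙 ((overCat T).p.obj (Ψ.obj w).obj.fst)) (Ψ.obj w).obj.iso.hom :=
          (Ψ.obj w).property
        rwa [show (overCat T).p.obj (Ψ.obj w).obj.fst = 𝒲.p.obj w from Ψ.w_obj w] at h
      infer_instance
    have h2 : (overCat U).p.IsHomLift (𝟙 (𝒲.p.obj w))
        ((Φ.obj w).obj.iso.hom ≫ G.map (b.hom.toNatTrans.app w)) := by
      have := (BasedNatTrans.isHomLift b.hom (rfl : 𝒲.p.obj w = _))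
      have := BasedFunctor.preserves_isHomLift G (𝟙 (𝒲.p.obj w)) (b.hom.toNatTrans.app w)
      have hΦ : (overCat U).p.IsHomLift (𝟙 (𝒲.p.obj w)) (Φ.obj w).obj.iso.hom := by
        have h : (overCat U).p.IsHomLift (𝟙 ((overCat T).p.obj (Φ.obj w).obj.fst)) (Φ.obj w).obj.iso.hom :=
          (Φ.obj w).property
        rwa [show (overCat T).p.obj (Φ.obj w).obj.fst = 𝒲.p.obj w from Φ.w_obj w] at h
      infer_instance
    exact (IsHomLift.fac' (overCat U).p (𝟙 (𝒲.p.obj w))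
        (F.map (a.hom.toNatTrans.app w) ≫ (Ψ.obj w).obj.iso.hom)).trans
      (IsHomLift.fac' (overCat U).p (𝟙 (𝒲.p.obj w))
        ((Φ.obj w).obj.iso.hom ≫ G.map (b.hom.toNatTrans.app w))).symm
  inv := StkFp.fpHom a.inv b.inv fun w => by
    apply Over.OverMorphism.ext
    have h1 : (overCat U).p.IsHomLift (𝟙 (𝒲.p.obj w))
        (F.map (a.inv.toNatTrans.app w) ≫ (Φ.obj w).obj.iso.hom) := by
      have := (BasedNatTrans.isHomLift a.inv (rfl : 𝒲.p.obj w = _))
      have := BasedFunctor.preserves_isHomLift F (𝟙 (𝒲.p.obj w)) (a.inv.toNatTrans.app w)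
      have hΦ : (overCat U).p.IsHomLift (𝟙 (𝒲.p.obj w)) (Φ.obj w).obj.iso.hom := by
        have h : (overCat U).p.IsHomLift (𝟙 ((overCat T).p.obj (Φ.obj w).obj.fst)) (Φ.obj w).obj.iso.hom :=
          (Φ.obj w).property
        rwa [show (overCat T).p.obj (Φ.obj w).obj.fst = 𝒲.p.obj w from Φ.w_obj w] at h
      infer_instance
    have h2 : (overCat U).p.IsHomLift (𝟙 (𝒲.p.obj w))
        ((Ψ.obj w).obj.iso.hom ≫ G.map (b.inv.toNatTrans.app w)) := by
      have := (BasedNatTrans.isHomLift b.inv (rfl : 𝒲.p.obj w = _))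
      have := BasedFunctor.preserves_isHomLift G (𝟙 (𝒲.p.obj w)) (b.inv.toNatTrans.app w)
      have hΨ : (overCat U).p.IsHomLift (𝟙 (𝒲.p.obj w)) (Ψ.obj w).obj.iso.hom := by
        have h : (overCat U).p.IsHomLift (𝟙 ((overCat T).p.obj (Ψ.obj w).obj.fst)) (Ψ.obj w).obj.iso.hom :=
          (Ψ.obj w).property
        rwa [show (overCat T).p.obj (Ψ.obj w).obj.fst = 𝒲.p.obj w from Ψ.w_obj w] at h
      infer_instance
    exact (IsHomLift.fac' (overCat U).p (𝟙 (𝒲.p.obj w))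
        (F.map (a.inv.toNatTrans.app w) ≫ (Φ.obj w).obj.iso.hom)).trans
      (IsHomLift.fac' (overCat U).p (𝟙 (𝒲.p.obj w))
        ((Ψ.obj w).obj.iso.hom ≫ G.map (b.inv.toNatTrans.app w))).symm
  hom_inv_id := StkBasic.hom_ext fun w => FibProd.hom_ext
    ((BasedBasic.appIso a w).hom_inv_id) ((BasedBasic.appIso b w).hom_inv_id)
  inv_hom_id := StkBasic.hom_ext fun w => FibProd.hom_ext
    ((BasedBasic.appIso a w).inv_hom_id) ((BasedBasic.appIso b w).inv_hom_id)

/-- A pullback of schemes over `S` is the 2-fibre product of the slices. -/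
theorem isEquivOver_pullbackLift {Q' Q R U : Over S} {c : Q' ⟶ Q} {g : Q' ⟶ R} {σ : Q ⟶ U} {s : R ⟶ U}
    (sq : IsPullback c g σ s)
    (cell : BasedFunctor.comp (overMap c) (overMap σ) ≅ BasedFunctor.comp (overMap g) (overMap s)) :
    IsEquivOver (fpLift (F := overMap σ) (G := overMap s) (overMap c) (overMap g) cell) := by
  have := BasedBasic.IsEquivOver.full (isEquivOver_toOverCat U)
  have := BasedBasic.IsEquivOver.faithful (isEquivOver_toOverCat U)
  have h1 := isEquivOver_sqLift ((AlgSpace.isPullback_yon sq).map (sheafToPresheaf _ _))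
  have h2 := isEquivOver_fpMap (toOverCat Q) (toOverCat R) (toOverCat U)
    (F := overMap σ) (G := overMap s) (F' := ofSpMap ((yon S).map σ)) (G' := ofSpMap ((yon S).map s))
    (eqToIso rfl) (eqToIso rfl) (isEquivOver_toOverCat Q) (isEquivOver_toOverCat R)
  exact BasedBasic.IsEquivOver.of_iso (BasedBasic.IsEquivOver.comp (isEquivOver_ofOverCat Q')
    (BasedBasic.IsEquivOver.comp h1 h2)) (isoToFp (eqToIso rfl) (eqToIso rfl))

variable {𝒳 : AlgSt.Cat S} {U R : Over S}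

/-- Morphisms in a slice with the same map of schemes agree. -/
theorem map_eq {𝒴 : AlgSt.Cat S} (x : overCat U ⥤ᵇ 𝒴) {a b : Over U} (f g : a ⟶ b)
    (h : f.left = g.left) : x.map f = x.map g := by
  rw [Over.OverMorphism.ext h]

theorem app_left {T P : Over S} {Φ Ψ : overCat T ⥤ᵇ overCat P} (e : Φ ≅ Ψ) (h : Over T) :
    (appIso e h).hom.left = eqToHom ((Φ.w_obj h).trans (Ψ.w_obj h).symm) :=
  haveI := appIso_isHomLift e h
  (IsHomLift.fac' (overCat P).p (𝟙 ((overCat T).p.obj h)) (appIso e h).hom).trans (by simp)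

theorem app_inv_left {T P : Over S} {Φ Ψ : overCat T ⥤ᵇ overCat P} (e : Φ ≅ Ψ) (h : Over T) :
    (appIso e h).inv.left = eqToHom ((Ψ.w_obj h).trans (Φ.w_obj h).symm) :=
  app_left e.symm h

variable (x : overCat U ⥤ᵇ 𝒳) (s t : R ⟶ U)
  (α : BasedFunctor.comp (overMap s) x ≅ BasedFunctor.comp (overMap t) x)

section Arrows

/-- The chart of arrows. -/
def arrows : overCat R ⥤ᵇ fp x x := fpLift (F := x) (G := x) (overMap s) (overMap t) α

end Arrows

section Generic

theorem cancel_chain {C : Type*} [Category C] {A B B' D D' E F : C} (e₁ : A ⟶ B') (a : B ≅ B')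
    (e₂ : B ⟶ D) (k : D ⟶ D') (a₂ : D' ⟶ E) (q : E ⟶ F) (n : B' ⟶ E) (m : B ⟶ D')
    (hk : e₂ ≫ k = m) (h : m ≫ a₂ = a.hom ≫ n) :
    (((e₁ ≫ a.inv) ≫ e₂) ≫ k ≫ a₂) ≫ q = e₁ ≫ n ≫ q := by
  subst hk
  rw [Category.assoc] at h
  simp [reassoc_of% h]


/-- An isomorphism of functors into a 2-fibre product from its components. -/
def fpIsoMk {S : Scheme.{u}} {𝒜 𝒳 𝒴 𝒮 : AlgSt.Cat S} {F : 𝒳 ⥤ᵇ 𝒮} {G : 𝒴 ⥤ᵇ 𝒮} {Φ Ψ : 𝒜 ⥤ᵇ fp F G}
    (a : BasedFunctor.comp Φ (fpFst F G) ≅ BasedFunctor.comp Ψ (fpFst F G))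
    (b : BasedFunctor.comp Φ (fpSnd F G) ≅ BasedFunctor.comp Ψ (fpSnd F G))
    (w : ∀ h, F.map (appIso a h).hom ≫ (Ψ.obj h).obj.iso.hom =
      (Φ.obj h).obj.iso.hom ≫ G.map (appIso b h).hom) : Φ ≅ Ψ where
  hom := StkFp.fpHom a.hom b.hom w
  inv := StkFp.fpHom a.inv b.inv fun h => by
    change F.map (appIso a h).inv ≫ (Φ.obj h).obj.iso.hom = (Ψ.obj h).obj.iso.hom ≫ G.map (appIso b h).inv
    rw [← cancel_mono (G.map (appIso b h).hom), Category.assoc, ← w, ← Functor.map_comp_assoc,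
      Iso.inv_hom_id, Category.assoc, ← Functor.map_comp, Iso.inv_hom_id]
    erw [F.toFunctor.map_id, G.toFunctor.map_id, Category.id_comp, Category.comp_id]
  hom_inv_id := StkBasic.hom_ext fun h => FibProd.hom_ext (appIso a h).hom_inv_id (appIso b h).hom_inv_id
  inv_hom_id := StkBasic.hom_ext fun h => FibProd.hom_ext (appIso a h).inv_hom_id (appIso b h).inv_hom_id

variable {S : Scheme.{u}} {𝒳 𝒰 ℛ 𝒬 𝒬' : AlgSt.Cat S} (x : 𝒰 ⥤ᵇ 𝒳) (Fs Ft : ℛ ⥤ᵇ 𝒰)
  (α : BasedFunctor.comp Fs x ≅ BasedFunctor.comp Ft x) (C : 𝒬' ⥤ᵇ 𝒬) (G : 𝒬' ⥤ᵇ ℛ) (Sg : 𝒬 ⥤ᵇ 𝒰)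
  (cell : BasedFunctor.comp C Sg ≅ BasedFunctor.comp G Fs) (z : 𝒬 ⥤ᵇ 𝒳)
  (ε : BasedFunctor.comp Sg x ≅ z)

/-- The 2-cell of the base change of a chart of arrows. -/
def chartCell : BasedFunctor.comp C z ≅ BasedFunctor.comp (BasedFunctor.comp G Ft) x :=
  BasedBasic.isoWhiskerLeft C ε.symm ≪≫ BasedBasic.isoWhiskerRight cell x ≪≫
    BasedBasic.isoWhiskerLeft G α

theorem chartCell_app (h : 𝒬'.obj) : (appIso (chartCell x Fs Ft α C G Sg cell z ε) h).hom =
    (appIso ε (C.obj h)).inv ≫ x.map (appIso cell h).hom ≫ (appIso α (G.obj h)).hom := rfl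

/-- The base change of a chart of arrows. -/
def chart : 𝒬' ⥤ᵇ fp z x :=
  fpLift (F := z) (G := x) C (BasedFunctor.comp G Ft) (chartCell x Fs Ft α C G Sg cell z ε)

theorem chart_with (hκ : IsEquivOver (fpLift (F := Sg) (G := Fs) C G cell))
    {P : MorphismProperty (Sp S)} (hP : RepByAlgSpWith P (fpLift (F := x) (G := x) Fs Ft α)) :
    RepByAlgSpWith P (chart x Fs Ft α C G Sg cell z ε) := by
  let A : 𝒬' ⥤ᵇ fp Sg (fpFst x x) :=
    fpLift (F := Sg) (G := fpFst x x) C (BasedFunctor.comp G (fpLift (F := x) (G := x) Fs Ft α)) cell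
  let j : 𝒬' ⥤ᵇ fp (fpSnd Sg (fpFst x x)) (fpLift (F := x) (G := x) Fs Ft α) :=
    fpLift A G (Iso.refl _)
  have i₁ : fpLift (F := Sg) (G := Fs) C G cell ≅
      BasedFunctor.comp j (pasteComp Sg (fpFst x x) (fpLift (F := x) (G := x) Fs Ft α)) :=
    fpIsoMk (Iso.refl C) (Iso.refl G) (fun h => by
      change Sg.map (𝟙 (C.obj h)) ≫ ((appIso cell h).hom ≫
          (fpFst x x).map (𝟙 ((fpLift (F := x) (G := x) Fs Ft α).obj (G.obj h)))) =
        (appIso cell h).hom ≫ Fs.map (𝟙 (G.obj h))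
      erw [Sg.toFunctor.map_id, Category.id_comp, (fpFst x x).toFunctor.map_id, Fs.toFunctor.map_id]
      rfl)
  have hj : IsEquivOver j := BasedBasic.IsEquivOver.of_comp_right (isEquivOver_pasteComp _ _ _)
    (BasedBasic.IsEquivOver.of_iso hκ i₁)
  have hA : RepByAlgSpWith P A :=
    (repByAlgSpWith_iff_of_isEquivOver
      (f := fpFst (fpSnd Sg (fpFst x x)) (fpLift (F := x) (G := x) Fs Ft α))
      (f' := A) hj BasedBasic.isEquivOver_id (Iso.refl _)).1
      (repByAlgSpWith_fpFst _ hP)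
  let e := BasedFunctor.comp (pasteBase Sg x x) (congrLeft ε x)
  have i₂ : chart x Fs Ft α C G Sg cell z ε ≅ BasedFunctor.comp A e :=
    fpIsoMk (Iso.refl C) (Iso.refl (BasedFunctor.comp G Ft)) (fun h => by
      change z.map (𝟙 (C.obj h)) ≫ ((appIso ε (C.obj h)).inv ≫
          (x.map (appIso cell h).hom ≫ (appIso α (G.obj h)).hom) ≫ 𝟙 _) =
        (appIso (chartCell x Fs Ft α C G Sg cell z ε) h).hom ≫ x.map (𝟙 (Ft.obj (G.obj h)))
      erw [z.toFunctor.map_id, x.toFunctor.map_id, Category.id_comp, Category.comp_id, Category.comp_id]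
      exact (chartCell_app x Fs Ft α C G Sg cell z ε h).symm)
  exact repByAlgSpWith_of_iso i₂.symm ((repByAlgSpWith_iff_of_isEquivOver
    (f := BasedFunctor.comp A e) (f' := A) BasedBasic.isEquivOver_id
    (BasedBasic.IsEquivOver.comp (isEquivOver_pasteBase _ _ _) (isEquivOver_congrLeft _ _))
    (Iso.refl _)).2 hA)

/-- Moving the base point to the target. -/
def targetCell (P : 𝒬 ⥤ᵇ ℛ) (T : 𝒬 ⥤ᵇ 𝒰) (cP : BasedFunctor.comp P Fs ≅ Sg)
    (ct : BasedFunctor.comp P Ft ≅ T) : BasedFunctor.comp Sg x ≅ BasedFunctor.comp T x :=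
  BasedBasic.isoWhiskerRight cP.symm x ≪≫ BasedBasic.isoWhiskerLeft P α ≪≫
    BasedBasic.isoWhiskerRight ct x

theorem targetCell_app (P : 𝒬 ⥤ᵇ ℛ) (T : 𝒬 ⥤ᵇ 𝒰) (cP : BasedFunctor.comp P Fs ≅ Sg)
    (ct : BasedFunctor.comp P Ft ≅ T) (o : 𝒬.obj) :
    (appIso (targetCell x Fs Ft α Sg P T cP ct) o).inv =
      (x.map (appIso ct o).inv ≫ (appIso α (P.obj o)).inv) ≫ x.map (appIso cP o).hom := rfl

/-- The section of a base change of a chart: the identity between the two 2-cells. -/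
theorem cell_eq (P : 𝒬 ⥤ᵇ ℛ) (T : 𝒬 ⥤ᵇ 𝒰) (cP : BasedFunctor.comp P Fs ≅ Sg)
    (ct : BasedFunctor.comp P Ft ≅ T) (h' : 𝒬'.obj) (o : 𝒬.obj) (φ : C.obj h' ⟶ o)
    (ψ : Ft.obj (G.obj h') ⟶ T.obj o) (j : P.obj (C.obj h') ⟶ G.obj h')
    (hj : (appIso cP (C.obj h')).hom ≫ (appIso cell h').hom = Fs.map j)
    (hq : (appIso ct (C.obj h')).inv ≫ Ft.map j ≫ ψ = T.map φ) :
    x.map (T.map φ) = (appIso (chartCell x Fs Ft α C G Sg cell (BasedFunctor.comp T x)
      (targetCell x Fs Ft α Sg P T cP ct)) h').hom ≫ x.map ψ := by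
  have hnat : x.map (Fs.map j) ≫ (appIso α (G.obj h')).hom =
      (appIso α (P.obj (C.obj h'))).hom ≫ x.map (Ft.map j) := α.hom.toNatTrans.naturality j
  have hk : x.map (appIso cP (C.obj h')).hom ≫ x.map (appIso cell h').hom = x.map (Fs.map j) :=
    (x.toFunctor.map_comp _ _).symm.trans (congrArg x.map hj)
  rw [chartCell_app, targetCell_app]
  refine Eq.trans ?_ (cancel_chain _ _ _ _ _ _ _ _ hk hnat).symm
  exact (congrArg x.map hq).symm.trans
    ((x.toFunctor.map_comp _ _).trans (congrArg (fun m => _ ≫ m) (x.toFunctor.map_comp _ _)))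

end Generic

section BC

variable {S : Scheme.{u}} {𝒳 : AlgSt.Cat S} {U R : Over S} (x : overCat U ⥤ᵇ 𝒳) (s t : R ⟶ U)
  (α : BasedFunctor.comp (overMap s) x ≅ BasedFunctor.comp (overMap t) x)
variable {Q Q' : Over S} (p : Q ⟶ R) (τ : Q ⟶ U) (hτ : p ≫ t = τ) (c : Q' ⟶ Q) (g : Q' ⟶ R)

/-- The commuting square as a 2-isomorphism. -/
noncomputable def sqCell (w : c ≫ p ≫ s = g ≫ s) :
    BasedFunctor.comp (overMap c) (overMap (p ≫ s)) ≅ BasedFunctor.comp (overMap g) (overMap s) :=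
  overMapComp c (p ≫ s) ≪≫ eqToIso (congrArg overMap w) ≪≫ (overMapComp g s).symm

/-- The composite as a 2-isomorphism. -/
noncomputable def tgtComp : BasedFunctor.comp (overMap p) (overMap t) ≅ overMap τ :=
  overMapComp p t ≪≫ eqToIso (congrArg overMap hτ)

theorem key (w : c ≫ p ≫ s = g ≫ s) (d : Q ⟶ Q') (hdc : d ≫ c = 𝟙 Q) (hdg : d ≫ g = p)
    (a : BasedFunctor.comp (overMap d) (overMap c) ≅ BasedFunctor.id (overCat Q))
    (b : BasedFunctor.comp (overMap d) (BasedFunctor.comp (overMap g) (overMap t)) ≅ overMap τ)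
    (h : Over Q) :
    x.map ((overMap τ).map (appIso a h).hom) =
      (appIso (chartCell x (overMap s) (overMap t) α (overMap c) (overMap g) (overMap (p ≫ s))
        (sqCell s p c g w) (BasedFunctor.comp (overMap τ) x)
        (targetCell x (overMap s) (overMap t) α (overMap (p ≫ s)) (overMap p) (overMap τ)
          (overMapComp p s) (tgtComp t p τ hτ)))
        ((overMap d).obj h)).hom ≫ x.map (appIso b h).hom :=
  cell_eq x (overMap s) (overMap t) α (overMap c) (overMap g) (overMap (p ≫ s)) (sqCell s p c g w)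
    (overMap p) (overMap τ) (overMapComp p s) (tgtComp t p τ hτ) ((overMap d).obj h) h
    (appIso a h).hom (appIso b h).hom
    (Over.homMk (𝟙 _) (by
      change 𝟙 _ ≫ (h.hom ≫ d) ≫ g = ((h.hom ≫ d) ≫ c) ≫ p
      rw [Category.id_comp, Category.assoc, hdg, Category.assoc h.hom d c, hdc, Category.comp_id]))
    (Over.OverMorphism.ext (by
      rw [Over.comp_left, app_left, app_left]
      exact Category.id_comp _))
    (Over.OverMorphism.ext (by
      rw [Over.comp_left, Over.comp_left, app_inv_left, app_left]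
      change _ = (appIso a h).hom.left
      rw [app_left]
      exact (Category.id_comp _).trans (Category.id_comp _)))

end BC

section Main

variable {S : Scheme.{u}} {𝒳 : AlgSt.Cat S} {U R : Over S} (x : overCat U ⥤ᵇ 𝒳) (s t : R ⟶ U)
  (α : BasedFunctor.comp (overMap s) x ≅ BasedFunctor.comp (overMap t) x)

/-- The base change of the chart of arrows along `p : Q ⟶ R`, with its canonical section. -/
theorem exists_bc {Q : Over S} (p : Q ⟶ R) (τ : Q ⟶ U) (hτ : p ≫ t = τ)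
    (hρe : RepByAlgSpWith AlgSp.IsEtaleMor (arrows x s t α))
    (hρs : RepByAlgSpWith AlgSp.IsSurjectiveMor (arrows x s t α)) :
    ∃ (Q' : Over S) (c : Q' ⟶ Q) (g : Q' ⟶ R) (d : Q ⟶ Q')
      (ρ' : overCat Q' ⥤ᵇ fp (BasedFunctor.comp (overMap τ) x) x),
      IsPullback c g (p ≫ s) s ∧ d ≫ c = 𝟙 Q ∧ d ≫ g = p ∧
      RepByAlgSpWith AlgSp.IsEtaleMor ρ' ∧ RepByAlgSpWith AlgSp.IsSurjectiveMor ρ' ∧
      Nonempty (BasedFunctor.comp ρ' (fpFst _ _) ≅ overMap c) ∧
      Nonempty (BasedFunctor.comp ρ' (fpSnd _ _) ≅ overMap (g ≫ t)) ∧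
      Nonempty (BasedFunctor.comp (overMap d) ρ' ≅
        fpLift (F := BasedFunctor.comp (overMap τ) x) (G := x)
          (BasedFunctor.id (overCat Q)) (overMap τ) (Iso.refl _)) := by
  let c := pullback.fst (p ≫ s) s
  let g := pullback.snd (p ≫ s) s
  have sq : IsPullback c g (p ≫ s) s := IsPullback.of_hasPullback _ _
  let d : Q ⟶ pullback (p ≫ s) s := pullback.lift (𝟙 Q) p (Category.id_comp _)
  have hdc : d ≫ c = 𝟙 Q := pullback.lift_fst _ _ _
  have hdg : d ≫ g = p := pullback.lift_snd _ _ _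
  have hκ := isEquivOver_pullbackLift sq (sqCell s p c g sq.w)
  refine ⟨_, c, g, d, chart x (overMap s) (overMap t) α (overMap c) (overMap g) (overMap (p ≫ s))
      (sqCell s p c g sq.w) (BasedFunctor.comp (overMap τ) x) (targetCell x (overMap s) (overMap t) α (overMap (p ≫ s)) (overMap p) (overMap τ)
        (overMapComp p s) (tgtComp t p τ hτ)), sq, hdc, hdg,
    chart_with _ _ _ _ _ _ _ _ _ _ hκ hρe, chart_with _ _ _ _ _ _ _ _ _ _ hκ hρs,
    ⟨Iso.refl (overMap c)⟩, ⟨overMapComp g t⟩, ?_⟩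
  let a : BasedFunctor.comp (overMap d) (overMap c) ≅ BasedFunctor.id (overCat Q) :=
    overMapComp d c ≪≫ eqToIso (congrArg overMap hdc) ≪≫
      BasedNatIso.mkNatIso (NatIso.ofComponents (fun h : Over Q => Over.isoMk (Iso.refl _) (by simp; rfl))
        (fun f => Over.OverMorphism.ext (by exact (Category.comp_id _).trans (Category.id_comp _).symm)))
        (fun h => IsHomLift.of_fac' _ _ _ rfl rfl (by simp; rfl))
  let b : BasedFunctor.comp (overMap d) (BasedFunctor.comp (overMap g) (overMap t)) ≅ overMap τ :=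
    BasedBasic.isoWhiskerRight (overMapComp d g) (overMap t) ≪≫ overMapComp (d ≫ g) t ≪≫
      eqToIso (congrArg overMap (by rw [hdg, hτ]))
  have k := key x s t α p τ hτ c g sq.w d hdc hdg a b
  exact ⟨{
    hom := StkFp.fpHom a.hom b.hom (fun h => (Category.comp_id _).trans (k h))
    inv := StkFp.fpHom a.inv b.inv (fun h => by
      change x.map ((overMap τ).map (appIso a h).inv) ≫
        (appIso (chartCell x (overMap s) (overMap t) α (overMap c) (overMap g) (overMap (p ≫ s))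
          (sqCell s p c g sq.w) (BasedFunctor.comp (overMap τ) x) (targetCell x (overMap s) (overMap t) α (overMap (p ≫ s)) (overMap p) (overMap τ)
        (overMapComp p s) (tgtComp t p τ hτ)))
          ((overMap d).obj h)).hom = 𝟙 _ ≫ x.map (appIso b h).inv
      rw [Category.id_comp, ← cancel_mono (x.map (appIso b h).hom), Category.assoc, ← k,
        ← Functor.map_comp, ← Functor.map_comp, Iso.inv_hom_id, ← Functor.map_comp, Iso.inv_hom_id]
      exact congrArg x.map ((overMap τ).toFunctor.map_id _))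
    hom_inv_id := StkBasic.hom_ext fun h => FibProd.hom_ext (appIso a h).hom_inv_id (appIso b h).hom_inv_id
    inv_hom_id := StkBasic.hom_ext fun h => FibProd.hom_ext (appIso a h).inv_hom_id (appIso b h).inv_hom_id }⟩

end Main

end Groth.Agent.Lib.AlgStack.SliceChart
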