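import Groth.Agent.Lib.AlgStack.Stabilizer
import Groth.Agent.Lib.AlgStack.SetoidalApps

/-!
# Trivial stabilizers at geometric points: algebraic spaces and representable morphisms
-/

set_option autoImplicit false
set_option backward.isDefEq.respectTransparency false
set_option backward.isDefEq.respectTransparency.types false

universe u

open CategoryTheory CategoryTheory.Limits AlgebraicGeometry Opposite

namespace Groth.Agent.Lib.AlgStack.Stabilizer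

open BasedBasic
open FibCat (IsFibGrpd)
open AlgSt (RepByAlgSp RepByAlgSp1 IsAlgStack IsDM)

variable {S : Scheme.{u}} {𝒳 𝒴 : AlgSt.Cat S}

/-- A geometric point above every point. -/
theorem exists_geometric {T : Over S} (t : ↥T.left) :
    ∃ (K : Type u) (_ : Field K) (_ : IsAlgClosed K) (s : Spec (CommRingCat.of K) ⟶ S)
      (e : Over.mk s ⟶ T), t ∈ Set.range e.left := by
  let F : Type u := T.left.residueField t
  let K := AlgebraicClosure F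
  let φ : T.left.residueField t ⟶ CommRingCat.of K := CommRingCat.ofHom (algebraMap F K)
  let ε := Spec.map φ ≫ T.left.fromSpecResidueField t
  refine ⟨K, inferInstance, inferInstance, ε ≫ T.hom, Over.homMk ε, IsLocalRing.closedPoint K, ?_⟩
  change ε (IsLocalRing.closedPoint K) = t
  simp [ε]

/-- An automorphism over the identity killed at geometric points is trivial. -/
theorem eq_id_of_geometric (h : IsFibGrpd 𝒳.p) (hΔ : AlgSt.IsDMOver 𝒳) {a : 𝒳.obj} (θ : a ⟶ a)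
    (hθ : 𝒳.p.map θ = 𝟙 (𝒳.p.obj a))
    (hg : ∀ (K : Type u) [Field K] [IsAlgClosed K] (s : Spec (CommRingCat.of K) ⟶ S) (c : 𝒳.obj)
      (χ : c ⟶ a) (θ' : c ⟶ c), 𝒳.p.obj c = Over.mk s → 𝒳.p.IsHomLift (𝟙 (𝒳.p.obj c)) θ' →
      θ' ≫ χ = χ ≫ θ → θ' = 𝟙 c) : θ = 𝟙 a := by
  refine eq_id_of_pointwise h hΔ θ hθ fun t => ?_
  obtain ⟨K, _, _, s, e, he⟩ := exists_geometric t
  obtain ⟨c, χ, hχ⟩ := Fibred.Descent.exists_lift h (x := a) rfl e
  have hθl : 𝒳.p.IsHomLift (𝟙 (𝒳.p.obj a)) θ := hθ ▸ IsHomLift.map 𝒳.p θ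
  have hc : 𝒳.p.obj c = Over.mk s := IsHomLift.domain_eq 𝒳.p e χ
  have hl : 𝒳.p.IsHomLift e (χ ≫ θ) := by
    have : 𝒳.p.IsHomLift (e ≫ 𝟙 (𝒳.p.obj a)) (χ ≫ θ) := inferInstance
    rwa [Category.comp_id] at this
  obtain ⟨θ', hθ', e'⟩ := Fibred.Descent.exists_factor h χ hχ _ hl
  refine ⟨_, e, c, χ, he, hχ, ?_⟩
  have h1 : 𝒳.p.IsHomLift (𝟙 (𝒳.p.obj c)) θ' := by rw [hc]; exact hθ'
  rw [← e', hg K s c χ θ' hc h1 e', Category.id_comp]

/-- Trivial stabilizers at geometric points: the stack is an algebraic space. -/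
theorem repByAlgSp_of_trivial (h𝒳 : IsAlgStack Scheme.fppfPrecoverage 𝒳)
    (htriv : ∀ (K : Type u) [Field K] [IsAlgClosed K] (s : Spec (CommRingCat.of K) ⟶ S) (x : 𝒳.obj)
      (_ : 𝒳.p.obj x = Over.mk s) (b : 𝒳.obj) (_ : b ⟶ x) (θ : b ⟶ b),
      𝒳.p.map θ = 𝟙 (𝒳.p.obj b) → θ = 𝟙 b) : RepByAlgSp 𝒳 :=
  Setoidal.repByAlgSp_of_setoidal h𝒳 fun a θ hθ =>
    eq_id_of_geometric h𝒳.isStack.1 (isDMOver_of_trivial h𝒳 htriv) θ hθ fun K _ _ s c _ θ' hc hθ' _ =>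
      htriv K s c hc c (𝟙 c) θ' ((IsHomLift.fac' 𝒳.p (𝟙 (𝒳.p.obj c)) θ').trans (by simp))

/-- A morphism of DM stacks injective on automorphism groups of geometric objects is representable. -/
theorem repByAlgSp1_of_injective (h𝒳 : IsDM Scheme.fppfPrecoverage 𝒳)
    (h𝒴 : IsDM Scheme.fppfPrecoverage 𝒴) (g : 𝒳 ⥤ᵇ 𝒴)
    (hinj : ∀ (k : Type u) [Field k] [IsAlgClosed k] (s : Spec (CommRingCat.of k) ⟶ S) (ξ : 𝒳.obj)
      (_ : 𝒳.p.obj ξ = Over.mk s) (a : ξ ⟶ ξ),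
      𝒳.p.IsHomLift (𝟙 (𝒳.p.obj ξ)) a → g.map a = 𝟙 (g.obj ξ) → a = 𝟙 ξ) : RepByAlgSp1 g := by
  have h1 := h𝒳.1.isStack.1
  have h2 := h𝒴.1.isStack.1
  have : g.toFunctor.Faithful := by
    refine Fibred.StackLocal.faithful_of_vertical g h1 h2 fun a θ hθ hgθ => ?_
    refine eq_id_of_geometric h1 (isDMOver_of_isDM h𝒳) θ
      ((IsHomLift.fac' 𝒳.p (𝟙 (𝒳.p.obj a)) θ).trans (by simp)) fun K _ _ s c χ θ' hc hθ' e => ?_
    refine hinj K s c hc θ' hθ' ?_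
    refine Fibred.Descent.ext_lift h2 (g.map χ) (f := 𝒳.p.map χ) inferInstance
      (g := 𝟙 (𝒳.p.obj c)) inferInstance (IsHomLift.id (g.w_obj c)) ?_
    rw [← g.toFunctor.map_comp, e, g.toFunctor.map_comp, hgθ, Category.id_comp, Category.comp_id]
  exact SetoidalApps.repByAlgSp1_of_faithful h𝒳.1 h𝒴.1 g

end Groth.Agent.Lib.AlgStack.Stabilizer
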