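import Groth.Prelude.Def_AlgSt
import Groth.Agent.Lib.AlgStack.BasedBasic
import Groth.Agent.Lib.Fibred.EquivOver
import Mathlib.CategoryTheory.Sites.IsSheafFor
import Mathlib.CategoryTheory.Sites.SheafOfTypes

/-!
# Stacks: invariance under equivalence, categories of presheaves
-/

set_option autoImplicit false
set_option backward.isDefEq.respectTransparency false
set_option backward.isDefEq.respectTransparency.types false

universe w v₄ u₄ v₃ u₃ v₂ u₂ v u

open CategoryTheory Opposite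

namespace Groth.Agent.Lib.AlgStack.StkBasic

open BasedBasic
open FibCat (IsEquivOver IsFibGrpd overCat)
open Stk (sieveCat sieveIncl resSieve restr ofPsh IsStack IsPrestack IsStackFor IsPrestackFor)

variable {C : Type u} [Category.{v} C]

section Hom

variable {𝒜 : BasedCategory.{v₂, u₂} C} {𝒳 : BasedCategory.{v₃, u₃} C}

theorem hom_ext {Φ Ψ : 𝒜 ⥤ᵇ 𝒳} {α β : Φ ⟶ Ψ} (h : ∀ a, α.toNatTrans.app a = β.toNatTrans.app a) :
    α = β := by
  apply BasedNatTrans.homCategory.ext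
  ext a
  exact h a

/-- A morphism of functors into a category fibred in groupoids is an isomorphism. -/
theorem isIso_hom (hX : IsFibGrpd 𝒳.p) {Φ Ψ : 𝒜 ⥤ᵇ 𝒳} (α : Φ ⟶ Ψ) : IsIso α := by
  have : ∀ a, IsIso (α.toNatTrans.app a) := fun a =>
    have := BasedNatTrans.isHomLift α (a := a) rfl
    isIso_of_isHomLift_id hX (R := 𝒜.p.obj a) _
  have : IsIso α.toNatTrans := NatIso.isIso_of_isIso_app _
  let e := BasedNatIso.mkNatIso (asIso α.toNatTrans) (fun a => BasedNatTrans.isHomLift α rfl)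
  exact ⟨e.inv, e.hom_inv_id, e.inv_hom_id⟩

/-- Morphisms of functors into a category with faithful structure functor are unique. -/
theorem hom_subsingleton [𝒳.p.Faithful] {Φ Ψ : 𝒜 ⥤ᵇ 𝒳} (α β : Φ ⟶ Ψ) : α = β :=
  hom_ext fun a => 𝒳.p.map_injective
    ((IsHomLift.fac' 𝒳.p (𝟙 (𝒜.p.obj a)) (α.toNatTrans.app a)).trans
      (IsHomLift.fac' 𝒳.p (𝟙 (𝒜.p.obj a)) (β.toNatTrans.app a)).symm)

end Hom

section Post

variable {𝒜 : BasedCategory.{v₂, u₂} C} {𝒳 : BasedCategory.{v₃, u₃} C}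
  {𝒴 : BasedCategory.{v₄, u₄} C}

variable (𝒜) in
/-- Composition with a functor on the right. -/
def post (E : 𝒳 ⥤ᵇ 𝒴) : (𝒜 ⥤ᵇ 𝒳) ⥤ (𝒜 ⥤ᵇ 𝒴) where
  obj H := BasedFunctor.comp H E
  map α := BasedCategory.whiskerRight α E
  map_id H := hom_ext fun a => E.toFunctor.map_id _
  map_comp α β := hom_ext fun a => E.toFunctor.map_comp _ _

theorem isEquivalence_post {E : 𝒳 ⥤ᵇ 𝒴} (hE : IsEquivOver E) : (post 𝒜 E).IsEquivalence := by
  obtain ⟨G, ⟨η⟩, ⟨ε⟩⟩ := hE
  exact (CategoryTheory.Equivalence.mk (post 𝒜 E) (post 𝒜 G)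
    (NatIso.ofComponents (fun H => BasedBasic.isoWhiskerLeft H η.symm)
      (fun {H H'} α => hom_ext fun a => η.inv.toNatTrans.naturality (α.toNatTrans.app a)))
    (NatIso.ofComponents (fun H => BasedBasic.isoWhiskerLeft H ε)
      (fun {H H'} α => hom_ext fun a => ε.hom.toNatTrans.naturality (α.toNatTrans.app a)))).isEquivalence_functor

theorem isStackFor_of_isEquivOver {E : 𝒳 ⥤ᵇ 𝒴} (hE : IsEquivOver E) {U : C} {R : Sieve U}
    (h : IsStackFor R 𝒳) : IsStackFor R 𝒴 := by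
  have h' : (resSieve R 𝒳).IsEquivalence := h
  have := isEquivalence_post (𝒜 := sieveCat R) hE
  have := isEquivalence_post (𝒜 := overCat U) hE
  let i : resSieve R 𝒳 ⋙ post (sieveCat R) E ≅ post (overCat U) E ⋙ resSieve R 𝒴 :=
    NatIso.ofComponents (fun H => Iso.refl _) (fun α => (Category.comp_id _).trans (Category.id_comp _).symm)
  have : (post (overCat U) E ⋙ resSieve R 𝒴).IsEquivalence := Functor.isEquivalence_of_iso i
  exact Functor.isEquivalence_of_comp_left (post (overCat U) E) (resSieve R 𝒴)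

theorem isStack_of_isEquivOver {J : GrothendieckTopology C} {E : 𝒳 ⥤ᵇ 𝒴} (hE : IsEquivOver E)
    (h : IsStack J 𝒳) : IsStack J 𝒴 :=
  ⟨Fibred.EquivOver.grpd_target hE h.1, fun _ R hR => isStackFor_of_isEquivOver hE (h.2 R hR)⟩

theorem isStack_iff_of_isEquivOver {J : GrothendieckTopology C} {E : 𝒳 ⥤ᵇ 𝒴} (hE : IsEquivOver E) :
    IsStack J 𝒳 ↔ IsStack J 𝒴 := by
  refine ⟨isStack_of_isEquivOver hE, fun h => ?_⟩
  obtain ⟨G, hG, -, -⟩ := BasedBasic.IsEquivOver.exists_inverse hE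
  exact isStack_of_isEquivOver hG h

end Post

section Presheaf

variable {P : Cᵒᵖ ⥤ Type w} {𝒜 : BasedCategory.{v₂, u₂} C}

theorem faithful_ofPsh : (ofPsh P).p.Faithful := ⟨fun h => Stk.EltObj.hom_ext h⟩

theorem base_eq (Φ : 𝒜 ⥤ᵇ ofPsh P) (a : 𝒜.obj) : (Φ.obj a).base = 𝒜.p.obj a := Φ.w_obj a

/-- The section determined by a functor into the category of a presheaf at an object. -/
def sec (Φ : 𝒜 ⥤ᵇ ofPsh P) (a : 𝒜.obj) : P.obj (op (𝒜.p.obj a)) :=
  P.map (eqToHom (base_eq Φ a).symm).op (Φ.obj a).sec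

theorem map_sec (Φ : 𝒜 ⥤ᵇ ofPsh P) {a b : 𝒜.obj} (f : a ⟶ b) :
    P.map (𝒜.p.map f).op (sec Φ b) = sec Φ a := by
  have := IsHomLift.map 𝒜.p f
  have := BasedFunctor.preserves_isHomLift Φ (𝒜.p.map f) f
  have h : (Φ.map f).hom = _ := IsHomLift.fac' (ofPsh P).p (𝒜.p.map f) (Φ.map f)
  rw [sec, sec, ← (Φ.map f).map_sec, h, ← Functor.map_comp_apply, ← Functor.map_comp_apply,
    ← op_comp, ← op_comp]
  congr 3
  simp

/-- A natural family of sections as a functor into the category of the presheaf. -/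
def ofSec (s : ∀ a : 𝒜.obj, P.obj (op (𝒜.p.obj a)))
    (hs : ∀ {a b : 𝒜.obj} (f : a ⟶ b), P.map (𝒜.p.map f).op (s b) = s a) : 𝒜 ⥤ᵇ ofPsh P where
  toFunctor :=
    { obj := fun a => ⟨𝒜.p.obj a, s a⟩
      map := fun {a b} f => ⟨𝒜.p.map f, hs f⟩
      map_id := fun a => Stk.EltObj.hom_ext (𝒜.p.map_id a)
      map_comp := fun f g => Stk.EltObj.hom_ext (𝒜.p.map_comp f g) }
  w := rfl

theorem sec_ofSec (s : ∀ a : 𝒜.obj, P.obj (op (𝒜.p.obj a)))
    (hs : ∀ {a b : 𝒜.obj} (f : a ⟶ b), P.map (𝒜.p.map f).op (s b) = s a) (a : 𝒜.obj) :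
    sec (ofSec s hs) a = s a := by
  simp [sec, ofSec]

theorem sec_eq_of_hom {Φ Ψ : 𝒜 ⥤ᵇ ofPsh P} (α : Φ ⟶ Ψ) (a : 𝒜.obj) : sec Φ a = sec Ψ a := by
  have : (ofPsh P).p.IsHomLift (𝟙 (𝒜.p.obj a)) (α.toNatTrans.app a) := BasedNatTrans.isHomLift α rfl
  have h : (α.toNatTrans.app a).hom = _ :=
    IsHomLift.fac' (ofPsh P).p (𝟙 (𝒜.p.obj a)) (α.toNatTrans.app a)
  rw [sec, sec, ← (α.toNatTrans.app a).map_sec, h, ← Functor.map_comp_apply, ← op_comp]
  congr 3
  simp

theorem nonempty_iso_of_sec {Φ Ψ : 𝒜 ⥤ᵇ ofPsh P} (h : ∀ a, sec Φ a = sec Ψ a) :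
    Nonempty (Φ ≅ Ψ) := by
  have hh : ∀ a, P.map (eqToHom ((base_eq Φ a).trans (base_eq Ψ a).symm)).op (Ψ.obj a).sec = (Φ.obj a).sec := by
    intro a
    have := congrArg (fun t => P.map (eqToHom (base_eq Φ a)).op t) (h a)
    simp only [sec, ← Functor.map_comp_apply, ← op_comp, eqToHom_trans, eqToHom_refl, op_id,
      Functor.map_id_apply] at this
    exact this.symm
  let e : ∀ a, Φ.obj a ≅ Ψ.obj a := fun a =>
    { hom := ⟨eqToHom ((base_eq Φ a).trans (base_eq Ψ a).symm), hh a⟩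
      inv := ⟨eqToHom ((base_eq Ψ a).trans (base_eq Φ a).symm), by
        rw [← hh a, ← Functor.map_comp_apply, ← op_comp]; simp⟩
      hom_inv_id := Stk.EltObj.hom_ext (by simp)
      inv_hom_id := Stk.EltObj.hom_ext (by simp) }
  refine ⟨BasedNatIso.mkNatIso (NatIso.ofComponents e (fun {a b} f => Stk.EltObj.hom_ext ?_))
    (fun a => IsHomLift.of_fac' _ _ _ (base_eq Φ a) (base_eq Ψ a) (by simp [e]))⟩
  have := IsHomLift.map 𝒜.p f
  have := BasedFunctor.preserves_isHomLift Φ (𝒜.p.map f) f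
  have := BasedFunctor.preserves_isHomLift Ψ (𝒜.p.map f) f
  have h1 : (Φ.map f).hom = _ := IsHomLift.fac' (ofPsh P).p (𝒜.p.map f) (Φ.map f)
  have h2 : (Ψ.map f).hom = _ := IsHomLift.fac' (ofPsh P).p (𝒜.p.map f) (Ψ.map f)
  simp [e, h1, h2]

/-- Sections over a slice are determined by the section at the identity. -/
theorem sec_overCat {U : C} (Φ : overCat U ⥤ᵇ ofPsh P) (g : Over U) :
    sec Φ g = P.map g.hom.op (sec Φ (Over.mk (𝟙 U))) :=
  (map_sec Φ (Over.homMk g.hom (Category.comp_id _) : g ⟶ Over.mk (𝟙 U))).symm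

/-- The functor out of a slice of a section. -/
def ofElt {U : C} (t : P.obj (op U)) : overCat U ⥤ᵇ ofPsh P :=
  ofSec (fun g : Over U => P.map g.hom.op t) (fun {g g' : Over U} f => by
    change P.map f.left.op (P.map g'.hom.op t) = P.map g.hom.op t
    rw [← Functor.map_comp_apply, ← op_comp, Over.w f])

theorem sec_ofElt {U : C} (t : P.obj (op U)) (g : Over U) : sec (ofElt t) g = P.map g.hom.op t := by
  simp [sec, ofElt, ofSec]

theorem isStackFor_ofPsh_iff {U : C} (R : Sieve U) :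
    IsStackFor R (ofPsh P) ↔ Presieve.IsSheafFor P R.arrows := by
  constructor
  · intro h x hx
    have : (resSieve R (ofPsh P)).IsEquivalence := h
    rw [Presieve.compatible_iff_sieveCompatible] at hx
    let Θ : sieveCat R ⥤ᵇ ofPsh P := ofSec (fun a => x a.obj.hom a.property) (fun {a b} f => by
      have := hx b.obj.hom f.hom.left b.property
      have e : f.hom.left ≫ b.obj.hom = a.obj.hom := Over.w f.hom
      rw [show x a.obj.hom a.property = x (f.hom.left ≫ b.obj.hom) (R.downward_closed b.property _) from by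
        congr 1; exact e.symm]
      exact this.symm)
    let e := (resSieve R (ofPsh P)).objObjPreimageIso Θ
    let Φ := (resSieve R (ofPsh P)).objPreimage Θ
    refine ⟨sec Φ (Over.mk (𝟙 U)), fun V f hf => ?_, fun t ht => ?_⟩
    · have h1 := sec_eq_of_hom e.hom ⟨Over.mk f, hf⟩
      change sec Φ (Over.mk f) = sec Θ ⟨Over.mk f, hf⟩ at h1
      rw [sec_overCat, sec_ofSec] at h1
      exact h1
    · obtain ⟨i⟩ := nonempty_iso_of_sec (Φ := (resSieve R (ofPsh P)).obj (ofElt t))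
        (Ψ := (resSieve R (ofPsh P)).obj Φ) (fun a => by
          change sec (ofElt t) a.obj = sec Φ a.obj
          have h1 := sec_eq_of_hom e.hom a
          change sec Φ a.obj = sec Θ a at h1
          rw [h1, sec_ofSec, sec_ofElt]
          exact ht a.obj.hom a.property)
      have h2 := sec_eq_of_hom ((resSieve R (ofPsh P)).preimage i.hom) (Over.mk (𝟙 U))
      rw [sec_ofElt] at h2
      simpa using h2
  · intro h
    have := faithful_ofPsh (P := P)
    have hfaith : (resSieve R (ofPsh P)).Faithful := ⟨fun _ => hom_subsingleton _ _⟩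
    have hfull : (resSieve R (ofPsh P)).Full := ⟨fun {Φ Ψ} m => by
      have key : sec Φ (Over.mk (𝟙 U)) = sec Ψ (Over.mk (𝟙 U)) :=
        h.isSeparatedFor.ext fun V f hf => by
          exact ((sec_overCat Φ (Over.mk f)).symm.trans (sec_eq_of_hom m ⟨Over.mk f, hf⟩)).trans
            (sec_overCat Ψ (Over.mk f))
      obtain ⟨i⟩ := nonempty_iso_of_sec (Φ := Φ) (Ψ := Ψ) fun g => by
        rw [sec_overCat Φ g, sec_overCat Ψ g, key]
      exact ⟨i.hom, hom_subsingleton _ _⟩⟩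
    have hess : (resSieve R (ofPsh P)).EssSurj := ⟨fun Θ => by
      let x : Presieve.FamilyOfElements P R.arrows := fun V f hf => sec Θ ⟨Over.mk f, hf⟩
      have hx : x.SieveCompatible := fun V W f g hf =>
        (map_sec Θ (ObjectProperty.homMk (Over.homMk g rfl) :
          (⟨Over.mk (g ≫ f), R.downward_closed hf g⟩ : (sieveCat R).obj) ⟶ ⟨Over.mk f, hf⟩)).symm
      obtain ⟨t, ht, -⟩ := h x ((Presieve.compatible_iff_sieveCompatible x).2 hx)
      obtain ⟨i⟩ := nonempty_iso_of_sec (Φ := (resSieve R (ofPsh P)).obj (ofElt t)) (Ψ := Θ)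
        fun a => by
          change sec (ofElt t) a.obj = sec Θ a
          rw [sec_ofElt]
          exact ht a.obj.hom a.property
      exact ⟨ofElt t, ⟨i⟩⟩⟩
    exact { }

theorem isStack_ofPsh_iff (J : GrothendieckTopology C) (P : Cᵒᵖ ⥤ Type w) :
    IsStack J (ofPsh P) ↔ Presieve.IsSheaf J P :=
  ⟨fun h _ R hR => (isStackFor_ofPsh_iff R).1 (h.2 R hR),
    fun h => ⟨Stk.isFibGrpd_ofPsh P, fun _ R hR => (isStackFor_ofPsh_iff R).2 (h R hR)⟩⟩

/-- The slice as the category of the representable presheaf. -/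
def overToYoneda (U : C) : overCat U ⥤ᵇ ofPsh (yoneda.obj U) where
  toFunctor :=
    { obj := fun g : Over U => ⟨g.left, g.hom⟩
      map := fun {g g' : Over U} f => ⟨f.left, Over.w f⟩ }
  w := rfl

/-- The category of the representable presheaf as the slice. -/
def yonedaToOver (U : C) : ofPsh (yoneda.obj U) ⥤ᵇ overCat U where
  toFunctor :=
    { obj := fun a => Over.mk a.sec
      map := fun {a b} f => Over.homMk f.hom f.map_sec }
  w := rfl

theorem isEquivOver_overToYoneda (U : C) : IsEquivOver (overToYoneda U) :=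
  ⟨yonedaToOver U, ⟨eqToIso rfl⟩, ⟨eqToIso rfl⟩⟩

theorem isStack_overCat_iff (J : GrothendieckTopology C) (U : C) :
    IsStack J (overCat U) ↔ Presieve.IsSheaf J (yoneda.obj U) :=
  (isStack_iff_of_isEquivOver (isEquivOver_overToYoneda U)).trans (isStack_ofPsh_iff J _)

end Presheaf

end Groth.Agent.Lib.AlgStack.StkBasic
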