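import Groth.Agent.Lib.AlgStack.Space
import Groth.Agent.Lib.AlgStack.StkFp

/-!
# Stack property and representability by algebraic spaces
-/

set_option autoImplicit false
set_option backward.isDefEq.respectTransparency false
set_option backward.isDefEq.respectTransparency.types false

universe u

open CategoryTheory CategoryTheory.Limits AlgebraicGeometry Opposite

namespace Groth.Agent.Lib.AlgStack.StkRep

open BasedBasic Rep Space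
open FibCat (IsEquivOver IsFibGrpd fp fpFst overCat)
open AlgSt (ofSp RepByAlgSp RepByAlgSp1)

variable {S : Scheme.{u}}

theorem isStack_ofSp (F : AlgSp.Sp S) : Stk.IsStack (AlgSp.J S) (ofSp F) :=
  (StkBasic.isStack_ofPsh_iff _ _).2 ((isSheaf_iff_isSheaf_of_type _ _).1 F.property)

theorem isStack_of_repByAlgSp {𝒳 : AlgSt.Cat S} (h : RepByAlgSp 𝒳) : Stk.IsStack (AlgSp.J S) 𝒳 := by
  obtain ⟨F, e, he⟩ := h
  exact StkBasic.isStack_of_isEquivOver he (isStack_ofSp F.obj)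

/-- A category representable by algebraic spaces over a stack is a stack. -/
theorem isStack_of_repByAlgSp1 {𝒳 𝒴 : AlgSt.Cat S} (h𝒳 : IsFibGrpd 𝒳.p)
    (h𝒴 : Stk.IsStack (AlgSp.J S) 𝒴) {j : 𝒳 ⥤ᵇ 𝒴} (hj : RepByAlgSp1 j) :
    Stk.IsStack (AlgSp.J S) 𝒳 := by
  have := faithful_of_repByAlgSp1 h𝒳 h𝒴.1 hj
  refine ⟨h𝒳, fun U R hR => StkFp.isStackFor_of_relative h𝒳 h𝒴.1 j (h𝒴.2 R hR) fun y => ?_⟩
  obtain ⟨F, e, he⟩ := hj U y
  exact (StkBasic.isStack_of_isEquivOver he (isStack_ofSp F.obj)).2 R hR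

theorem isStack_fp_of_repByAlgSp1 {𝒳 𝒴 𝒵 : AlgSt.Cat S} (h𝒳 : IsFibGrpd 𝒳.p) (h𝒵 : IsFibGrpd 𝒵.p)
    (h𝒴 : Stk.IsStack (AlgSp.J S) 𝒴) {f : 𝒳 ⥤ᵇ 𝒵} (g : 𝒴 ⥤ᵇ 𝒵) (hf : RepByAlgSp1 f) :
    Stk.IsStack (AlgSp.J S) (fp f g) :=
  StkBasic.isStack_of_isEquivOver (FibProd.isEquivOver_swap g f)
    (isStack_of_repByAlgSp1 (FibProd.isFibGrpd_fp h𝒴.1 h𝒳 h𝒵) h𝒴 (repByAlgSp1_fpFst g hf))

end Groth.Agent.Lib.AlgStack.StkRep
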