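import Groth.Agent.Lib.AlgStack.WellNigh
import Groth.Agent.Lib.AlgStack.IsAlgFp
import Groth.Agent.Lib.GrpdQuot.OfEqvRel
import Groth.Agent.Lib.GrpdQuot.Scheme
import Groth.Agent.Lib.AlgSpace.OpenSubExists
import Groth.Agent.Lib.Bootstrap.Cover

/-!
# A well-nigh affine algebraic space is an affine scheme
-/

set_option autoImplicit false
set_option backward.isDefEq.respectTransparency false
set_option backward.isDefEq.respectTransparency.types false

universe u

open CategoryTheory CategoryTheory.Limits AlgebraicGeometry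

namespace Groth.Agent.Lib.AlgStack.WellNigh

open Groth.Agent.Lib.AlgSpace
open AlgSp (Sp yon IsAlgSpace LocP RepWith)
open FibCat (IsEquivOver overCat)
open AlgSt (ofSp ofSpMap ofOverCat toOverCat RepByAlgSpWith)

variable {S : Scheme.{u}}

/-- An algebraic space with a finite locally free surjection from an affine scheme is affine. -/
theorem exists_affine_iso {X : Sp S} (hX : IsAlgSpace X) {U : Over S} (hU : IsAffine U.left)
    (p : (yon S).obj U ⟶ X) (hf : RepWith @IsFinite p) (hfl : RepWith @Flat p)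
    (hfp : RepWith @LocallyOfFinitePresentation p) (hs : RepWith @Surjective p) :
    ∃ O : Over S, IsAffine O.left ∧ Nonempty ((yon S).obj O ≅ X) := by
  obtain ⟨R, s, fst, sq, -⟩ := repWith_exists hf p
  obtain ⟨t, rfl⟩ := (yon S).map_surjective fst
  have h := Bootstrap.isEqvRel_of_kernelPair sq
  have h1 : IsFinite t.left := repWith_property hf sq.flip
  have h2 : Flat t.left := repWith_property hfl sq.flip
  have h3 : LocallyOfFinitePresentation t.left := repWith_property hfp sq.flip
  have h4 : IsFinite s.left := repWith_property hf sq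
  have h5 : Flat s.left := repWith_property hfl sq
  have h6 : LocallyOfFinitePresentation s.left := repWith_property hfp sq
  let G := GrpdQuot.ofEqvRel h
  haveI : IsAffine G.U := hU
  haveI : IsFinite G.s := h4
  haveI : Flat G.s := h5
  haveI : LocallyOfFinitePresentation G.s := h6
  haveI : IsFinite G.t := h1
  haveI : Flat G.t := h2
  haveI : LocallyOfFinitePresentation G.t := h3
  haveI : IsAffine G.R := isAffine_of_isAffineHom G.s
  haveI : Mono G.j := GrpdQuot.mono_j_of_isEqvRel G h
  obtain ⟨q1, q2, q3⟩ := GrpdQuot.toQuot_finLocFree G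
  haveI : Surjective G.toQuot := ⟨GrpdQuot.toQuot_surjective G⟩
  obtain ⟨m, hm, -⟩ := GrpdQuot.exists_desc_scheme G.toQuot (GrpdQuot.isPullback_toQuot G) G.pU
    (G.t_over.trans G.s_over.symm)
  let O : Over S := Over.mk m
  let q : U ⟶ O := Over.homMk G.toQuot hm
  have hq : fppfCover q.left := fppfCover_mk G.toQuot
  haveI := isLocallySurjective_yon_map q hq
  haveI := isLocallySurjective_of_repWith hfl hfp hs
  have sq' : IsPullback t.left s.left q.left q.left := GrpdQuot.isPullback_toQuot G
  have hqq := GrpdQuot.isPullback_yon_of_left sq'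
  obtain ⟨f, hf'⟩ := exists_desc ((yon S).map q) hqq p sq.w
  obtain ⟨g, hg⟩ := exists_desc p sq ((yon S).map q) hqq.w
  refine ⟨O, (inferInstance : IsAffine (Spec _)), ⟨⟨f, g, ?_, ?_⟩⟩⟩
  · rw [← cancel_epi ((yon S).map q), reassoc_of% hf', hg, Category.comp_id]
  · rw [← cancel_epi p, reassoc_of% hg, hf', Category.comp_id]

theorem exists_equivOver {𝒳 : AlgSt.Cat S} (hw : AlgSt.IsWellNighAffine 𝒳)
    (hsp : AlgSt.RepByAlgSp 𝒳) :
    ∃ (U : Over S) (e : AlgSt.ofSch U ⥤ᵇ 𝒳), IsAffine U.left ∧ FibCat.IsEquivOver e := by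
  obtain ⟨U, x, hU, hx⟩ := hw
  obtain ⟨F, e, he⟩ := hsp
  obtain ⟨i, hi, -⟩ := BasedBasic.IsEquivOver.exists_inverse he
  have hπ := H14.Chart.LocQ.rep_postcomp_equiv hi hx
  let UU : AlgSp.Space S := ⟨(yon S).obj U, IsAlgSpace.yon_obj U⟩
  let t : ofSp UU.obj ⥤ᵇ overCat U := toOverCat U
  have ht : IsEquivOver t := Rep.isEquivOver_toOverCat U
  let p : (yon S).obj U ⟶ F.obj := Space.spHom (BasedFunctor.comp t (BasedFunctor.comp x i))
  have key : ∀ {P : MorphismProperty (Sp S)}, Space.RespectsIsoSp P → CompRep.Detected P →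
      (∀ ⦃A B : Sp S⦄ (a : A ⟶ B), IsAlgSpace A → IsAlgSpace B →
        (AlgSp.IsSurjectiveMor ⊓ LocP @Flat ⊓ AlgSp.IsFiniteMor ⊓
          LocP @LocallyOfFinitePresentation) a → P a) → P p := fun hP hd hle =>
    H14.Chart.LocQ.prop_spHom hP hd (G := UU) (F := F) ht (Rep.repByAlgSpWith_mono hπ hle)
  have k1 : AlgSp.IsFiniteMor p := key (H14.Sep.Rep.respectsIsoSp H14.Sep.Main.good_finite.bc)
    H14.Sep.Main.good_finite.fs fun _ _ _ _ _ h => h.1.2
  have hr : RepWith @IsFinite p := AlgSpMor.AffineDescent.isFiniteMor_iff.1 k1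
  have k2 : RepWith @Flat p := AlgSpMor.LocP.repWith_of_locP SourceDescent.Scheme.flat F.property hr.1
    (key (IsAlgFp.respectsIsoSp_locP SourceDescent.Scheme.flat)
      (IsAlgFp.detected_locP SourceDescent.Scheme.flat) fun _ _ _ _ _ h => h.1.1.2)
  have k3 : RepWith @LocallyOfFinitePresentation p := AlgSpMor.LocP.repWith_of_locP
    SourceDescent.Scheme.locallyOfFinitePresentation F.property hr.1
    (key (IsAlgFp.respectsIsoSp_locP SourceDescent.Scheme.locallyOfFinitePresentation)
      (IsAlgFp.detected_locP SourceDescent.Scheme.locallyOfFinitePresentation)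
      fun _ _ _ _ _ h => h.2)
  have k4 : RepWith @Surjective p := repWith_surjective_of_points hr.1
    (key IsAlgFp.respectsIsoSp_surjective IsAlgFp.detected_surjective fun _ _ _ _ _ h => h.1.1.1)
  obtain ⟨O, hO, ⟨ε⟩⟩ := exists_affine_iso F.property hU p hr k2 k3 k4
  exact ⟨O, BasedFunctor.comp (ofSpMap ε.hom) e, hO,
    BasedBasic.IsEquivOver.comp (Space.isEquivOver_ofSpMap ε.hom) he⟩

end Groth.Agent.Lib.AlgStack.WellNigh
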